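import Cfsg.Agent.Lib.BSW.Shape
import Cfsg.Agent.Lib.Char.Integral
import Cfsg.Agent.Lib.Char.Degree

/-!
The numerical data of the Brauer–Suzuki–Wall theorem.
-/

set_option autoImplicit false
set_option linter.unusedSectionVars false
set_option linter.style.haveILetI false

namespace Cfsg.Agent.BSW

open Cfsg Cfsg.Agent.Char
open scoped ComplexConjugate Classical

universe u

variable {G : Type u} [Group G] [Fintype G] {t : G} {K : Subgroup G} {s : G}

noncomputable local instance (K : Subgroup G) : Fintype K := Fintype.ofFinite _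

/-- The numerical data. -/
structure Data (t : G) (K : Subgroup G) (q : ℤ) (a : G → ℤ) : Prop where
  q_eq : q = 1 + 2 * (Nat.card K : ℤ) ∨ q = 1 - 2 * (Nat.card K : ℤ)
  card : (Nat.card G : ℤ) = (Nat.card K : ℤ) * q * (q + 1)
  a_conj : ∀ g x : G, Out K x → a (g * x * g⁻¹) = a x
  a_inv : ∀ x : G, Out K x → a x⁻¹ = a x
  pairs : ∀ x : G, Out K x → 4 * (Nat.card K : ℤ) * (Nat.card (Pairs t x) : ℤ) =
    q * (q + 1) - a x * (q + 1) + (2 * (Nat.card K : ℤ) - 2) * (1 - a x) * q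
  norm : ∀ x : G, Out K x → 2 + 2 * a x * a x + ((Nat.card K : ℤ) - 1) * ((1 - a x) * (1 - a x)) ≤
    2 * (Nat.card (Cz x) : ℤ)
  total : ∑ x ∈ Finset.univ.filter (fun x => Out K x), a x =
    q + ((Nat.card K : ℤ) - 1) * (Nat.card {x : G // orderOf x = 2} : ℤ)

/-- The irreducible character behind a signed one. -/
noncomputable def rep (f : G → ℂ) : IrrCharacter G :=
  if hf : Cfsg.IsIrrCharacter G f then ⟨f, hf⟩
  else if hf' : Cfsg.IsIrrCharacter G (-f) then ⟨-f, hf'⟩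
  else ⟨_, isIrrCharacter_one⟩

theorem Sgn.rep_eq {f : G → ℂ} (hf : Sgn f) :
    (rep f : G → ℂ) = f ∨ (rep f : G → ℂ) = -f := by
  unfold rep
  split_ifs with h1 h2
  · exact Or.inl rfl
  · exact Or.inr rfl
  · exact absurd hf (by rintro (e | e) <;> contradiction)

theorem Sgn.rep_ne {f g : G → ℂ} (hf : Sgn f) (hg : Sgn g) (h : Cfsg.classInner f g = 0) :
    rep f ≠ rep g := by
  intro e
  have e' : (rep f : G → ℂ) = (rep g : G → ℂ) := congrArg Subtype.val e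
  rcases hf.rep_eq with a | a <;> rcases hg.rep_eq with b | b <;> rw [a, b] at e'
  · rw [e', hg.self] at h; norm_num at h
  · rw [e', classInner_neg_left, hg.self] at h; norm_num at h
  · rw [← e', classInner_neg_right, hf.self] at h; norm_num at h
  · rw [neg_inj.1 e', hg.self] at h; norm_num at h

theorem Sgn.rep_term {f : G → ℂ} (hf : Sgn f) (t x : G) :
    (rep f : G → ℂ) t * (rep f : G → ℂ) t * (rep f : G → ℂ) x / (rep f : G → ℂ) 1 =
      f t * f t * f x / f 1 ∧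
    (rep f : G → ℂ) t * (rep f : G → ℂ) t = f t * f t ∧
    Complex.normSq ((rep f : G → ℂ) x) = Complex.normSq (f x) := by
  rcases hf.rep_eq with e | e <;> rw [e]
  · exact ⟨rfl, rfl, rfl⟩
  · refine ⟨?_, ?_, ?_⟩ <;> simp only [Pi.neg_apply, Complex.normSq_neg] <;> ring

theorem isIntegral_gen {f : G → ℂ} (hf : Cfsg.IsGeneralizedCharacter G f) (x : G) :
    IsIntegral ℤ (f x) := by
  obtain ⟨χ, ψ, hχ, hψ, rfl⟩ := hf
  exact (IsCharacter.isIntegral hχ x).sub (IsCharacter.isIntegral hψ x)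

theorem normSq_add_le (c d : ℂ) :
    Complex.normSq (c + d) ≤ 2 * (Complex.normSq c + Complex.normSq d) := by
  simp only [Complex.normSq_apply, Complex.add_re, Complex.add_im]
  nlinarith [sq_nonneg (c.re - d.re), sq_nonneg (c.im - d.im)]

theorem q_cases {k : ℕ} (hk2 : 2 ∣ k) {q j n : ℤ} (hk : 2 ≤ k) (hn : n % 2 = 1)
    (hq : q = 1 + j * k) (h : j * j * n = 2 * q * (q + 1)) (hj : j ≠ 0) : j = 2 ∨ j = -2 := by
  obtain ⟨c, rfl⟩ := hk2
  push_cast at hq
  have hcop : IsCoprime j q := ⟨-(2 * (c : ℤ)), 1, by rw [hq]; ring⟩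
  have hd : j ∣ 2 * (q + 1) := by
    refine hcop.dvd_of_dvd_mul_left (y := q) ⟨j * n, ?_⟩
    linear_combination -h
  have h4 : j ∣ 4 := by
    obtain ⟨e, he⟩ := hd
    exact ⟨e - 4 * (c : ℤ), by linear_combination he - 2 * hq⟩
  have hb := Int.le_of_dvd (by norm_num) h4
  have hb' := Int.le_of_dvd (by norm_num) (neg_dvd.2 h4)
  have hodd : ∀ w : ℤ, n = 2 * w → False := fun w e => by omega
  obtain ⟨e, he⟩ := h4
  have hcases : j = 1 ∨ j = -1 ∨ j = 2 ∨ j = -2 ∨ j = 3 ∨ j = -3 ∨ j = 4 ∨ j = -4 := by omega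
  rcases hcases with rfl | rfl | rfl | rfl | rfl | rfl | rfl | rfl
  · exact absurd (hodd (q * (q + 1)) (by linear_combination h)) id
  · exact absurd (hodd (q * (q + 1)) (by linear_combination h)) id
  · exact Or.inl rfl
  · exact Or.inr rfl
  · omega
  · omega
  · exfalso
    rw [hq] at h
    have e2 : 4 * n = (1 + 8 * (c : ℤ)) * (1 + 4 * (c : ℤ)) := by linarith
    have e3 : (1 + 8 * (c : ℤ)) * (1 + 4 * (c : ℤ)) = 1 + 2 * (6 * c + 16 * c * c) := by ring
    omega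
  · exfalso
    rw [hq] at h
    have e2 : 4 * n = (1 - 8 * (c : ℤ)) * (1 - 4 * (c : ℤ)) := by linarith
    have e3 : (1 - 8 * (c : ℤ)) * (1 - 4 * (c : ℤ)) = 1 + 2 * (-6 * c + 16 * c * c) := by ring
    omega

namespace Hyp

variable (h : Hyp t K s)
include h

variable [Fintype (↥K →* ℂˣ)] {σ : ↥K →* ℂˣ} (hσ : ∀ l : ↥K →* ℂˣ, l⁻¹ = l → l = 1 ∨ l = σ)
  (hσi : σ⁻¹ = σ) (hσ1 : σ ≠ 1) {A : G → ℂ} {B : (↥K →* ℂˣ) → G → ℂ} {C C' : G → ℂ}
  (S : Shape t σ A B C C')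
include hσ hσi hσ1 S

theorem coeff_A {l : ↥K →* ℂˣ} (hl : l ≠ 1) : Cfsg.classInner A (Fl l : G → ℂ) = 1 := by
  have e : Cfsg.classInner A (Vl l : G → ℂ) = 1 := by
    by_cases hls : l = σ
    · rw [hls, S.eqS, classInner_add_right A (A + C), classInner_add_right A A, S.sgnA.self, S.A_C,
        S.A_C', add_zero, add_zero]
    · rw [S.eqV l hl hls, classInner_add_right, S.sgnA.self, S.A_B l hl hls, add_zero]
  rw [Vl, classInner_add_right, S.A_1, add_zero] at e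
  exact e

theorem A_K (x : ↥K) (hx : x ≠ 1) : A (x : G) = -1 := by
  have h1 : ∀ l : ↥K →* ℂˣ, Cfsg.classInner A (Fl l : G → ℂ) * (l x : ℂ) =
      (l x : ℂ) - if l = 1 then 1 else 0 := by
    intro l
    by_cases hl : l = 1
    · subst hl; simp [Fl_triv]
    · rw [if_neg hl, coeff_A h hσ hσi hσ1 S hl, one_mul, sub_zero]
  rw [h.val_K S.sgnA.gen x hx, Finset.sum_congr rfl fun l _ => h1 l, Finset.sum_sub_distrib,
    sum_dual h.comm hx, Finset.sum_ite_eq' Finset.univ, if_pos (Finset.mem_univ _), zero_sub]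

theorem coeff_B {l : ↥K →* ℂˣ} (hl : l ≠ 1) (hls : l ≠ σ) (m : ↥K →* ℂˣ) :
    Cfsg.classInner (B l) (Fl m : G → ℂ) = if m ∈ ({l, l⁻¹} : Finset (↥K →* ℂˣ)) then 1 else 0 := by
  obtain ⟨-, hi1, hi2⟩ := nonreal_inv hσ hσi hl hls
  by_cases hm : m = 1
  · subst hm
    rw [Fl_triv, classInner_zero_right, if_neg]
    simp only [Finset.mem_insert, Finset.mem_singleton, not_or]
    exact ⟨Ne.symm hl, Ne.symm hi1⟩
  have e : Cfsg.classInner (B l) (Fl m : G → ℂ) = Cfsg.classInner (B l) (Vl m : G → ℂ) := by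
    rw [Vl, classInner_add_right, S.B_1 l hl hls, add_zero]
  rw [e]
  by_cases hms : m = σ
  · subst hms
    rw [S.eqS, classInner_add_right (B l) (A + C), classInner_add_right (B l) A,
      Sgn.inner_symm (S.A_B l hl hls), (S.B_C l hl hls).1, (S.B_C l hl hls).2, add_zero, add_zero,
      if_neg]
    simp only [Finset.mem_insert, Finset.mem_singleton, not_or]
    exact ⟨Ne.symm hls, Ne.symm hi2⟩
  rw [S.eqV m hm hms, classInner_add_right, Sgn.inner_symm (S.A_B l hl hls), zero_add]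
  simp only [Finset.mem_insert, Finset.mem_singleton]
  by_cases h1 : m = l
  · subst h1; rw [if_pos (Or.inl rfl), (S.sgnB m hl hls).self]
  by_cases h2 : m = l⁻¹
  · subst h2; rw [if_pos (Or.inr rfl), S.Binv, (S.sgnB l hl hls).self]
  rw [if_neg (by tauto)]
  exact S.B_B l m hl hls hm hms h1 h2

theorem coeff_C {X : G → ℂ} (hX : X = C ∨ X = C') (m : ↥K →* ℂˣ) :
    Cfsg.classInner X (Fl m : G → ℂ) = if m = σ then 1 else 0 := by
  by_cases hm : m = 1
  · subst hm; rw [Fl_triv, classInner_zero_right, if_neg (Ne.symm hσ1)]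
  have e : Cfsg.classInner X (Fl m : G → ℂ) = Cfsg.classInner X (Vl m : G → ℂ) := by
    rw [Vl, classInner_add_right]
    rcases hX with rfl | rfl
    · rw [S.C_1, add_zero]
    · rw [S.C'_1, add_zero]
  rw [e]
  by_cases hms : m = σ
  · rw [if_pos hms, hms, S.eqS, classInner_add_right X (A + C), classInner_add_right X A]
    rcases hX with rfl | rfl
    · rw [Sgn.inner_symm S.A_C, S.sgnC.self, S.C_C', zero_add, add_zero]
    · rw [Sgn.inner_symm S.A_C', S.sgnC'.self, Sgn.inner_symm S.C_C', add_zero, zero_add]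
  · rw [if_neg hms, S.eqV m hm hms, classInner_add_right]
    rcases hX with rfl | rfl
    · rw [Sgn.inner_symm S.A_C, Sgn.inner_symm (S.B_C m hm hms).1, add_zero]
    · rw [Sgn.inner_symm S.A_C', Sgn.inner_symm (S.B_C m hm hms).2, add_zero]

theorem lin_t (l : ↥K →* ℂˣ) : (l ⟨t, h.tK⟩ : ℂ) * (l ⟨t, h.tK⟩ : ℂ) = 1 ∧
    (l⁻¹ ⟨t, h.tK⟩ : ℂ) = (l ⟨t, h.tK⟩ : ℂ) := by
  refine ⟨?_, ?_⟩
  · rw [← Units.val_mul, ← map_mul,
      show (⟨t, h.tK⟩ : ↥K) * ⟨t, h.tK⟩ = 1 from Subtype.ext h.tt, map_one, Units.val_one]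
  · rw [MonoidHom.inv_apply, ← map_inv,
      show (⟨t, h.tK⟩ : ↥K)⁻¹ = ⟨t, h.tK⟩ from Subtype.ext (inv_eq_self h.tt)]

theorem B_t {l : ↥K →* ℂˣ} (hl : l ≠ 1) (hls : l ≠ σ) :
    B l t * B l t = 4 ∧ ∃ c : ℤ, B l 1 = ((c * (Nat.card K : ℤ) + 2 : ℤ) : ℂ) := by
  have hne := (nonreal_inv hσ hσi hl hls).1
  refine ⟨?_, ?_⟩
  · have hτ1 : (⟨t, h.tK⟩ : ↥K) ≠ 1 := fun e => h.t_ne (congrArg Subtype.val e)
    have e := h.val_K (S.sgnB l hl hls).gen ⟨t, h.tK⟩ hτ1
    simp only [coeff_B h hσ hσi hσ1 S hl hls, ite_mul, one_mul, zero_mul, Finset.sum_ite_mem,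
      Finset.univ_inter, Finset.sum_pair (Ne.symm hne), (lin_t h hσ hσi hσ1 S l).2] at e
    rw [e]
    linear_combination 4 * (lin_t h hσ hσi hσ1 S l).1
  · obtain ⟨c, hc⟩ := h.deg_congr (S.sgnB l hl hls).gen
    refine ⟨c, ?_⟩
    simp only [coeff_B h hσ hσi hσ1 S hl hls, Finset.sum_ite_mem, Finset.univ_inter,
      Finset.sum_pair (Ne.symm hne)] at hc
    rw [hc]
    push_cast
    ring

theorem C_t {X : G → ℂ} (hX : X = C ∨ X = C') : X t * X t = 1 := by
  have hτ1 : (⟨t, h.tK⟩ : ↥K) ≠ 1 := fun e => h.t_ne (congrArg Subtype.val e)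
  have hg : Cfsg.IsGeneralizedCharacter G X := by
    rcases hX with rfl | rfl
    exacts [S.sgnC.gen, S.sgnC'.gen]
  have e := h.val_K hg ⟨t, h.tK⟩ hτ1
  simp only [coeff_C h hσ hσi hσ1 S hX, ite_mul, one_mul, zero_mul, Finset.sum_ite_eq',
    Finset.mem_univ, if_true] at e
  rw [e]
  exact (lin_t h hσ hσi hσ1 S σ).1

end Hyp

end Cfsg.Agent.BSW
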