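import Cfsg.Agent.Lib.BSW.Plus
import Cfsg.Agent.Lib.BSW.Data
import Mathlib.GroupTheory.Sylow
import Mathlib.Data.Nat.Factorization.Basic

/-!
The case in which `K` has order two.
-/

set_option autoImplicit false
set_option linter.unusedSectionVars false
set_option linter.style.haveILetI false

namespace Cfsg.Agent.BSW

open Cfsg Cfsg.Agent.Char
open scoped ComplexConjugate Classical

universe u

variable {G : Type u} [Group G] [Fintype G] {t : G} {K : Subgroup G} {s : G}

noncomputable local instance (K : Subgroup G) : Fintype K := Fintype.ofFinite _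

theorem small_arith {a b c R : ℤ} (ha : 4 ∣ a - 3) (hb : 4 ∣ b - 3) (hc : 4 ∣ c - 3)
    (hs : a + b + c = 1) (hR : 1 + a * a + b * b + c * c ≤ R)
    (he : (b * c + a * c + a * b) * R = a * b * c * (R - 32)) : R = 12 ∨ R = 60 := by
  have ha0 : a ≠ 0 := by omega
  have hb0 : b ≠ 0 := by omega
  have hc0 : c ≠ 0 := by omega
  have hR0 : 0 < R := by nlinarith [mul_self_nonneg a, mul_self_nonneg b, mul_self_nonneg c]
  have hbound : R ≤ 96 := by
    by_contra hlt
    push Not at hlt
    have hq : (1 : ℚ) / a + 1 / b + 1 / c = 1 - 32 / R := by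
      have a' : (a : ℚ) ≠ 0 := by exact_mod_cast ha0
      have b' : (b : ℚ) ≠ 0 := by exact_mod_cast hb0
      have c' : (c : ℚ) ≠ 0 := by exact_mod_cast hc0
      have R' : (R : ℚ) ≠ 0 := by exact_mod_cast hR0.ne'
      field_simp
      have := congrArg (fun v : ℤ => (v : ℚ)) he
      push_cast at this
      linear_combination this
    have h1 : (32 : ℚ) / R < 1 / 3 := by
      rw [div_lt_div_iff₀ (by exact_mod_cast hR0) (by norm_num)]
      exact_mod_cast (show 32 * 3 < 1 * R by omega)
    have key : ∀ d : ℤ, 4 ∣ d - 3 → (1 : ℚ) / d ≤ 1 / 3 := by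
      intro d hd
      rcases lt_or_ge d 0 with hneg | hpos
      · have : (1 : ℚ) / d < 0 := div_neg_of_pos_of_neg one_pos (by exact_mod_cast hneg)
        linarith
      · exact div_le_div_of_nonneg_left zero_le_one (by norm_num)
          (by exact_mod_cast (show (3 : ℤ) ≤ d by omega))
    have hneg : ∀ d : ℤ, d < 0 → (1 : ℚ) / d < 0 := fun d hd =>
      div_neg_of_pos_of_neg one_pos (by exact_mod_cast hd)
    rcases (show a < 0 ∨ b < 0 ∨ c < 0 by omega) with hh | hh | hh <;>
      [linarith [hneg a hh, key b hb, key c hc]; linarith [hneg b hh, key a ha, key c hc];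
        linarith [hneg c hh, key a ha, key b hb]]
  have bd : ∀ d : ℤ, d * d ≤ 95 → -9 ≤ d ∧ d ≤ 9 := fun d hd => ⟨by nlinarith, by nlinarith⟩
  obtain ⟨a1, a2⟩ := bd a (by nlinarith [mul_self_nonneg b, mul_self_nonneg c])
  obtain ⟨b1, b2⟩ := bd b (by nlinarith [mul_self_nonneg a, mul_self_nonneg c])
  obtain rfl : c = 1 - a - b := by omega
  have hav : a = -9 ∨ a = -5 ∨ a = -1 ∨ a = 3 ∨ a = 7 := by omega
  have hbv : b = -9 ∨ b = -5 ∨ b = -1 ∨ b = 3 ∨ b = 7 := by omega
  rcases hav with rfl | rfl | rfl | rfl | rfl <;> rcases hbv with rfl | rfl | rfl | rfl | rfl <;>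
    norm_num at he hR ⊢ <;> omega

theorem small_card (h : Hyp t K s) (hk : Nat.card K = 2) :
    Nat.card G = 12 ∨ Nat.card G = 60 := by
  haveI := finite_dual h.comm
  haveI : Fintype (↥K →* ℂˣ) := Fintype.ofFinite _
  obtain ⟨σ, hσ1, hσi, hσ⟩ := h.exists_sigma
  obtain ⟨f, g, g', hf, hg, hg', h1, h2, h3, eS⟩ := h.decomp_three hσ hσi hσ1
  have hperp := h.Vl_perp σ hσ1
  have huniv : (Finset.univ : Finset (↥K →* ℂˣ)) = {1, σ} := by
    refine (Finset.eq_univ_of_card _ ?_).symm
    rw [Finset.card_pair (Ne.symm hσ1), card_dual h.comm, hk]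
  set τ : ↥K := ⟨t, h.tK⟩
  have hτ1 : τ ≠ 1 := fun e => h.t_ne (congrArg Subtype.val e)
  have hστ : (σ τ : ℂ) = -1 := by
    have e := sum_dual (K := K) h.comm hτ1
    rw [huniv, Finset.sum_pair (Ne.symm hσ1), MonoidHom.one_apply, Units.val_one] at e
    linear_combination e
  have hone : Sgn (fun _ : G => (1 : ℂ)) := Or.inl isIrrCharacter_one
  have o1 : Cfsg.classInner f (fun _ => 1) = 0 ∧ Cfsg.classInner g (fun _ => 1) = 0 ∧
      Cfsg.classInner g' (fun _ => 1) = 0 := by
    rw [eS, classInner_add_left, classInner_add_left] at hperp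
    rcases hf.inner_int hone with ⟨e, e'⟩ | ⟨e, e'⟩ | e'
    · rw [e] at h1 h2
      rw [e', Sgn.inner_symm h1, Sgn.inner_symm h2] at hperp
      norm_num at hperp
    · rw [e, classInner_neg_left, neg_eq_zero] at h1 h2
      rw [e', Sgn.inner_symm h1, Sgn.inner_symm h2] at hperp
      norm_num at hperp
    · refine ⟨e', ?_⟩
      refine orth_of_sum hg hg' hone h3 ?_
      rw [classInner_add_left]
      linear_combination hperp - e'
  have hcoef : ∀ x : G → ℂ, x = f ∨ x = g ∨ x = g' → Cfsg.classInner x (Vl σ : G → ℂ) = 1 := by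
    intro x hx
    rw [eS, classInner_add_right x (f + g), classInner_add_right x f]
    rcases hx with rfl | rfl | rfl
    · rw [hf.self, h1, h2]; norm_num
    · rw [hg.self, Sgn.inner_symm h1, h3]; norm_num
    · rw [hg'.self, Sgn.inner_symm h2, Sgn.inner_symm h3]; norm_num
  have hval : ∀ x : G → ℂ, Sgn x → x = f ∨ x = g ∨ x = g' →
      Cfsg.classInner x (fun _ => 1) = 0 → x t = -1 ∧ ∃ d : ℤ, x 1 = d ∧ 4 ∣ d - 3 := by
    intro x hx hx' hx1
    have e := h.val_K hx.gen τ hτ1
    rw [huniv, Finset.sum_pair (Ne.symm hσ1), Fl_triv, classInner_zero_right, zero_mul, zero_add,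
      hστ] at e
    have hF : Cfsg.classInner x (Fl σ : G → ℂ) = 1 := by
      have := hcoef x hx'
      rwa [Vl, classInner_add_right, hx1, add_zero] at this
    rw [hF, one_mul] at e
    have ext : x t = -1 := e
    refine ⟨ext, ?_⟩
    obtain ⟨d, hd⟩ := IsGeneralizedCharacter.exists_one_int hx.gen
    obtain ⟨c, hc⟩ := IsGeneralizedCharacter.exists_classInner_int
      (IsGeneralizedCharacter.restrict hx.gen (Cz t))
      (IsGeneralizedCharacter.of_isCharacter
        (IsIrrCharacter.isCharacter (isIrrCharacter_one (G := ↥(Cz t)))))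
    have hH : Nat.card (Cz t) = 4 := by rw [h.card_H, hk]
    have hall : ∀ y : ↥(Cz t), y ≠ 1 → x (y : G) = -1 := by
      intro y hy
      have hyo : orderOf (y : G) = 2 := by
        by_cases hK : (y : G) ∈ K
        · have hne : (y : G) ≠ 1 := fun e => hy (Subtype.ext e)
          have hd2 := Subgroup.orderOf_dvd_natCard K hK
          rw [hk] at hd2
          exact ((Nat.dvd_prime Nat.prime_two).1 hd2).resolve_left
            fun e => hne (orderOf_eq_one_iff.1 e)
        · exact (h.not_K y.2 hK).1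
      obtain ⟨w, hw⟩ := isConj_iff.1 (h.oneclass t y h.ht hyo)
      rw [← hw, IsGeneralizedCharacter.isClassFunction hx.gen t w, ext]
    refine ⟨d, hd, c, ?_⟩
    rw [Cfsg.classInner] at hc
    simp only [map_one, mul_one] at hc
    rw [← Finset.add_sum_erase _ _ (Finset.mem_univ (1 : ↥(Cz t))),
      Finset.sum_congr rfl fun y hy => hall y (Finset.mem_erase.1 hy).1, Finset.sum_const,
      Finset.card_erase_of_mem (Finset.mem_univ _), Finset.card_univ, ← Nat.card_eq_fintype_card,
      hH, OneMemClass.coe_one, hd] at hc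
    have e2 : ((d - 3 : ℤ) : ℂ) = ((4 * c : ℤ) : ℂ) := by
      push_cast at hc ⊢
      rw [← hc]
      ring
    exact_mod_cast e2
  obtain ⟨hft, a, ha, ha4⟩ := hval f hf (Or.inl rfl) o1.1
  obtain ⟨hgt, b, hb, hb4⟩ := hval g hg (Or.inr (Or.inl rfl)) o1.2.1
  obtain ⟨hgt', c, hc, hc4⟩ := hval g' hg' (Or.inr (Or.inr rfl)) o1.2.2
  have hsum : a + b + c = 1 := by
    have e := h.Vl_one σ
    rw [eS, Pi.add_apply, Pi.add_apply, ha, hb, hc] at e
    exact_mod_cast e
  have he : (b * c + a * c + a * b) * (Nat.card G : ℤ) =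
      a * b * c * ((Nat.card G : ℤ) - 32) := by
    have e := h.W_Vl σ hσ1
    rw [eS, Hyp.W_add, Hyp.W_add, hf.W_eq, hg.W_eq, hg'.W_eq, hft, hgt, hgt', ha, hb, hc, hk,
      neg_mul_neg, one_mul] at e
    have a' : (a : ℂ) ≠ 0 := Int.cast_ne_zero.2 (by omega)
    have b' : (b : ℂ) ≠ 0 := Int.cast_ne_zero.2 (by omega)
    have c' : (c : ℂ) ≠ 0 := Int.cast_ne_zero.2 (by omega)
    have R' : (Nat.card G : ℂ) ≠ 0 := Nat.cast_ne_zero.2 Nat.card_pos.ne'
    field_simp at e
    have : (((b * c + a * c + a * b) * (Nat.card G : ℤ) : ℤ) : ℂ) =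
        ((a * b * c * ((Nat.card G : ℤ) - 32) : ℤ) : ℂ) := by
      push_cast at e ⊢
      linear_combination e
    exact_mod_cast this
  have hR : 1 + a * a + b * b + c * c ≤ (Nat.card G : ℤ) := by
    have e := sum_sq_degree (G := G)
    set one : IrrCharacter G := ⟨fun _ => 1, isIrrCharacter_one⟩ with hone'
    have hne1 : ∀ {x : G → ℂ}, Sgn x → Cfsg.classInner x (fun _ => 1) = 0 → rep x ≠ rep (fun _ : G => (1 : ℂ)) :=
      fun hx hx1 => hx.rep_ne hone hx1
    set T : Finset (IrrCharacter G) :=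
      {rep (fun _ : G => (1 : ℂ)), rep f, rep g, rep g'} with hT
    have e2 : ∑ χ : IrrCharacter G, Complex.normSq ((χ : G → ℂ) 1) = (Nat.card G : ℝ) := by
      have e1 := column_orth_of_isConj (IsConj.refl (1 : G))
      have htop : Nat.card (Subgroup.centralizer ({(1 : G)} : Set G)) = Nat.card G := by
        rw [show Subgroup.centralizer ({(1 : G)} : Set G) = ⊤ from eq_top_iff.2 fun y _ =>
          Subgroup.mem_centralizer_singleton_iff.2 (by simp), Subgroup.card_top]
      rw [htop] at e1
      simp only [Complex.mul_conj] at e1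
      exact_mod_cast e1
    have e3 : ∑ χ ∈ T, Complex.normSq ((χ : G → ℂ) 1) ≤ (Nat.card G : ℝ) := e2 ▸
      Finset.sum_le_sum_of_subset_of_nonneg (Finset.subset_univ T) fun i _ _ => Complex.normSq_nonneg _
    rw [hT, Finset.sum_insert, Finset.sum_insert, Finset.sum_insert, Finset.sum_singleton,
      (hone.rep_term t 1).2.2, (hf.rep_term t 1).2.2, (hg.rep_term t 1).2.2,
      (hg'.rep_term t 1).2.2, ha, hb, hc] at e3
    · simp only [map_one, Complex.normSq_intCast] at e3
      have e4 : (((1 + a * a + b * b + c * c : ℤ)) : ℝ) ≤ (((Nat.card G : ℤ)) : ℝ) := by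
        push_cast
        linarith
      exact_mod_cast e4
    all_goals simp only [Finset.mem_insert, Finset.mem_singleton, not_or]
    · exact hg.rep_ne hg' h3
    · exact ⟨hf.rep_ne hg h1, hf.rep_ne hg' h2⟩
    · exact ⟨(hne1 hf o1.1).symm, (hne1 hg o1.2.1).symm, (hne1 hg' o1.2.2).symm⟩
  rcases small_arith ha4 hb4 hc4 hsum hR he with e | e
  · left; exact_mod_cast e
  · right; exact_mod_cast e

theorem K_exp (h : Hyp t K s) (hk : Nat.card K = 2) : K = Subgroup.zpowers t :=
  (Subgroup.eq_of_le_of_card_ge (Subgroup.zpowers_le.2 h.tK)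
    (by rw [Nat.card_zpowers, h.ht, hk])).symm

theorem out_of_order (h : Hyp t K s) (hk : Nat.card K = 2) {p : ℕ} (hp : p.Prime) (hp2 : p ≠ 2)
    {x : G} (hx : orderOf x = p) : Out K x := by
  refine ⟨fun e => hp.ne_one (by rw [← hx, e, orderOf_one]), fun ⟨g, hg⟩ => ?_⟩
  have h1 := Subgroup.orderOf_dvd_natCard K hg
  rw [show g * x * g⁻¹ = MulAut.conj g x from rfl, MulEquiv.orderOf_eq, hx, hk] at h1
  exact hp2 ((Nat.prime_dvd_prime_iff_eq hp Nat.prime_two).1 h1)

/-- Both `t` and `s` cannot normalize a subgroup of odd prime order. -/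
theorem not_normal (h : Hyp t K s) (hk : Nat.card K = 2) {p : ℕ} (hp : p.Prime) (hp2 : p ≠ 2)
    {x : G} (hx : orderOf x = p) (ht' : t ∈ Subgroup.normalizer (Subgroup.zpowers x : Set G))
    (hs' : s ∈ Subgroup.normalizer (Subgroup.zpowers x : Set G)) : False := by
  have hout := out_of_order h hk hp hp2 hx
  have inv : ∀ u : G, orderOf u = 2 → u ∈ Subgroup.normalizer (Subgroup.zpowers x : Set G) →
      u * x * u⁻¹ = x⁻¹ := by
    intro u hu hun
    refine inverts_of_fpf (Subgroup.zpowers x) (order_two_iff.1 hu).1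
      (fun c hc => (Subgroup.mem_normalizer_iff.1 hun c).1 hc) (fun c hc e => ?_) x
      (Subgroup.mem_zpowers x)
    exact h.out_commutes_invol hout ((Subgroup.zpowers_le.2 (self_mem_Cz x)) hc) hu e
  have et := inv t h.ht ht'
  have es := inv s h.hs hs'
  have hts : orderOf (t * s) = 2 := by
    refine (h.not_K ((Cz t).mul_mem (self_mem_Cz t) h.sH) fun e => h.sK ?_).1
    simpa using K.mul_mem (K.inv_mem h.tK) e
  refine hout.1 (h.out_commutes_invol hout (self_mem_Cz x) hts ?_)
  rw [← mul_inv_eq_iff_eq_mul, show t * s * x * (t * s)⁻¹ = t * (s * x * s⁻¹) * t⁻¹ by group, es,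
    show t * x⁻¹ * t⁻¹ = (t * x * t⁻¹)⁻¹ by group, et, inv_inv]

theorem goal_small (h : Hyp t K s) (hk : Nat.card K = 2) : Goal (G := G) := by
  have hodd : ∀ {p : ℕ}, p.Prime → p ≠ 2 → ∀ x : G, orderOf x = p →
      Odd (Nat.card (Cz x)) ∧ p ∣ Nat.card (Cz x) := fun hp hp2 x hx =>
    ⟨h.out_odd (out_of_order h hk hp hp2 hx),
      hx ▸ Subgroup.orderOf_dvd_natCard (Cz x) (self_mem_Cz x)⟩
  have hindex : ∀ {p : ℕ} [Fact p.Prime], (Nat.card G).factorization p = 1 → ∀ x : G, orderOf x = p →
      (Subgroup.normalizer (Subgroup.zpowers x : Set G)).index % p = 1 := by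
    intro p _ hf x hx
    have hcard : Nat.card (Subgroup.zpowers x) = p ^ (Nat.card G).factorization p := by
      rw [Nat.card_zpowers, hx, hf, pow_one]
    let P : Sylow p G := Sylow.ofCard (Subgroup.zpowers x) hcard
    have e1 := P.card_eq_index_normalizer
    have e2 := card_sylow_modEq_one p G
    rw [e1] at e2
    rw [Nat.ModEq, Nat.one_mod_eq_one.2 (Fact.out : p.Prime).ne_one] at e2
    exact e2
  rcases small_card h hk with hG | hG
  · haveI : Fact (Nat.Prime 3) := ⟨Nat.prime_three⟩
    obtain ⟨x, hx⟩ := exists_prime_orderOf_dvd_card' 3 (G := G) (by rw [hG]; norm_num)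
    have hfac : (Nat.card G).factorization 3 = 1 := by
      rw [hG, show (12 : ℕ) = 3 * 4 by norm_num, Nat.factorization_mul (by norm_num) (by norm_num),
        Finsupp.add_apply, Nat.Prime.factorization_self Nat.prime_three,
        Nat.factorization_eq_zero_of_not_dvd (by norm_num)]
    have hCz : ∀ y : G, orderOf y = 3 → Nat.card (Cz y) = 3 := by
      intro y hy
      obtain ⟨h1, h2⟩ := hodd Nat.prime_three (by norm_num) y hy
      have h3 := Subgroup.card_subgroup_dvd_card (Cz y)
      rw [hG] at h3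
      have h4 := Nat.le_of_dvd (by norm_num) h3
      rw [Nat.odd_iff] at h1
      interval_cases hh : Nat.card (Cz y) <;> omega
    have hQ : Nat.card (Subgroup.zpowers x) = 3 := by rw [Nat.card_zpowers, hx]
    set N := Subgroup.normalizer (Subgroup.zpowers x : Set G) with hN
    have hN3 : N = Subgroup.zpowers x := by
      refine (Subgroup.eq_of_le_of_card_ge Subgroup.le_normalizer ?_).symm
      have hmul := N.card_mul_index
      have h1 := hindex hfac x hx
      rw [← hN] at h1
      have h3 : 3 ∣ Nat.card N := hQ ▸ Subgroup.card_dvd_of_le Subgroup.le_normalizer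
      rw [hG] at hmul
      rw [hQ]
      obtain ⟨w, hw⟩ := h3
      rw [hw] at hmul ⊢
      have hi : N.index ≠ 1 := fun e => by
        rw [Subgroup.index_eq_one] at e
        exact not_normal h hk Nat.prime_three (by norm_num) hx (by rw [← hN, e]; exact Subgroup.mem_top _)
          (by rw [← hN, e]; exact Subgroup.mem_top _)
      have hw4 : w * N.index = 4 := by nlinarith
      have : N.index ≤ 4 := Nat.le_of_dvd (by norm_num) ⟨w, by rw [← hw4]; ring⟩
      interval_cases hh : N.index <;> omega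
    refine ⟨Subgroup.zpowers x, ⊥, by rw [hG, hQ], fun y hy hy1 => ?_, inferInstance,
      by rw [Subgroup.card_bot, hQ], inf_bot_eq _, by rw [sup_bot_eq]; exact hN3,
      fun X hX hX1 => absurd (le_bot_iff.1 hX) hX1⟩
    have hyo : orderOf y = 3 := by
      have := Subgroup.orderOf_dvd_natCard _ hy
      rw [hQ] at this
      exact ((Nat.dvd_prime Nat.prime_three).1 this).resolve_left fun e => hy1 (orderOf_eq_one_iff.1 e)
    refine (Subgroup.eq_of_le_of_card_ge (fun w hw => ?_) (by
      rw [hQ]; exact (hCz y hyo).le)).symm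
    obtain ⟨i, rfl⟩ := Subgroup.mem_zpowers_iff.1 hw
    obtain ⟨j, rfl⟩ := Subgroup.mem_zpowers_iff.1 hy
    exact mem_Cz.2 ((Commute.refl x).zpow_zpow i j).eq
  · haveI : Fact (Nat.Prime 5) := ⟨by norm_num⟩
    have hfac : (Nat.card G).factorization 5 = 1 := by
      rw [hG, show (60 : ℕ) = 5 * 12 by norm_num, Nat.factorization_mul (by norm_num) (by norm_num),
        Finsupp.add_apply, Nat.Prime.factorization_self (by norm_num),
        Nat.factorization_eq_zero_of_not_dvd (by norm_num)]
    have hN : ∀ y : G, orderOf y = 5 →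
        Nat.card (Subgroup.normalizer (Subgroup.zpowers y : Set G)) = 10 := by
      intro y hy
      set N := Subgroup.normalizer (Subgroup.zpowers y : Set G) with hN
      have hmul := N.card_mul_index
      have h1 := hindex hfac y hy
      rw [← hN] at h1
      have h5 : 5 ∣ Nat.card N := by
        rw [← hy, ← Nat.card_zpowers]; exact Subgroup.card_dvd_of_le Subgroup.le_normalizer
      rw [hG] at hmul
      obtain ⟨w, hw⟩ := h5
      rw [hw] at hmul ⊢
      have hi : N.index ≠ 1 := fun e => by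
        rw [Subgroup.index_eq_one] at e
        exact not_normal h hk (by norm_num) (by norm_num) hy (by rw [← hN, e]; exact Subgroup.mem_top _)
          (by rw [← hN, e]; exact Subgroup.mem_top _)
      have hw12 : w * N.index = 12 := by nlinarith
      have hle : N.index ≤ 12 := Nat.le_of_dvd (by norm_num) ⟨w, by rw [← hw12]; ring⟩
      interval_cases hh : N.index <;> omega
    have hCz : ∀ y : G, orderOf y = 5 → Cz y = Subgroup.zpowers y := by
      intro y hy
      refine (Subgroup.eq_of_le_of_card_ge (Subgroup.zpowers_le.2 (self_mem_Cz y)) ?_).symm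
      obtain ⟨h1, h2⟩ := hodd (by norm_num) (by norm_num) y hy
      have hle : Cz y ≤ Subgroup.normalizer (Subgroup.zpowers y : Set G) := by
        have hc : ∀ g ∈ Cz y, ∀ i : ℤ, g * y ^ i * g⁻¹ = y ^ i := fun g hg i => by
          rw [← conj_zpow, mem_Cz'.1 hg]
        intro g hg
        rw [Subgroup.mem_normalizer_iff]
        intro c
        constructor
        · intro hc'
          obtain ⟨i, rfl⟩ := Subgroup.mem_zpowers_iff.1 hc'
          rw [hc g hg i]; exact Subgroup.zpow_mem _ (Subgroup.mem_zpowers y) i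
        · intro hc'
          obtain ⟨i, hi⟩ := Subgroup.mem_zpowers_iff.1 hc'
          have : c = y ^ i := by
            rw [show c = g⁻¹ * (g * c * g⁻¹) * g⁻¹⁻¹ by group, ← hi]
            exact hc g⁻¹ ((Cz y).inv_mem hg) i
          rw [this]; exact Subgroup.zpow_mem _ (Subgroup.mem_zpowers y) i
      have h3 := Subgroup.card_dvd_of_le hle
      rw [hN y hy] at h3
      rw [Nat.card_zpowers, hy]
      have h4 := Nat.le_of_dvd (by norm_num) h3
      rw [Nat.odd_iff] at h1
      interval_cases hh : Nat.card (Cz y) <;> omega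
    obtain ⟨x, hx⟩ := exists_prime_orderOf_dvd_card' 5 (G := G) (by rw [hG]; norm_num)
    haveI : Fact (Nat.Prime 2) := ⟨Nat.prime_two⟩
    obtain ⟨⟨u, huN⟩, hu⟩ := exists_prime_orderOf_dvd_card' 2
      (G := Subgroup.normalizer (Subgroup.zpowers x : Set G)) (by rw [hN x hx]; norm_num)
    rw [← Subgroup.orderOf_coe] at hu
    obtain ⟨g, hg⟩ := isConj_iff.1 (h.oneclass u t hu h.ht)
    set x' := g * x * g⁻¹ with hx'
    have hx'o : orderOf x' = 5 := ((MulAut.conj g).orderOf_eq x).trans hx
    have hQ : Nat.card (Subgroup.zpowers x') = 5 := by rw [Nat.card_zpowers, hx'o]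
    refine goal_of_K h (Subgroup.zpowers x') (by rw [hQ, hk]) (fun y hy hy1 => ?_) ?_
      (by rw [hN x' hx'o, hQ, hk]) (by rw [hG, hk])
    · have hyo : orderOf y = 5 := by
        have := Subgroup.orderOf_dvd_natCard _ hy
        rw [hQ] at this
        exact ((Nat.dvd_prime (by norm_num)).1 this).resolve_left fun e => hy1 (orderOf_eq_one_iff.1 e)
      rw [hCz y hyo]
      exact Subgroup.eq_of_le_of_card_ge (Subgroup.zpowers_le.2 hy)
        (by rw [hQ, Nat.card_zpowers, hyo])
    · rw [K_exp h hk, Subgroup.zpowers_le, ← hCz x' hx'o, ← hg, mem_normalizer_Cz_conj,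
        show g⁻¹ * (g * u * g⁻¹) * g = u by group, hCz x hx]
      exact huN

end Cfsg.Agent.BSW
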