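import Cfsg.Agent.Lib.BSW.MinusMain
import Cfsg.Agent.Lib.BSW.Small

/-!
The Brauer–Suzuki–Wall theorem.
-/

set_option autoImplicit false

namespace Cfsg.Agent.BSW

universe u

theorem main {G : Type u} [Group G] [Finite G] {t : G} {K : Subgroup G} {s : G} (h : Hyp t K s) :
    Goal (G := G) := by
  classical
  haveI := Fintype.ofFinite G
  obtain ⟨c, hc⟩ := h.two_dvd
  by_cases hk : Nat.card K = 2
  · exact goal_small h hk
  · have h4 : 4 ≤ Nat.card K := by
      have := Nat.card_pos (α := K)
      omega
    obtain ⟨q, a, D⟩ := exists_data h h4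
    rcases D.q_eq with e | e
    · exact goal_plus h h4 D e
    · exact goal_minus h h4 D e

end Cfsg.Agent.BSW
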