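import Cfsg.Agent.Lib.BSW.Basic
import Cfsg.Agent.Lib.ZassAbelian.Main
import Cfsg.Agent.Lib.Char.Burnside
import Mathlib.GroupTheory.GroupAction.MultiplePrimitivity

/-!
From the conclusion of the Brauer–Suzuki–Wall theorem to `PSL(2, q)`.
-/

set_option autoImplicit false
set_option linter.style.haveILetI false

namespace Cfsg.Agent.BSW

universe u

open MulAction

variable {G : Type u} [Group G] [Finite G]

theorem mem_of_coprime_of_normal {Q N : Subgroup G} (hQN : Q ≤ N) (hN : N ≤ Subgroup.normalizer (Q : Set G))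
    {d : ℕ} (hd : Nat.card N = Nat.card Q * d) (hco : (Nat.card Q).Coprime d) {x : G} (hx : x ∈ N)
    (ho : orderOf x ∣ Nat.card Q) : x ∈ Q := by
  haveI : (Q.subgroupOf N).Normal := Subgroup.normal_subgroupOf_iff_le_normalizer hQN |>.2 hN
  have hi : (Q.subgroupOf N).index = d := by
    have := (Q.subgroupOf N).card_mul_index
    rw [Nat.card_congr (Subgroup.subgroupOfEquivOfLe hQN).toEquiv, hd] at this
    exact Nat.eq_of_mul_eq_mul_left Nat.card_pos this
  have h1 : orderOf (QuotientGroup.mk (⟨x, hx⟩ : N) : N ⧸ Q.subgroupOf N) ∣ Nat.card Q :=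
    (orderOf_map_dvd (QuotientGroup.mk' (Q.subgroupOf N)) ⟨x, hx⟩).trans (by rwa [Subgroup.orderOf_mk])
  have h2 : orderOf (QuotientGroup.mk (⟨x, hx⟩ : N) : N ⧸ Q.subgroupOf N) ∣ d := by
    rw [← hi, Subgroup.index_eq_card]; exact orderOf_dvd_natCard _
  have := Nat.eq_one_of_dvd_coprimes hco h1 h2
  rwa [orderOf_eq_one_iff, QuotientGroup.eq_one_iff, Subgroup.mem_subgroupOf] at this

/-- A simple group as in the conclusion is `PSL(2, q)`. -/
theorem psl_of_goal [IsSimpleGroup G] (hnc : ¬ IsMulCommutative G) (hg : Goal (G := G)) :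
    ∃ (F : Type) (_ : Field F) (_ : Fintype F),
      Odd (Fintype.card F) ∧ Nonempty (G ≃* Matrix.ProjectiveSpecialLinearGroup (Fin 2) F) := by
  classical
  obtain ⟨Q, D, hcard, hC, -, hDQ, hdisj, hNQ, -⟩ := hg
  set N := Subgroup.normalizer (Q : Set G) with hNdef
  set q := Nat.card Q with hq
  set d := Nat.card D with hd
  have hG : Nat.card G = q * (q + 1) * d := by
    rw [← hDQ, Nat.add_sub_cancel] at hcard
    rw [← hDQ]
    exact Nat.eq_of_mul_eq_mul_left two_pos (by rw [hcard]; ring)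
  have hdpos : 0 < d := Nat.card_pos
  -- the smallest case is solvable
  have hd2 : 2 ≤ d := by
    by_contra hlt
    have e : d = 1 := by omega
    have e3 : q = 3 := by omega
    rw [e, e3] at hG
    exact hnc (by
      haveI := Char.isSolvable_of_card_pq 2 3 Nat.prime_two Nat.prime_three _ G rfl ⟨2, 1, hG⟩
      exact ⟨⟨IsSimpleGroup.comm_iff_isSolvable.2 inferInstance⟩⟩)
  have hQN : Q ≤ N := Subgroup.le_normalizer
  have hNcard : Nat.card N = q * d := by
    have h1 : D ≤ N := hNQ ▸ le_sup_right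
    haveI : (Q.subgroupOf N).Normal := Subgroup.normal_subgroupOf_iff_le_normalizer hQN |>.2 le_rfl
    have hc : Subgroup.IsComplement' (Q.subgroupOf N) (D.subgroupOf N) := by
      refine Subgroup.isComplement'_of_disjoint_and_mul_eq_univ ?_ ?_
      · rw [disjoint_iff, eq_bot_iff]
        intro x hx
        have : (x : G) ∈ Q ⊓ D := hx
        rw [hdisj, Subgroup.mem_bot] at this
        exact Subgroup.mem_bot.2 (Subtype.ext this)
      · rw [← Subgroup.normal_mul, ← Subgroup.subgroupOf_sup hQN h1, ← hNQ, Subgroup.subgroupOf_self,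
          Subgroup.coe_top]
    have h2 := hc.card_mul
    rwa [Nat.card_congr (Subgroup.subgroupOfEquivOfLe hQN).toEquiv,
      Nat.card_congr (Subgroup.subgroupOfEquivOfLe h1).toEquiv, eq_comm] at h2
  have hindex : N.index = q + 1 := by
    have := N.card_mul_index
    rw [hNcard, hG, show q * (q + 1) * d = q * d * (q + 1) by ring] at this
    exact Nat.eq_of_mul_eq_mul_left (Nat.mul_pos Nat.card_pos hdpos) this
  have hco : q.Coprime d := by
    rw [← hDQ]
    exact Nat.coprime_of_dvd' fun p _ h1 h2 => (Nat.dvd_add_right (Dvd.dvd.mul_left h2 2)).1 h1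
  have hcomm : ∀ u ∈ Q, ∀ v ∈ Q, u * v = v * u := by
    intro u hu v hv
    rcases eq_or_ne v 1 with rfl | hv1
    · simp
    · exact Subgroup.mem_centralizer_singleton_iff.1 (by rw [hC v hv hv1]; exact hu)
  -- the action on the cosets of the normaliser
  haveI : Fintype (G ⧸ N) := Fintype.ofFinite _
  set a : G ⧸ N := ((1 : G) : G ⧸ N) with ha
  have hΩ : Nat.card (G ⧸ N) = q + 1 := by rw [← Subgroup.index_eq_card, hindex]
  have hstab : stabilizer G a = N := by
    ext g
    rw [mem_stabilizer_iff, ha, MulAction.Quotient.smul_coe, smul_eq_mul, mul_one, QuotientGroup.eq,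
      mul_one, inv_mem_iff]
  have hQs : Q ≤ stabilizer G a := le_of_le_of_eq hQN hstab.symm
  have hfree : ∀ y : G ⧸ N, y ≠ a → ∀ u ∈ Q, u • y = y → u = 1 := by
    intro y hy u hu huy
    obtain ⟨g, rfl⟩ := QuotientGroup.mk_surjective y
    by_contra hu1
    rw [MulAction.Quotient.smul_coe, smul_eq_mul, QuotientGroup.eq] at huy
    have hm : g⁻¹ * u⁻¹ * g ∈ N := by simpa [mul_assoc] using huy
    have hmQ : g⁻¹ * u⁻¹ * g ∈ Q := by
      refine mem_of_coprime_of_normal hQN le_rfl hNcard hco hm ?_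
      have e : g⁻¹ * u⁻¹ * g = MulAut.conj g⁻¹ u⁻¹ := by simp
      rw [e, MulEquiv.orderOf_eq, orderOf_inv]
      exact Subgroup.orderOf_dvd_natCard Q hu
    have h1 : u⁻¹ ≠ 1 := fun e => hu1 (inv_eq_one.1 e)
    have h2 : g⁻¹ * u⁻¹ * g ≠ 1 := fun e => h1 (by
      calc u⁻¹ = g * (g⁻¹ * u⁻¹ * g) * g⁻¹ := by group
        _ = 1 := by rw [e]; group)
    have hgN : g ∈ N := by
      refine Subgroup.mem_normalizer_iff.2 fun w => ?_
      calc w ∈ Q ↔ w ∈ Cz (g⁻¹ * u⁻¹ * g) := by rw [Cz, hC _ hmQ h2]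
        _ ↔ g * w * g⁻¹ ∈ Cz (g * (g⁻¹ * u⁻¹ * g) * g⁻¹) := (conj_mem_Cz g).symm
        _ ↔ g * w * g⁻¹ ∈ Q := by
          rw [show g * (g⁻¹ * u⁻¹ * g) * g⁻¹ = u⁻¹ by group, Cz, hC _ (Q.inv_mem hu) h1]
    refine hy ?_
    rw [ha, QuotientGroup.eq, mul_one]
    exact N.inv_mem hgN
  have hreg : ∀ y z : G ⧸ N, y ≠ a → z ≠ a → ∃! u : Q, (u : G) • y = z := by
    intro y z hy hz
    have hne : ∀ u : Q, (u : G) • y ≠ a := by
      intro u e
      refine hy ((smul_left_cancel_iff (u : G)).1 (e.trans ?_))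
      exact (mem_stabilizer_iff.1 (hQs u.2)).symm
    let f : Q → {c : G ⧸ N // c ≠ a} := fun u => ⟨(u : G) • y, hne u⟩
    have hinj : Function.Injective f := by
      intro u v huv
      have e : (u : G) • y = (v : G) • y := congrArg Subtype.val huv
      have := hfree y hy ((v : G)⁻¹ * u) (Q.mul_mem (Q.inv_mem v.2) u.2) (by
        rw [mul_smul, e, inv_smul_smul])
      exact Subtype.ext (inv_mul_eq_one.1 this).symm
    have hbij : Function.Bijective f := by
      refine (Nat.bijective_iff_injective_and_card f).2 ⟨hinj, ?_⟩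
      rw [Nat.card_eq_fintype_card (α := {c : G ⧸ N // c ≠ a}), Fintype.card_subtype_compl,
        Fintype.card_subtype_eq, ← Nat.card_eq_fintype_card, hΩ, ← hq, Nat.add_sub_cancel]
    obtain ⟨u, hu⟩ := hbij.2 ⟨z, hz⟩
    exact ⟨u, congrArg Subtype.val hu, fun v hv => hinj (Subtype.ext (hv.trans (congrArg Subtype.val hu).symm))⟩
  haveI : IsPretransitive G (G ⧸ N) := inferInstance
  have h2t : IsMultiplyPretransitive G (G ⧸ N) 2 := by
    rw [MulAction.is_two_pretransitive_iff]
    have key : ∀ {x y z : G ⧸ N}, x = a → y ≠ x → z ≠ x → ∃ g : G, g • x = x ∧ g • y = z := by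
      intro x y z hx hy hz
      subst hx
      obtain ⟨u, hu, -⟩ := hreg y z hy hz
      exact ⟨u, mem_stabilizer_iff.1 (hQs u.2), hu⟩
    intro x y x' y' hxy hxy'
    obtain ⟨g, hg⟩ := exists_smul_eq G x a
    obtain ⟨g', hg'⟩ := exists_smul_eq G x' a
    have h1 : g • y ≠ a := fun e => hxy ((smul_left_cancel_iff g).1 (hg.trans e.symm))
    have h2 : g' • y' ≠ a := fun e => hxy' ((smul_left_cancel_iff g').1 (hg'.trans e.symm))
    obtain ⟨w, hw1, hw2⟩ := key rfl h1 h2
    exact ⟨g'⁻¹ * (w * g), by rw [mul_smul, mul_smul, hg, hw1, inv_smul_eq_iff, hg'],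
      by rw [mul_smul, mul_smul, hw2, inv_smul_smul]⟩
  obtain ⟨b, hb⟩ : ∃ b : G ⧸ N, b ≠ a := by
    haveI : Nontrivial (G ⧸ N) := Finite.one_lt_card_iff_nontrivial.1 (by rw [hΩ]; omega)
    exact exists_ne a
  have hTcard : Nat.card (stabilizer G a ⊓ stabilizer G b : Subgroup G) = d := by
    set T := stabilizer G a ⊓ stabilizer G b with hT
    have hi : (stabilizer G b).relIndex (stabilizer G a) = q := by
      have hTr : MulAction.orbit (stabilizer G a) b = {a}ᶜ := by
        ext c
        constructor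
        · rintro ⟨⟨g, hg⟩, rfl⟩ e
          exact hb ((smul_left_cancel_iff g).1 (((e : g • b = a)).trans (mem_stabilizer_iff.1 hg).symm))
        · intro hc
          obtain ⟨u, hu, -⟩ := hreg b c hb hc
          exact ⟨⟨u, hQs u.2⟩, hu⟩
      have hst : MulAction.stabilizer (stabilizer G a) b = (stabilizer G b).subgroupOf (stabilizer G a) := by
        ext g; simp [Subgroup.mem_subgroupOf, mem_stabilizer_iff]; rfl
      rw [Subgroup.relIndex, ← hst, MulAction.index_stabilizer, hTr, Set.ncard_compl, Set.ncard_singleton,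
        hΩ, Nat.add_sub_cancel]
    have h1 := Subgroup.card_mul_index ((stabilizer G b).subgroupOf (stabilizer G a))
    rw [← Subgroup.relIndex, hi, hstab, hNcard, ← Subgroup.inf_subgroupOf_right] at h1
    rw [Nat.card_congr (Subgroup.subgroupOfEquivOfLe (inf_le_right : stabilizer G b ⊓ N ≤ N)).toEquiv,
      inf_comm] at h1
    rw [hT, hstab]
    exact Nat.eq_of_mul_eq_mul_right (show 0 < q from Nat.card_pos) (by rw [h1, mul_comm q d])
  have hfaith : FaithfulSMul G (G ⧸ N) := by
    constructor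
    intro g g' h
    have hk : (MulAction.toPermHom G (G ⧸ N)).ker = ⊥ := by
      refine (IsSimpleGroup.eq_bot_or_eq_top_of_normal _ inferInstance).resolve_right fun e => hb ?_
      obtain ⟨g, hg⟩ := exists_smul_eq G a b
      rw [← hg]
      have : g ∈ (MulAction.toPermHom G (G ⧸ N)).ker := e ▸ Subgroup.mem_top g
      exact congrArg (fun p : Equiv.Perm (G ⧸ N) => p a) (MonoidHom.mem_ker.1 this)
    exact (MonoidHom.ker_eq_bot_iff _).1 hk (Equiv.ext h)
  have hzg : Cfsg.IsZassenhausGroup G (G ⧸ N) := by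
    refine ⟨hfaith, h2t, ?_, ?_, ?_⟩
    · intro g x y z hxy hyz hxz hx hy hz
      obtain ⟨k, hk⟩ := exists_smul_eq G x a
      have h1 : k • y ≠ a := fun e => hxy ((smul_left_cancel_iff k).1 (hk.trans e.symm))
      have h2 : k • z ≠ a := fun e => hxz ((smul_left_cancel_iff k).1 (hk.trans e.symm))
      set e := k * g * k⁻¹ with he
      have hea : e • a = a := by rw [← hk, he, mul_smul, mul_smul, inv_smul_smul, hx]
      have hey : e • (k • y) = k • y := by rw [he, mul_smul, mul_smul, inv_smul_smul, hy]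
      have hez : e • (k • z) = k • z := by rw [he, mul_smul, mul_smul, inv_smul_smul, hz]
      obtain ⟨u, hu, huniq⟩ := hreg (k • y) (k • z) h1 h2
      have heN : e ∈ N := hstab ▸ mem_stabilizer_iff.2 hea
      have hm : e * (u : G) * e⁻¹ ∈ Q := (Subgroup.mem_normalizer_iff.1 heN _).1 u.2
      have h3 : (⟨_, hm⟩ : Q) = u := huniq _ (by
        show (e * (u : G) * e⁻¹) • (k • y) = k • z
        have hey' : e⁻¹ • (k • y) = k • y := by rw [inv_smul_eq_iff, hey]
        rw [mul_smul, mul_smul, hey', hu, hez])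
      have hu1 : (u : G) ≠ 1 := fun e' => hyz ((smul_left_cancel_iff k).1 (by rw [e', one_smul] at hu; exact hu))
      have heQ : e ∈ Q := by
        rw [← hC u u.2 hu1]
        exact mem_Cz'.2 (congrArg Subtype.val h3)
      exact conj_eq_one_iff.1 (hfree _ h1 e heQ hey)
    · obtain ⟨⟨g, hg⟩, hg1⟩ : ∃ g : (stabilizer G a ⊓ stabilizer G b : Subgroup G), g ≠ 1 := by
        haveI := Finite.one_lt_card_iff_nontrivial.1 (lt_of_lt_of_eq (by omega : 1 < d) hTcard.symm)
        exact exists_ne 1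
      exact ⟨g, fun e => hg1 (Subtype.ext e), a, b, hb.symm, mem_stabilizer_iff.1 hg.1, mem_stabilizer_iff.1 hg.2⟩
    · intro M hM htr
      refine ⟨a, fun e => ?_⟩
      rcases IsSimpleGroup.eq_bot_or_eq_top_of_normal M hM with rfl | rfl
      · obtain ⟨⟨m, hm⟩, hm'⟩ := htr.exists_smul_eq a b
        rw [Subgroup.mem_bot] at hm
        subst hm
        exact hb (hm'.symm.trans (one_smul G a))
      · have hbot : N = ⊥ := (Subgroup.eq_bot_iff_forall _).2 fun g hg => by
          have h1 : (⟨g, trivial⟩ : (⊤ : Subgroup G)) ∈ stabilizer (⊤ : Subgroup G) a :=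
            mem_stabilizer_iff.2 (mem_stabilizer_iff.1 (hstab.symm ▸ hg : g ∈ stabilizer G a))
          exact congrArg Subtype.val ((Subgroup.eq_bot_iff_forall _).1 e _ h1)
        rw [hbot, Subgroup.card_bot] at hNcard
        have : 2 ≤ q * d := le_trans hd2 (Nat.le_mul_of_pos_left d Nat.card_pos)
        omega
  have A : ZassAb.Ab a b Q :=
    { zg := hzg, ne := hb.symm, le := hQs
      normal := fun g hg u hu => (Subgroup.mem_normalizer_iff.1 (hstab ▸ hg : g ∈ N) u).1 hu
      comm := hcomm, reg := hreg }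
  have htwo : Nat.card (Zass.two (G := G) a b) = d := by
    have h1 := A.card_group
    rw [← hq, hG] at h1
    exact (Nat.eq_of_mul_eq_mul_left (Nat.mul_pos Nat.card_pos (Nat.succ_pos q))
      (by rw [h1]; ring : q * (q + 1) * d = q * (q + 1) * Nat.card (Zass.two (G := G) a b))).symm
  rcases A.dichotomy with h | ⟨heq, s, hs, hcase⟩
  · rw [htwo, ← hq] at h
    omega
  have hinv : ∀ k ∈ Zass.two (G := G) a b, s * k * s = k⁻¹ :=
    hcase.elim (fun ho => A.inv_odd heq ho hs) id
  have habK : ∀ k ∈ Zass.two (G := G) a b, ∀ l ∈ Zass.two (G := G) a b, k * l = l * k := by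
    intro k hk l hl
    refine inv_injective ?_
    rw [← hinv _ (mul_mem hk hl), ← hinv _ (mul_mem hl hk)]
    calc s * (k * l) * s = (s * k * s) * (s * l * s) := by
          rw [show s * k * s * (s * l * s) = s * k * (s * s) * l * s by group, hs.sq]; group
      _ = (l * k)⁻¹ := by rw [hinv k hk, hinv l hl]; group
      _ = s * (l * k) * s := (hinv _ (mul_mem hl hk)).symm
  obtain ⟨F, _, _, φ, lam, hφ, hadd, hlam, hact⟩ := A.exists_field heq habK
  obtain ⟨h2, hiso⟩ := A.equiv_psl φ lam hφ hadd hlam hact heq hs hinv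
  exact ⟨F, inferInstance, inferInstance, Nat.odd_iff.2 (FiniteField.odd_card_of_char_ne_two h2), hiso⟩

end Cfsg.Agent.BSW
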