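import Cfsg.Agent.Lib.BSW.Count
import Mathlib.GroupTheory.FixedPointFree
import Mathlib.GroupTheory.Subgroup.Centralizer

/-!
The group theoretic part of the set-up of the Brauer–Suzuki–Wall theorem.
-/

set_option autoImplicit false
set_option linter.unusedSectionVars false

namespace Cfsg.Agent.BSW

universe u

variable {G : Type u} [Group G]

/-- The centralizer of an element. -/
abbrev Cz (x : G) : Subgroup G := Subgroup.centralizer ({x} : Set G)

theorem mem_Cz {x g : G} : g ∈ Cz x ↔ g * x = x * g := Subgroup.mem_centralizer_singleton_iff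

theorem self_mem_Cz (x : G) : x ∈ Cz x := mem_Cz.2 rfl

theorem mem_Cz' {x g : G} : g ∈ Cz x ↔ g * x * g⁻¹ = x := by
  rw [mem_Cz, mul_inv_eq_iff_eq_mul]

theorem mem_Cz_symm {x g : G} : g ∈ Cz x ↔ x ∈ Cz g := by rw [mem_Cz, mem_Cz, eq_comm]

theorem conj_mem_Cz {x a : G} (g : G) : g * a * g⁻¹ ∈ Cz (g * x * g⁻¹) ↔ a ∈ Cz x := by
  rw [mem_Cz, mem_Cz, show g * a * g⁻¹ * (g * x * g⁻¹) = g * (a * x) * g⁻¹ by group,
    show g * x * g⁻¹ * (g * a * g⁻¹) = g * (x * a) * g⁻¹ by group]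
  exact ⟨fun h => mul_left_cancel (mul_right_cancel h), fun h => by rw [h]⟩

theorem Cz_map (x g : G) : (Cz x).map (MulAut.conj g).toMonoidHom = Cz (g * x * g⁻¹) := by
  ext y
  constructor
  · rintro ⟨a, ha, rfl⟩
    exact (conj_mem_Cz g).2 ha
  · intro hy
    refine ⟨g⁻¹ * y * g, (conj_mem_Cz g).1 ?_, by simp [mul_assoc]⟩
    rwa [show g * (g⁻¹ * y * g) * g⁻¹ = y by group]

theorem card_Cz_conj (x g : G) : Nat.card (Cz (g * x * g⁻¹)) = Nat.card (Cz x) := by
  rw [← Cz_map, Subgroup.card_map_of_injective (MulAut.conj g).injective]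

theorem order_two_iff {x : G} : orderOf x = 2 ↔ x * x = 1 ∧ x ≠ 1 := by
  haveI : Fact (Nat.Prime 2) := ⟨Nat.prime_two⟩
  rw [orderOf_eq_prime_iff, pow_two]

theorem order_two_conj {x : G} (g : G) (h : orderOf x = 2) : orderOf (g * x * g⁻¹) = 2 := by
  rw [← h]
  exact (MulAut.conj g).orderOf_eq x

theorem inv_eq_self {x : G} (h : x * x = 1) : x⁻¹ = x := inv_eq_of_mul_eq_one_right h

variable (t : G) (K : Subgroup G) (s : G)

/-- The hypotheses. -/
structure Hyp : Prop where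
  ht : orderOf t = 2
  comm : ∀ a ∈ K, ∀ b ∈ K, a * b = b * a
  le : K ≤ Cz t
  tK : t ∈ K
  hs : orderOf s = 2
  sH : s ∈ Cz t
  sK : s ∉ K
  H_eq : K ⊔ Subgroup.zpowers s = Cz t
  CK : K ⊓ Cz s = Subgroup.zpowers t
  inv : ∀ x ∈ K, s * x * s⁻¹ = x⁻¹
  TI : ∀ g : G, g ∉ Cz t → K ⊓ K.map (MulAut.conj g).toMonoidHom = ⊥
  oneclass : ∀ x y : G, orderOf x = 2 → orderOf y = 2 → IsConj x y

/-- Conjugate into `K`. -/
def InK (x : G) : Prop := ∃ g : G, g * x * g⁻¹ ∈ K

/-- A non-trivial element not conjugate into `K`. -/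
def Out (x : G) : Prop := x ≠ 1 ∧ ¬ InK K x

/-- Inverted by an involution. -/
def Rev (x : G) : Prop := ∃ u : G, orderOf u = 2 ∧ u * x * u⁻¹ = x⁻¹

/-- The ways of writing `x` as a product of two conjugates of `t`. -/
abbrev Pairs (x : G) : Type u := {a : G // IsConj t a ∧ IsConj t (a⁻¹ * x)}

/-- The conclusion. -/
def Goal : Prop :=
  ∃ Q D : Subgroup G, 2 * Nat.card G = Nat.card ↥Q * (Nat.card ↥Q + 1) * (Nat.card ↥Q - 1) ∧
    (∀ x ∈ Q, x ≠ 1 → Subgroup.centralizer ({x} : Set G) = Q) ∧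
    IsMulCommutative ↥D ∧ 2 * Nat.card ↥D + 1 = Nat.card ↥Q ∧ Q ⊓ D = ⊥ ∧
    Subgroup.normalizer (Q : Set G) = Q ⊔ D ∧
    ∀ X : Subgroup G, X ≤ D → X ≠ ⊥ →
      Subgroup.normalizer (X : Set G) = Subgroup.normalizer (D : Set G) ∧
      ∃ u : G, orderOf u = 2 ∧ u ∉ D ∧ (∀ d ∈ D, u * d * u⁻¹ = d⁻¹) ∧
        Subgroup.normalizer (D : Set G) = D ⊔ Subgroup.zpowers u

variable {t K s}

theorem InK.conj {x : G} (h : InK K x) (g : G) : InK K (g * x * g⁻¹) := by
  obtain ⟨a, ha⟩ := h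
  exact ⟨a * g⁻¹, by simpa [mul_assoc] using ha⟩

theorem InK.of_conj {x : G} (g : G) (h : InK K (g * x * g⁻¹)) : InK K x := by
  have := h.conj g⁻¹
  simpa [mul_assoc] using this

theorem InK.inv {x : G} (h : InK K x) : InK K x⁻¹ := by
  obtain ⟨g, hg⟩ := h
  exact ⟨g, by simpa [mul_assoc] using K.inv_mem hg⟩

theorem Out.conj {x : G} (h : Out K x) (g : G) : Out K (g * x * g⁻¹) :=
  ⟨fun e => h.1 (conj_eq_one_iff.1 e), fun e => h.2 (e.of_conj g)⟩

theorem Out.inv {x : G} (h : Out K x) : Out K x⁻¹ :=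
  ⟨fun e => h.1 (inv_eq_one.1 e), fun e => h.2 (by simpa using e.inv)⟩

theorem Rev.conj {x : G} (h : Rev x) (g : G) : Rev (g * x * g⁻¹) := by
  obtain ⟨u, hu, hx⟩ := h
  refine ⟨g * u * g⁻¹, order_two_conj g hu, ?_⟩
  rw [show g * u * g⁻¹ * (g * x * g⁻¹) * (g * u * g⁻¹)⁻¹ = g * (u * x * u⁻¹) * g⁻¹ by group, hx]
  group

namespace Hyp

variable (h : Hyp t K s)
include h

theorem tt : t * t = 1 := (order_two_iff.1 h.ht).1
theorem t_ne : t ≠ 1 := (order_two_iff.1 h.ht).2
theorem ss : s * s = 1 := (order_two_iff.1 h.hs).1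
theorem s_inv : s⁻¹ = s := inv_eq_self h.ss

theorem t_comm {x : G} (hx : x ∈ K) : x * t = t * x := h.comm x hx t h.tK

theorem inv' {x : G} (hx : x ∈ K) : s * x * s = x⁻¹ := by
  have := h.inv x hx
  rwa [h.s_inv] at this

theorem mem_H {g : G} : g ∈ Cz t ↔ g ∈ K ∨ g * s ∈ K := by
  constructor
  · intro hg
    let L : Subgroup G :=
      { carrier := {g | g ∈ K ∨ g * s ∈ K}
        one_mem' := Or.inl K.one_mem
        mul_mem' := by
          intro a b ha hb
          rcases ha with ha | ha <;> rcases hb with hb | hb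
          · exact Or.inl (K.mul_mem ha hb)
          · exact Or.inr (by simpa [mul_assoc] using K.mul_mem ha hb)
          · refine Or.inr ?_
            have e : a * b * s = (a * s) * (s * b * s) := by
              simp only [← mul_assoc]; rw [mul_assoc a s s, h.ss, mul_one]
            rw [e, h.inv' hb]
            exact K.mul_mem ha (K.inv_mem hb)
          · refine Or.inl ?_
            have e : a * b = (a * s) * (s * (b * s) * s) := by
              calc a * b = a * (s * s) * b * (s * s) := by rw [h.ss]; simp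
                _ = _ := by group
            rw [e, h.inv' hb]
            exact K.mul_mem ha (K.inv_mem hb)
        inv_mem' := by
          intro a ha
          rcases ha with ha | ha
          · exact Or.inl (K.inv_mem ha)
          · refine Or.inr ?_
            have e : a⁻¹ * s = s * (a * s)⁻¹ * s := by
              rw [mul_inv_rev, ← mul_assoc, h.s_inv, h.ss, one_mul]
            rw [e, h.inv' (K.inv_mem ha), inv_inv]
            exact ha }
    have hle : K ⊔ Subgroup.zpowers s ≤ L := sup_le (fun x hx => Or.inl hx)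
      (Subgroup.zpowers_le.2 (Or.inr (by rw [h.ss]; exact K.one_mem)))
    rw [h.H_eq] at hle
    exact hle hg
  · rintro (hg | hg)
    · exact h.le hg
    · have e : g = g * s * s := by rw [mul_assoc, h.ss, mul_one]
      rw [e]
      exact (Cz t).mul_mem (h.le hg) h.sH

theorem not_K {g : G} (hg : g ∈ Cz t) (hgK : g ∉ K) :
    orderOf g = 2 ∧ ∀ x ∈ K, g * x * g⁻¹ = x⁻¹ := by
  have ha : g * s ∈ K := (h.mem_H.1 hg).resolve_left hgK
  have hg1 : g * g = 1 := by
    calc g * g = (g * s) * (s * (g * s) * s) := by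
          calc g * g = g * (s * s) * g * (s * s) := by rw [h.ss]; simp
            _ = _ := by group
      _ = 1 := by rw [h.inv' ha, mul_inv_cancel]
  refine ⟨order_two_iff.2 ⟨hg1, fun e => hgK (e ▸ K.one_mem)⟩, fun x hx => ?_⟩
  calc g * x * g⁻¹ = (g * s) * (s⁻¹ * x * s) * (g * s)⁻¹ := by group
    _ = (g * s) * x⁻¹ * (g * s)⁻¹ := by rw [h.s_inv, h.inv' hx]
    _ = x⁻¹ := by rw [h.comm _ ha _ (K.inv_mem hx), mul_inv_cancel_right]

theorem conj_H {g : G} (hg : g ∈ Cz t) {x : G} (hx : x ∈ K) :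
    g * x * g⁻¹ = x ∨ g * x * g⁻¹ = x⁻¹ := by
  by_cases hgK : g ∈ K
  · exact Or.inl (by rw [h.comm g hgK x hx, mul_inv_cancel_right])
  · exact Or.inr ((h.not_K hg hgK).2 x hx)

theorem conj_mem_K {g : G} (hg : g ∈ Cz t) {x : G} (hx : x ∈ K) : g * x * g⁻¹ ∈ K := by
  rcases h.conj_H hg hx with e | e <;> rw [e]
  exacts [hx, K.inv_mem hx]

theorem invol_K {x : G} (hx : x ∈ K) (h2 : x * x = 1) : x = 1 ∨ x = t := by
  have : x ∈ K ⊓ Cz s := ⟨hx, by
    show x ∈ Cz s
    rw [mem_Cz_symm, mem_Cz', h.inv x hx, inv_eq_self h2]⟩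
  rw [h.CK, Subgroup.mem_zpowers_iff] at this
  obtain ⟨i, e⟩ := this
  rw [← zpow_mod_orderOf, h.ht] at e
  rcases (show i % (2 : ℕ) = 0 ∨ i % (2 : ℕ) = 1 by omega) with e1 | e1 <;> rw [e1] at e
  · exact Or.inl (by rw [← e, zpow_zero])
  · exact Or.inr (by rw [← e, zpow_one])

theorem invol_H {x : G} : (x ∈ Cz t ∧ orderOf x = 2) ↔ x = t ∨ (x ∈ Cz t ∧ x ∉ K) := by
  constructor
  · rintro ⟨hx, h2⟩
    by_cases hK : x ∈ K
    · exact Or.inl ((h.invol_K hK (order_two_iff.1 h2).1).resolve_left (order_two_iff.1 h2).2)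
    · exact Or.inr ⟨hx, hK⟩
  · rintro (rfl | ⟨hx, hK⟩)
    · exact ⟨self_mem_Cz _, h.ht⟩
    · exact ⟨hx, (h.not_K hx hK).1⟩

theorem ti {x g : G} (hx : x ∈ K) (hx1 : x ≠ 1) (hg : g * x * g⁻¹ ∈ K) : g ∈ Cz t := by
  by_contra hgn
  have hm : g * x * g⁻¹ ∈ K ⊓ K.map (MulAut.conj g).toMonoidHom :=
    ⟨hg, x, hx, by simp⟩
  rw [h.TI g hgn, Subgroup.mem_bot, conj_eq_one_iff] at hm
  exact hx1 hm

theorem Cz_K {x : G} (hx : x ∈ K) (hx1 : x ≠ 1) (hxt : x ≠ t) : Cz x = K := by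
  refine le_antisymm (fun g hg => ?_) fun g hg => mem_Cz.2 (h.comm g hg x hx)
  rw [mem_Cz'] at hg
  by_contra hgK
  have hgH := h.ti hx hx1 (by rw [hg]; exact hx)
  have e := (h.not_K hgH hgK).2 x hx
  rw [hg] at e
  have h2 : x * x = 1 := by
    nth_rewrite 1 [e]
    exact inv_mul_cancel x
  rcases h.invol_K hx h2 with e1 | e1
  exacts [hx1 e1, hxt e1]

theorem normalizer_eq {X : Subgroup G} (hX : X ≤ K) (h1 : X ≠ ⊥) :
    Subgroup.normalizer (X : Set G) = Cz t := by
  refine le_antisymm (fun g hg => ?_) fun g hg => ?_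
  · obtain ⟨x, hx, hx1⟩ := X.bot_or_exists_ne_one.resolve_left h1
    exact h.ti (hX hx) hx1 (hX ((Subgroup.mem_normalizer_iff.1 hg x).1 hx))
  · rw [Subgroup.mem_normalizer_iff]
    intro x
    constructor
    · intro hx
      rcases h.conj_H hg (hX hx) with e | e <;> rw [e]
      exacts [hx, X.inv_mem hx]
    · intro hx
      rcases h.conj_H ((Cz t).inv_mem hg) (hX hx) with e | e
      · rw [show g⁻¹ * (g * x * g⁻¹) * g⁻¹⁻¹ = x by group] at e
        rw [e]; exact hx
      · rw [show g⁻¹ * (g * x * g⁻¹) * g⁻¹⁻¹ = x by group] at e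
        rw [e]; exact X.inv_mem hx

theorem two_dvd [Finite G] : 2 ∣ Nat.card K :=
  h.ht ▸ Subgroup.orderOf_dvd_natCard K h.tK

theorem card_H [Finite G] : Nat.card (Cz t) = 2 * Nat.card K := by
  classical
  let e : K ⊕ K → Cz t := fun
    | Sum.inl a => ⟨a, h.le a.2⟩
    | Sum.inr a => ⟨a * s, (Cz t).mul_mem (h.le a.2) h.sH⟩
  have hn : ∀ a : G, a ∈ K → a * s ∉ K := fun a ha e1 =>
    h.sK (by simpa using K.mul_mem (K.inv_mem ha) e1)
  have hb : Function.Bijective e := by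
    constructor
    · rintro (a | a) (b | b) hab <;> have hv := congrArg Subtype.val hab <;>
        simp only [e] at hv
      · exact congrArg Sum.inl (Subtype.ext hv)
      · exact absurd (hv ▸ a.2) (hn b b.2)
      · exact absurd (hv ▸ b.2) (hn a a.2)
      · exact congrArg Sum.inr (Subtype.ext (mul_right_cancel hv))
    · rintro ⟨g, hg⟩
      rcases h.mem_H.1 hg with hK | hK
      · exact ⟨Sum.inl ⟨g, hK⟩, rfl⟩
      · exact ⟨Sum.inr ⟨g * s, hK⟩, Subtype.ext (by simp [e, mul_assoc, h.ss])⟩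
  rw [← Nat.card_congr (Equiv.ofBijective e hb), Nat.card_sum, two_mul]

theorem invol_conjSet : conjSet ({t} : Set G) = {x : G | orderOf x = 2} := by
  ext x
  constructor
  · rintro ⟨g, a, rfl, rfl⟩
    exact order_two_conj g h.ht
  · intro hx
    obtain ⟨c, hc⟩ := isConj_iff.1 (h.oneclass t x h.ht hx)
    exact ⟨c, t, rfl, hc.symm⟩

theorem isConj_t {x : G} : IsConj t x ↔ orderOf x = 2 :=
  ⟨fun hc => by obtain ⟨c, rfl⟩ := isConj_iff.1 hc; exact order_two_conj c h.ht,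
    fun hx => h.oneclass t x h.ht hx⟩

theorem card_invol [Finite G] :
    Nat.card {x : G // orderOf x = 2} * (2 * Nat.card K) = Nat.card G := by
  have hc := card_conjSet ({t} : Set G) (Cz t)
    (fun m hm a ha => by rw [Set.mem_singleton_iff.1 ha]; exact mem_Cz'.1 hm)
    (fun g a ha hg => by
      rw [Set.mem_singleton_iff.1 ha, Set.mem_singleton_iff] at hg
      exact mem_Cz'.2 hg)
  rw [h.invol_conjSet, h.card_H, Nat.card_unique (α := ({t} : Set G)), mul_one] at hc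
  exact hc

theorem invol_odd [Finite G] : Odd (Nat.card {x : G // orderOf x = 2}) := by
  classical
  haveI := Fintype.ofFinite G
  let σ : Equiv.Perm {x : G // orderOf x = 2} :=
    (MulAut.conj t).toEquiv.subtypeEquiv fun x => by
      simp only [MulEquiv.toEquiv_eq_coe, MulEquiv.coe_toEquiv]
      rw [(MulAut.conj t).orderOf_eq x]
  have hσ : σ ^ 2 ^ 1 = 1 := by
    ext x
    rw [pow_one, pow_two, Equiv.Perm.mul_apply, Equiv.Perm.one_apply]
    simp only [σ, Equiv.subtypeEquiv_apply, MulEquiv.toEquiv_eq_coe, MulEquiv.coe_toEquiv,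
      MulAut.conj_apply]
    rw [inv_eq_self h.tt, show t * (t * (x : G) * t) * t = (t * t) * x * (t * t) by group, h.tt,
      one_mul, mul_one]
  have hmod : (Finset.univ.filter fun x => σ x = x).card ≡
      Fintype.card {x : G // orderOf x = 2} [MOD 2] := by
    haveI : Fact (Nat.Prime 2) := ⟨Nat.prime_two⟩
    refine Eq.trans (congrArg (· % 2) ?_) (Equiv.Perm.card_compl_support_modEq (p := 2) hσ)
    congr 1
    ext x
    simp [Equiv.Perm.mem_support]
  have hcount : (Finset.univ.filter fun x => σ x = x).card = Nat.card K + 1 := by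
    rw [← Fintype.card_subtype, ← Nat.card_eq_fintype_card]
    have key : ∀ x : {x : G // orderOf x = 2}, σ x = x ↔ (x : G) ∈ Cz t := by
      intro x
      rw [mem_Cz_symm, mem_Cz', Subtype.ext_iff]
      rfl
    have e1 : Nat.card {x : {x : G // orderOf x = 2} // σ x = x} =
        Nat.card ↥({t} ∪ ((Cz t : Set G) \ (K : Set G))) := by
      refine Nat.card_congr
        { toFun := fun x => ⟨x.1.1, h.invol_H.1 ⟨(key x.1).1 x.2, x.1.2⟩⟩
          invFun := fun x => ⟨⟨x.1, (h.invol_H.2 x.2).2⟩, (key _).2 (h.invol_H.2 x.2).1⟩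
          left_inv := fun x => rfl
          right_inv := fun x => rfl }
    rw [e1, Nat.card_coe_set_eq, Set.ncard_union_eq (by
        rw [Set.disjoint_singleton_left]; exact fun hh => hh.2 h.tK),
      Set.ncard_singleton, Set.ncard_sdiff (fun x hx => h.le hx), ← Nat.card_coe_set_eq,
      ← Nat.card_coe_set_eq]
    have := h.card_H
    simp only [SetLike.coe_sort_coe]
    omega
  rw [hcount, Nat.ModEq, ← Nat.card_eq_fintype_card] at hmod
  have := h.two_dvd
  rw [Nat.odd_iff]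
  omega

theorem pairs_conj (x g : G) : Nat.card (Pairs t (g * x * g⁻¹)) = Nat.card (Pairs t x) := by
  refine (Nat.card_congr ((MulAut.conj g).toEquiv.subtypeEquiv fun a => ?_)).symm
  simp only [MulEquiv.toEquiv_eq_coe, MulEquiv.coe_toEquiv, MulAut.conj_apply, h.isConj_t]
  rw [show (g * a * g⁻¹)⁻¹ * (g * x * g⁻¹) = MulAut.conj g (a⁻¹ * x) by simp [mul_assoc],
    show g * a * g⁻¹ = MulAut.conj g a from rfl, (MulAut.conj g).orderOf_eq,
    (MulAut.conj g).orderOf_eq]

theorem pair_iff {a x : G} (hx : x * x ≠ 1 ∨ x = t) :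
    IsConj t a ∧ IsConj t (a⁻¹ * x) ↔
      orderOf a = 2 ∧ a * x * a⁻¹ = x⁻¹ ∧ a ≠ x := by
  rw [h.isConj_t, h.isConj_t]
  constructor
  · rintro ⟨ha, hb⟩
    obtain ⟨ha2, -⟩ := order_two_iff.1 ha
    obtain ⟨hb2, hb1⟩ := order_two_iff.1 hb
    rw [inv_eq_self ha2] at hb2
    refine ⟨ha, eq_inv_of_mul_eq_one_left ?_, fun e => hb1 (by rw [e]; group)⟩
    rw [inv_eq_self ha2]
    simpa [mul_assoc] using hb2
  · rintro ⟨ha, hax, hne⟩
    obtain ⟨ha2, -⟩ := order_two_iff.1 ha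
    refine ⟨ha, order_two_iff.2 ⟨?_, fun e => hne (inv_mul_eq_one.1 e)⟩⟩
    rw [inv_eq_self ha2] at hax ⊢
    rw [show a * x * (a * x) = a * x * a * x by group, hax, inv_mul_cancel]

theorem pairs_K [Finite G] {x : G} (hx : x ∈ K) (hx1 : x ≠ 1) :
    Nat.card (Pairs t x) = Nat.card K := by
  have hx' : x * x ≠ 1 ∨ x = t := by
    by_cases h2 : x * x = 1
    · exact Or.inr ((h.invol_K hx h2).resolve_left hx1)
    · exact Or.inl h2
  have key : ∀ a : G, (IsConj t a ∧ IsConj t (a⁻¹ * x)) ↔ a ∈ ((Cz t : Set G) \ (K : Set G)) := by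
    intro a
    rw [h.pair_iff hx']
    constructor
    · rintro ⟨ha, hax, hne⟩
      have hH : a ∈ Cz t := h.ti hx hx1 (hax ▸ K.inv_mem hx)
      refine ⟨hH, fun haK => ?_⟩
      have hat : a = t := (h.invol_K haK (order_two_iff.1 ha).1).resolve_left (order_two_iff.1 ha).2
      rw [h.comm a haK x hx, mul_inv_cancel_right] at hax
      have h2 : x * x = 1 := by nth_rewrite 1 [hax]; exact inv_mul_cancel x
      exact hne (hat.trans ((h.invol_K hx h2).resolve_left hx1).symm)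
    · rintro ⟨hH, haK⟩
      exact ⟨(h.not_K hH haK).1, (h.not_K hH haK).2 x hx, fun e => haK (e ▸ hx)⟩
  rw [Nat.card_congr (Equiv.subtypeEquivRight key)]
  show Nat.card ↥((Cz t : Set G) \ (K : Set G)) = _
  rw [Nat.card_coe_set_eq, Set.ncard_sdiff (fun y hy => h.le hy), ← Nat.card_coe_set_eq,
    ← Nat.card_coe_set_eq]
  have := h.card_H
  simp only [SetLike.coe_sort_coe]
  omega

end Hyp

end Cfsg.Agent.BSW
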