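import Cfsg.Agent.Lib.BSW.Outer
import Cfsg.Agent.Lib.Small.ClassCount
import Cfsg.Agent.Lib.Char.Induction
import Mathlib.GroupTheory.FiniteAbelian.Duality
import Mathlib.Analysis.Complex.Polynomial.Basic
import Mathlib.RingTheory.RootsOfUnity.AlgebraicallyClosed

/-!
Characters induced from `K` in the set-up of the Brauer–Suzuki–Wall theorem.
-/

set_option autoImplicit false
set_option linter.unusedSectionVars false
set_option linter.style.haveILetI false

namespace Cfsg.Agent.BSW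

open Cfsg Cfsg.Agent.Char
open scoped ComplexConjugate Classical

universe u

variable {G : Type u} [Group G] [Fintype G] {t : G} {K : Subgroup G} {s : G}

noncomputable local instance (K : Subgroup G) : Fintype K := Fintype.ofFinite _

theorem finite_dual (hK : ∀ a ∈ K, ∀ b ∈ K, a * b = b * a) : Finite (↥K →* ℂˣ) := by
  letI : CommGroup ↥K :=
    { (inferInstance : Group ↥K) with mul_comm := fun a b => Subtype.ext (hK a a.2 b b.2) }
  exact Finite.of_equiv _
    (CommGroup.monoidHom_mulEquiv_of_hasEnoughRootsOfUnity ↥K ℂ).some.toEquiv.symm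

theorem dual_equiv (hK : ∀ a ∈ K, ∀ b ∈ K, a * b = b * a) : Nonempty ((↥K →* ℂˣ) ≃* ↥K) := by
  letI : CommGroup ↥K :=
    { (inferInstance : Group ↥K) with mul_comm := fun a b => Subtype.ext (hK a a.2 b b.2) }
  exact CommGroup.monoidHom_mulEquiv_of_hasEnoughRootsOfUnity ↥K ℂ

theorem dual_separates (hK : ∀ a ∈ K, ∀ b ∈ K, a * b = b * a) {x : ↥K} (hx : x ≠ 1) :
    ∃ l : ↥K →* ℂˣ, l x ≠ 1 := by
  letI : CommGroup ↥K :=
    { (inferInstance : Group ↥K) with mul_comm := fun a b => Subtype.ext (hK a a.2 b b.2) }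
  exact CommGroup.exists_apply_ne_one_of_hasEnoughRootsOfUnity ↥K ℂ hx

theorem conj_lin (l : ↥K →* ℂˣ) (x : ↥K) : conj (l x : ℂ) = (l⁻¹ x : ℂ) := by
  rw [MonoidHom.inv_apply, ← map_inv]
  exact (IsCharacter.inv (IsIrrCharacter.isCharacter (isIrrCharacter_linear l)) x).symm

theorem dual_inv_inv (l : ↥K →* ℂˣ) : l⁻¹⁻¹ = l := MonoidHom.ext fun x => inv_inv (l x)

theorem dual_inv_ne_one {l : ↥K →* ℂˣ} (hl : l ≠ 1) : l⁻¹ ≠ 1 := fun e => hl (by
  refine MonoidHom.ext fun x => ?_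
  have := DFunLike.congr_fun e x
  rw [MonoidHom.inv_apply, MonoidHom.one_apply, inv_eq_one] at this
  rw [this, MonoidHom.one_apply])

theorem sum_char (l : ↥K →* ℂˣ) :
    ∑ x, (l x : ℂ) = if l = 1 then (Nat.card K : ℂ) else 0 := by
  split_ifs with h
  · simp [h, Nat.card_eq_fintype_card]
  · obtain ⟨a, ha⟩ : ∃ a, l a ≠ 1 := by
      by_contra hc
      push Not at hc
      exact h (MonoidHom.ext hc)
    have he : (l a : ℂ) * ∑ x, (l x : ℂ) = ∑ x, (l x : ℂ) := by
      rw [Finset.mul_sum]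
      exact Fintype.sum_equiv (Equiv.mulLeft a) _ _ fun x => by simp
    refine (mul_eq_zero.1 (?_ : ((l a : ℂ) - 1) * ∑ x, (l x : ℂ) = 0)).resolve_left
      (sub_ne_zero.2 fun e => ha (Units.ext e))
    rw [sub_mul, he, one_mul, sub_self]

theorem inner_lin (l m : ↥K →* ℂˣ) :
    Cfsg.classInner (fun x : ↥K => (l x : ℂ)) (fun x : ↥K => (m x : ℂ)) =
      if l = m then 1 else 0 := by
  have e : ∀ x, (l x : ℂ) * conj (m x : ℂ) = ((l * m⁻¹) x : ℂ) := fun x => by
    rw [conj_lin, MonoidHom.mul_apply, Units.val_mul]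
  rw [Cfsg.classInner, Finset.sum_congr rfl fun x _ => e x, sum_char]
  have hk : (Nat.card K : ℂ) ≠ 0 := Nat.cast_ne_zero.2 Nat.card_pos.ne'
  by_cases h : l = m
  · rw [if_pos h, if_pos (mul_inv_eq_one.2 h), inv_mul_cancel₀ hk]
  · rw [if_neg h, if_neg (fun e => h (mul_inv_eq_one.1 e)), mul_zero]

theorem sum_dual [Fintype (↥K →* ℂˣ)] (hK : ∀ a ∈ K, ∀ b ∈ K, a * b = b * a) {x : ↥K}
    (hx : x ≠ 1) : ∑ l : ↥K →* ℂˣ, (l x : ℂ) = 0 := by
  obtain ⟨a, ha⟩ := dual_separates hK hx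
  have he : (a x : ℂ) * ∑ l : ↥K →* ℂˣ, (l x : ℂ) = ∑ l : ↥K →* ℂˣ, (l x : ℂ) := by
    rw [Finset.mul_sum]
    exact Fintype.sum_equiv (Equiv.mulLeft a) _ _ fun l => by simp
  refine (mul_eq_zero.1 (?_ : ((a x : ℂ) - 1) * ∑ l : ↥K →* ℂˣ, (l x : ℂ) = 0)).resolve_left
    (sub_ne_zero.2 fun e => ha (Units.ext e))
  rw [sub_mul, he, one_mul, sub_self]

theorem card_dual [Fintype (↥K →* ℂˣ)] (hK : ∀ a ∈ K, ∀ b ∈ K, a * b = b * a) :
    Fintype.card (↥K →* ℂˣ) = Nat.card K := by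
  rw [← Nat.card_eq_fintype_card, Nat.card_congr (dual_equiv hK).some.toEquiv]

/-- Fourier inversion. -/
theorem inversion [Fintype (↥K →* ℂˣ)] (hK : ∀ a ∈ K, ∀ b ∈ K, a * b = b * a) (r : ↥K → ℂ)
    (x : ↥K) : r x = ∑ l : ↥K →* ℂˣ, Cfsg.classInner r (fun y => (l y : ℂ)) * (l x : ℂ) := by
  simp only [Cfsg.classInner, Finset.mul_sum, Finset.sum_mul]
  rw [Finset.sum_comm]
  have e : ∀ y : ↥K, ∑ l : ↥K →* ℂˣ, (Nat.card K : ℂ)⁻¹ * (r y * conj (l y : ℂ)) * (l x : ℂ) =
      if y = x then r x else 0 := by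
    intro y
    have e1 : ∀ l : ↥K →* ℂˣ, (Nat.card K : ℂ)⁻¹ * (r y * conj (l y : ℂ)) * (l x : ℂ) =
        (Nat.card K : ℂ)⁻¹ * r y * (l (y⁻¹ * x) : ℂ) := fun l => by
      rw [conj_lin, map_mul, map_inv, MonoidHom.inv_apply, Units.val_mul]
      ring
    rw [Finset.sum_congr rfl fun l _ => e1 l, ← Finset.mul_sum]
    split_ifs with h
    · subst h
      simp only [inv_mul_cancel, map_one, Units.val_one, Finset.sum_const, Finset.card_univ,
        card_dual hK, nsmul_eq_mul, mul_one]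
      rw [mul_assoc, mul_comm (r y), ← mul_assoc,
        inv_mul_cancel₀ (Nat.cast_ne_zero.2 Nat.card_pos.ne'), one_mul]
    · rw [sum_dual hK (fun e => h (inv_mul_eq_one.1 e)), mul_zero]
  rw [Finset.sum_congr rfl fun y _ => e y, Finset.sum_ite_eq' Finset.univ x, if_pos (Finset.mem_univ _)]

/-- The function `λ - 1` on `K`. -/
noncomputable def theta (l : ↥K →* ℂˣ) : ↥K → ℂ := fun x => (l x : ℂ) - 1

/-- `λ - 1` induced to `G`. -/
noncomputable def Fl (l : ↥K →* ℂˣ) : G → ℂ := Cfsg.indFun K (theta l)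

/-- The virtual characters under study. -/
noncomputable def Vl (l : ↥K →* ℂˣ) : G → ℂ := Fl l + fun _ => 1

theorem theta_gen (l : ↥K →* ℂˣ) : Cfsg.IsGeneralizedCharacter ↥K (theta l) :=
  IsGeneralizedCharacter.sub
    (IsGeneralizedCharacter.of_isCharacter (IsIrrCharacter.isCharacter (isIrrCharacter_linear l)))
    (IsGeneralizedCharacter.of_isCharacter (IsIrrCharacter.isCharacter isIrrCharacter_one))

theorem one_gen : Cfsg.IsGeneralizedCharacter G (fun _ => 1) :=
  IsGeneralizedCharacter.of_isCharacter (IsIrrCharacter.isCharacter isIrrCharacter_one)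

theorem Fl_gen (l : ↥K →* ℂˣ) : Cfsg.IsGeneralizedCharacter G (Fl l) :=
  IsGeneralizedCharacter.indFun K (theta_gen l)

theorem Vl_gen (l : ↥K →* ℂˣ) : Cfsg.IsGeneralizedCharacter G (Vl l) :=
  IsGeneralizedCharacter.add (Fl_gen l) one_gen

theorem theta_one (l : ↥K →* ℂˣ) : theta l 1 = 0 := by simp [theta]

theorem Fl_one (l : ↥K →* ℂˣ) : Fl l (1 : G) = 0 := by
  rw [Fl, indFun_one_apply, theta_one, mul_zero]

theorem Fl_out (l : ↥K →* ℂˣ) {x : G} (hx : ¬ InK K x) : Fl l x = 0 :=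
  indFun_eq_zero_of_forall K _ fun g hg => hx ⟨g⁻¹, by simpa using hg⟩

theorem Fl_triv : Fl (1 : ↥K →* ℂˣ) = (0 : G → ℂ) := by
  rw [Fl, show theta (1 : ↥K →* ℂˣ) = 0 from funext fun x => by simp [theta], indFun_zero]

theorem one_Fl (l : ↥K →* ℂˣ) (hl : l ≠ 1) :
    Cfsg.classInner (fun _ : G => (1 : ℂ)) (Fl l) = -1 := by
  rw [Fl, classInner_indFun_right K _ (IsCharacter.isClassFunction isCharacter_one)]
  have e : (fun _ : ↥K => (1 : ℂ)) = fun x => ((1 : ↥K →* ℂˣ) x : ℂ) := by simp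
  have e2 : theta l = (fun x => (l x : ℂ)) - fun _ => 1 := rfl
  rw [e2, classInner_sub_right, e, inner_lin, inner_lin, if_neg (Ne.symm hl), if_pos rfl, zero_sub]

theorem Fl_one' (l : ↥K →* ℂˣ) (hl : l ≠ 1) :
    Cfsg.classInner (Fl l) (fun _ : G => (1 : ℂ)) = -1 := by
  rw [← classInner_conj_symm, one_Fl l hl, map_neg, map_one]

namespace Hyp

variable (h : Hyp t K s)
include h

theorem Fl_K (l : ↥K →* ℂˣ) (x : ↥K) (hx : x ≠ 1) :
    Fl l (x : G) = (l x : ℂ) + (l⁻¹ x : ℂ) - 2 := by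
  have key : ∀ g : G, Cfsg.extendByZero K (theta l) (g⁻¹ * x * g) =
      (if g ∈ K then theta l x else 0) +
        (if g ∈ Cz t ∧ g ∉ K then theta l x⁻¹ else 0) := by
    intro g
    by_cases hgH : g ∈ Cz t
    · by_cases hgK : g ∈ K
      · rw [if_pos hgK, if_neg (fun e => e.2 hgK), add_zero]
        have e : g⁻¹ * (x : G) * g = x := by
          rw [h.comm _ (K.inv_mem hgK) _ x.2, inv_mul_cancel_right]
        rw [e]
        exact extendByZero_coe K _ x
      · rw [if_neg hgK, if_pos ⟨hgH, hgK⟩, zero_add]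
        have e : g⁻¹ * (x : G) * g = ((x⁻¹ : ↥K) : G) := by
          have := (h.not_K ((Cz t).inv_mem hgH) (fun e => hgK (by simpa using K.inv_mem e))).2 x x.2
          rwa [inv_inv] at this
        rw [e]
        exact extendByZero_coe K _ x⁻¹
    · rw [if_neg (fun e => hgH (h.le e)), if_neg (fun e => hgH e.1), add_zero]
      refine extendByZero_not_mem K _ fun hm => hgH ?_
      have := h.ti (g := g⁻¹) x.2 (fun e => hx (Subtype.ext e)) (by rwa [inv_inv])
      simpa using (Cz t).inv_mem this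
  have c1 : (Finset.univ.filter fun g : G => g ∈ K).card = Nat.card K := by
    rw [← Fintype.card_subtype, ← Nat.card_eq_fintype_card]
  have c2 : (Finset.univ.filter fun g : G => g ∈ Cz t ∧ g ∉ K).card = Nat.card K := by
    rw [← Fintype.card_subtype, ← Nat.card_eq_fintype_card]
    show Nat.card ↥((Cz t : Set G) \ (K : Set G)) = _
    rw [Nat.card_coe_set_eq, Set.ncard_sdiff (fun y hy => h.le hy), ← Nat.card_coe_set_eq,
      ← Nat.card_coe_set_eq]
    have := h.card_H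
    simp only [SetLike.coe_sort_coe]
    omega
  rw [Fl, indFun_apply, Finset.sum_congr rfl fun g _ => key g, Finset.sum_add_distrib,
    ← Finset.sum_filter, ← Finset.sum_filter, Finset.sum_const, Finset.sum_const, c1, c2,
    nsmul_eq_mul, nsmul_eq_mul, ← mul_add, ← mul_assoc,
    inv_mul_cancel₀ (Nat.cast_ne_zero.2 Nat.card_pos.ne'), one_mul]
  simp only [theta, MonoidHom.inv_apply, map_inv]
  ring

theorem inner_Fl (l m : ↥K →* ℂˣ) (hl : l ≠ 1) (hm : m ≠ 1) :
    Cfsg.classInner (Fl l : G → ℂ) (Fl m) =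
      (if l = m then 1 else 0) + (if l = m⁻¹ then 1 else 0) + 2 := by
  have hm' : m⁻¹ ≠ 1 := dual_inv_ne_one hm
  have e : (fun x : ↥K => Fl m (x : G)) = theta m + theta m⁻¹ := by
    funext x
    by_cases hx : x = 1
    · subst hx
      simp [theta_one, Fl_one]
    · rw [h.Fl_K m x hx, Pi.add_apply, theta, theta]
      ring
  have e2 : ∀ a b : ↥K →* ℂˣ, a ≠ 1 → b ≠ 1 →
      Cfsg.classInner (theta a) (theta b) = (if a = b then 1 else 0) + 1 := by
    intro a b ha hb
    have e' : ∀ c : ↥K →* ℂˣ, theta c =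
        (fun x => (c x : ℂ)) - fun x => ((1 : ↥K →* ℂˣ) x : ℂ) := fun c => by
      funext x; simp [theta]
    rw [e', e', classInner_sub_left, classInner_sub_right, classInner_sub_right, inner_lin,
      inner_lin, inner_lin, inner_lin, if_neg ha, if_neg (Ne.symm hb), if_pos rfl]
    ring
  conv_lhs => arg 1; rw [Fl]
  rw [classInner_indFun_left K _ (IsGeneralizedCharacter.isClassFunction (Fl_gen m)), e,
    classInner_add_right, e2 l m hl hm, e2 l m⁻¹ hl hm']
  ring

theorem inner_Vl (l m : ↥K →* ℂˣ) (hl : l ≠ 1) (hm : m ≠ 1) :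
    Cfsg.classInner (Vl l : G → ℂ) (Vl m) =
      (if l = m then 1 else 0) + (if l = m⁻¹ then 1 else 0) + 1 := by
  rw [Vl, Vl, classInner_add_left, classInner_add_right, classInner_add_right, h.inner_Fl l m hl hm,
    one_Fl m hm, Fl_one' l hl, classInner_self_irr isIrrCharacter_one]
  ring

theorem Vl_inv (l : ↥K →* ℂˣ) : (Vl l⁻¹ : G → ℂ) = Vl l := by
  funext g
  rw [Vl, Vl, Pi.add_apply, Pi.add_apply]
  congr 1
  by_cases hg : InK K g
  · obtain ⟨c, hc⟩ := hg
    have hF : ∀ m : ↥K →* ℂˣ, Fl m g = Fl m (c * g * c⁻¹) := fun m =>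
      ((IsGeneralizedCharacter.isClassFunction (Fl_gen m)) g c).symm
    rw [hF, hF]
    by_cases h1 : (⟨c * g * c⁻¹, hc⟩ : ↥K) = 1
    · rw [show c * g * c⁻¹ = 1 from congrArg Subtype.val h1, Fl_one, Fl_one]
    · have e1 := h.Fl_K l⁻¹ ⟨_, hc⟩ h1
      have e2 := h.Fl_K l ⟨_, hc⟩ h1
      rw [dual_inv_inv] at e1
      rw [e1, e2]
      ring
  · rw [Fl_out _ hg, Fl_out _ hg]

theorem val_K [Fintype (↥K →* ℂˣ)] {f : G → ℂ} (hf : Cfsg.IsGeneralizedCharacter G f) (x : ↥K)
    (hx : x ≠ 1) :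
    f (x : G) = ∑ l : ↥K →* ℂˣ, Cfsg.classInner f (Fl l) * (l x : ℂ) := by
  have hfc := IsGeneralizedCharacter.isClassFunction hf
  have e : ∀ l : ↥K →* ℂˣ, Cfsg.classInner f (Fl l) =
      Cfsg.classInner (fun y : ↥K => f y) (fun y => (l y : ℂ)) -
        Cfsg.classInner (fun y : ↥K => f y) (fun _ => 1) := fun l => by
    rw [Fl, classInner_indFun_right K _ hfc, show theta l = (fun x => (l x : ℂ)) - fun _ => 1 from rfl,
      classInner_sub_right]
  simp only [e, sub_mul, Finset.sum_sub_distrib]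
  rw [← Finset.mul_sum, sum_dual h.comm hx, mul_zero, sub_zero]
  exact inversion h.comm (fun y : ↥K => f y) x

theorem deg_congr [Fintype (↥K →* ℂˣ)] {f : G → ℂ} (hf : Cfsg.IsGeneralizedCharacter G f) :
    ∃ c : ℤ, f 1 = (c : ℂ) * (Nat.card K : ℂ) + ∑ l : ↥K →* ℂˣ, Cfsg.classInner f (Fl l) := by
  have hfc := IsGeneralizedCharacter.isClassFunction hf
  obtain ⟨c, hc⟩ := IsGeneralizedCharacter.exists_classInner_int
    (IsGeneralizedCharacter.restrict hf K)
    (IsGeneralizedCharacter.of_isCharacter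
      (IsIrrCharacter.isCharacter (isIrrCharacter_one (G := ↥K))))
  refine ⟨c, ?_⟩
  have e : ∀ l : ↥K →* ℂˣ, Cfsg.classInner f (Fl l) =
      Cfsg.classInner (fun y : ↥K => f y) (fun y => (l y : ℂ)) -
        Cfsg.classInner (fun y : ↥K => f y) (fun _ => 1) := fun l => by
    rw [Fl, classInner_indFun_right K _ hfc, show theta l = (fun x => (l x : ℂ)) - fun _ => 1 from rfl,
      classInner_sub_right]
  have hi := inversion h.comm (fun y : ↥K => f y) 1
  simp only [map_one, Units.val_one, mul_one, OneMemClass.coe_one] at hi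
  rw [hi]
  simp only [e, Finset.sum_sub_distrib, Finset.sum_const, Finset.card_univ, card_dual h.comm,
    nsmul_eq_mul, hc]
  ring

theorem real_t (χ : IrrCharacter G) : conj ((χ : G → ℂ) t) = (χ : G → ℂ) t := by
  rw [← IsCharacter.inv (IsIrrCharacter.isCharacter χ.2), inv_eq_self h.tt]

theorem pairs_formula (x : G) :
    (Nat.card (Pairs t x) : ℂ) * ((2 * Nat.card K : ℕ) : ℂ) ^ 2 = (Nat.card G : ℂ) *
      ∑ χ : IrrCharacter G, (χ : G → ℂ) t * (χ : G → ℂ) t * (χ : G → ℂ) x / (χ : G → ℂ) 1 := by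
  have hc := congrArg conj (ClassCount.pair_count t t x)
  rw [show Nat.card (Subgroup.centralizer ({t} : Set G)) = 2 * Nat.card K from h.card_H] at hc
  simp only [map_mul, map_natCast, map_sum, map_div₀, h.real_t, Complex.conj_conj,
    CharX.irr_deg] at hc
  simp only [CharX.irr_deg]
  rw [pow_two, ← mul_assoc]
  exact hc

/-- The functional of the class equation. -/
noncomputable def W (t : G) (f : G → ℂ) : ℂ :=
  ∑ χ : IrrCharacter G, (χ : G → ℂ) t * (χ : G → ℂ) t / (χ : G → ℂ) 1 *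
    Cfsg.classInner (χ : G → ℂ) f

omit h in
theorem W_add (f g : G → ℂ) : W t (f + g) = W t f + W t g := by
  simp only [W, classInner_add_right, mul_add, Finset.sum_add_distrib]

theorem W_Fl (l : ↥K →* ℂˣ) (hl : l ≠ 1) :
    W t (Fl l) = -(4 * (Nat.card K : ℂ) ^ 3 / (Nat.card G : ℂ)) := by
  have hG : (Nat.card G : ℂ) ≠ 0 := Nat.cast_ne_zero.2 Nat.card_pos.ne'
  have key : ∀ g : G, conj (Fl l g) *
      (∑ χ : IrrCharacter G, (χ : G → ℂ) t * (χ : G → ℂ) t * (χ : G → ℂ) g / (χ : G → ℂ) 1) =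
      4 * (Nat.card K : ℂ) ^ 3 / (Nat.card G : ℂ) * conj (Fl l g) := by
    intro g
    by_cases h0 : Fl l g = 0
    · simp [h0]
    · have hg : InK K g := by_contra fun hn => h0 (Fl_out l hn)
      have hg1 : g ≠ 1 := fun e => h0 (e ▸ Fl_one l)
      obtain ⟨c, hc⟩ := hg
      have hp : Nat.card (Pairs t g) = Nat.card K := by
        rw [← h.pairs_conj g c]
        exact h.pairs_K hc fun e => hg1 (conj_eq_one_iff.1 e)
      have := h.pairs_formula g
      rw [hp] at this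
      rw [eq_comm, div_mul_eq_mul_div, div_eq_iff hG]
      push_cast at this
      linear_combination conj (Fl l g) * this
  have hsum : ∑ g : G, conj (Fl l g) = -(Nat.card G : ℂ) := by
    have := one_Fl (G := G) l hl
    rw [Cfsg.classInner, inv_mul_eq_iff_eq_mul₀ hG] at this
    simp only [one_mul] at this
    rw [this]; ring
  calc W t (Fl l)
      = (Nat.card G : ℂ)⁻¹ * ∑ g : G, conj (Fl l g) *
          (∑ χ : IrrCharacter G, (χ : G → ℂ) t * (χ : G → ℂ) t * (χ : G → ℂ) g / (χ : G → ℂ) 1) := by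
        simp only [W, Cfsg.classInner, Finset.mul_sum]
        rw [Finset.sum_comm]
        refine Finset.sum_congr rfl fun g _ => Finset.sum_congr rfl fun χ _ => ?_
        ring
    _ = _ := by
        rw [Finset.sum_congr rfl fun g _ => key g, ← Finset.mul_sum, hsum]
        field_simp

theorem W_Vl (l : ↥K →* ℂˣ) (hl : l ≠ 1) :
    W t (Vl l) = 1 - 4 * (Nat.card K : ℂ) ^ 3 / (Nat.card G : ℂ) := by
  rw [Vl, W_add, h.W_Fl l hl]
  have : W t (fun _ : G => (1 : ℂ)) = 1 := by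
    rw [W, Finset.sum_eq_single ⟨_, isIrrCharacter_one⟩]
    · simp [classInner_self_irr (isIrrCharacter_one (G := G))]
    · intro χ _ hχ
      rw [classInner_irr_of_ne χ.2 isIrrCharacter_one fun e => hχ (Subtype.ext e), mul_zero]
    · exact fun hn => absurd (Finset.mem_univ _) hn
  rw [this]
  ring

end Hyp

end Cfsg.Agent.BSW
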