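import Mathlib.GroupTheory.PGroup
import Mathlib.GroupTheory.GroupAction.Quotient
import Mathlib.GroupTheory.Sylow

/-!
Counting lemmas for the Brauer–Suzuki–Wall theorem.
-/

set_option autoImplicit false

namespace Cfsg.Agent.BSW

variable {G : Type*} [Group G]

/-- The conjugates of a set `A` which meets its translates only inside its stabilizer `N`. -/
def conjSet (A : Set G) : Set G := {y | ∃ g : G, ∃ a ∈ A, y = g * a * g⁻¹}

theorem card_conjSet [Finite G] (A : Set G) (N : Subgroup G)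
    (hN : ∀ m ∈ N, ∀ a ∈ A, m * a * m⁻¹ ∈ A)
    (hTI : ∀ g : G, ∀ a ∈ A, g * a * g⁻¹ ∈ A → g ∈ N) :
    Nat.card (conjSet A) * Nat.card N = Nat.card G * Nat.card A := by
  classical
  have sel : ∀ y : conjSet A, ∃ g : G, g⁻¹ * (y : G) * g ∈ A := by
    rintro ⟨y, g, a, ha, rfl⟩
    exact ⟨g, by simpa [mul_assoc] using ha⟩
  choose r hr using sel
  let e : conjSet A × N → G × A := fun p =>
    (r p.1 * p.2, ⟨((p.2 : G))⁻¹ * ((r p.1)⁻¹ * (p.1 : G) * r p.1) * (p.2 : G), by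
      simpa using hN _ (N.inv_mem p.2.2) _ (hr p.1)⟩)
  have hb : Function.Bijective e := by
    constructor
    · rintro ⟨y, m⟩ ⟨y', m'⟩ h
      have h1 : r y * (m : G) = r y' * (m' : G) := congrArg Prod.fst h
      have h2 : ((m : G))⁻¹ * ((r y)⁻¹ * (y : G) * r y) * (m : G) =
          ((m' : G))⁻¹ * ((r y')⁻¹ * (y' : G) * r y') * (m' : G) :=
        congrArg (fun p : G × A => (p.2 : G)) h
      have hy : y = y' := by
        apply Subtype.ext
        calc (y : G) = (r y * m) * (((m : G))⁻¹ * ((r y)⁻¹ * (y : G) * r y) * m) * (r y * m)⁻¹ := by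
              group
          _ = (r y' * m') * (((m' : G))⁻¹ * ((r y')⁻¹ * (y' : G) * r y') * m') * (r y' * m')⁻¹ := by
              rw [h2, h1]
          _ = y' := by group
      subst hy
      exact Prod.ext rfl (Subtype.ext (mul_left_cancel h1))
    · rintro ⟨g, a, ha⟩
      let y : conjSet A := ⟨g * a * g⁻¹, g, a, ha, rfl⟩
      have hm : (r y)⁻¹ * g ∈ N := by
        refine hTI _ a ha ?_
        have : (r y)⁻¹ * (g * a * g⁻¹) * r y ∈ A := hr y
        simpa [mul_assoc] using this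
      refine ⟨(y, ⟨(r y)⁻¹ * g, hm⟩), Prod.ext (mul_inv_cancel_left _ _) (Subtype.ext ?_)⟩
      show ((r y)⁻¹ * g)⁻¹ * ((r y)⁻¹ * (g * a * g⁻¹) * r y) * ((r y)⁻¹ * g) = a
      group
  rw [← Nat.card_prod, ← Nat.card_prod]
  exact Nat.card_congr (Equiv.ofBijective e hb)

/-- An element of prime order `p` is conjugate into any subgroup of index prime to `p`. -/
theorem conj_mem_of_index [Finite G] {p : ℕ} (hp : p.Prime) (L : Subgroup G)
    (hL : ¬ p ∣ L.index) {y : G} (hy : y ^ p = 1) : ∃ g : G, g * y * g⁻¹ ∈ L := by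
  haveI : Fact p.Prime := ⟨hp⟩
  have hP : IsPGroup p (Subgroup.zpowers y) := by
    rintro ⟨z, hz⟩
    obtain ⟨i, rfl⟩ := Subgroup.mem_zpowers_iff.1 hz
    refine ⟨1, Subtype.ext ?_⟩
    rw [pow_one, SubgroupClass.coe_pow, OneMemClass.coe_one]
    change (y ^ i) ^ p = 1
    rw [← zpow_natCast, ← zpow_mul, mul_comm, zpow_mul, zpow_natCast, hy, one_zpow]
  obtain ⟨q, hq⟩ := hP.nonempty_fixed_point_of_prime_not_dvd_card (G ⧸ L) hL
  obtain ⟨g, rfl⟩ := QuotientGroup.mk_surjective q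
  refine ⟨g⁻¹, ?_⟩
  have h1 : ((⟨y, Subgroup.mem_zpowers y⟩ : Subgroup.zpowers y) • (QuotientGroup.mk g : G ⧸ L)) =
      QuotientGroup.mk g := hq _
  change QuotientGroup.mk (y * g) = (QuotientGroup.mk g : G ⧸ L) at h1
  rw [QuotientGroup.eq] at h1
  simpa [mul_assoc] using L.inv_mem h1

/-- In a group in which every element outside a class-invariant set `S` has a self-normalizing
trivial-intersection centralizer, the centralizers cover the complement of `S` by one class. -/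
theorem cover [Finite G] (S : Set G) (h1 : (1 : G) ∈ S)
    (hS : ∀ g : G, ∀ a ∈ S, g * a * g⁻¹ ∈ S)
    (hC : ∀ h ∉ S, ∀ a ∈ Subgroup.centralizer ({h} : Set G), a ≠ 1 →
      a ∉ S ∧ Subgroup.centralizer ({a} : Set G) = Subgroup.centralizer ({h} : Set G))
    (hN : ∀ h ∉ S, ∀ g : G, g * h * g⁻¹ ∈ Subgroup.centralizer ({h} : Set G) →
      g ∈ Subgroup.centralizer ({h} : Set G))
    {h : G} (hh : h ∉ S) :
    Nat.card S * Nat.card (Subgroup.centralizer ({h} : Set G)) = Nat.card G ∧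
      ∀ x ∉ S, ∃ g : G, g * x * g⁻¹ ∈ Subgroup.centralizer ({h} : Set G) := by
  classical
  let C : G → Subgroup G := fun x => Subgroup.centralizer ({x} : Set G)
  let A : G → Set G := fun x => {a | a ∈ C x ∧ a ≠ 1}
  have hcount : ∀ x ∉ S, Nat.card (conjSet (A x)) * Nat.card (C x) =
      Nat.card G * (Nat.card (C x) - 1) := by
    intro x hx
    have hA : Nat.card (A x) = Nat.card (C x) - 1 := by
      rw [Nat.card_coe_set_eq, show A x = ((C x : Set G)) \ {1} from rfl,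
        Set.ncard_sdiff_singleton_of_mem (C x).one_mem, ← Nat.card_coe_set_eq]
      rfl
    rw [← hA]
    refine card_conjSet _ _ (fun m hm a ha => ⟨?_, fun e => ha.2 (by simpa using e)⟩) ?_
    · exact (C x).mul_mem ((C x).mul_mem hm ha.1) ((C x).inv_mem hm)
    · intro g a ha hga
      obtain ⟨haS, hCa⟩ := hC x hx a ha.1 ha.2
      have := hN a haS g (hCa ▸ hga.1)
      rwa [hCa] at this
  have hsub : ∀ x ∉ S, conjSet (A x) ⊆ Sᶜ := by
    rintro x hx y ⟨g, a, ha, rfl⟩ hy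
    refine (hC x hx a ha.1 ha.2).1 ?_
    simpa [mul_assoc] using hS g⁻¹ _ hy
  have hhalf : ∀ x ∉ S, Nat.card G ≤ 2 * Nat.card (conjSet (A x)) := by
    intro x hx
    have h2 : 2 ≤ Nat.card (C x) := by
      have hx1 : x ≠ 1 := fun e => hx (e ▸ h1)
      refine Finite.one_lt_card_iff_nontrivial.2 ?_
      exact ⟨⟨x, Subgroup.mem_centralizer_singleton_iff.2 rfl⟩, 1, fun e => hx1 (congrArg Subtype.val e)⟩
    have := hcount x hx
    obtain ⟨c, hc⟩ : ∃ c, Nat.card (C x) = c + 2 := ⟨Nat.card (C x) - 2, by omega⟩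
    rw [hc, show c + 2 - 1 = c + 1 by omega] at this
    nlinarith
  have hmeet : ∀ x ∉ S, x ∉ conjSet (A h) → Disjoint (conjSet (A h)) (conjSet (A x)) := by
    intro x hx hxh
    rw [Set.disjoint_left]
    rintro y ⟨g, a, ha, rfl⟩ ⟨g', a', ha', e⟩
    refine hxh ?_
    obtain ⟨-, hCa'⟩ := hC x hx a' ha'.1 ha'.2
    obtain ⟨-, hCa⟩ := hC h hh a ha.1 ha.2
    refine ⟨g'⁻¹ * g, (g'⁻¹ * g)⁻¹ * x * (g'⁻¹ * g), ⟨?_, ?_⟩, by group⟩
    · show _ ∈ Subgroup.centralizer ({h} : Set G)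
      rw [← hCa, Subgroup.mem_centralizer_singleton_iff]
      have hx' : x * a' = a' * x := (Subgroup.mem_centralizer_singleton_iff.1 ha'.1).symm
      have ea : a = (g'⁻¹ * g)⁻¹ * a' * (g'⁻¹ * g) := by
        rw [show a = g⁻¹ * (g * a * g⁻¹) * g by group, e]
        group
      rw [ea]
      calc (g'⁻¹ * g)⁻¹ * x * (g'⁻¹ * g) * ((g'⁻¹ * g)⁻¹ * a' * (g'⁻¹ * g))
          = (g'⁻¹ * g)⁻¹ * (x * a') * (g'⁻¹ * g) := by group
        _ = (g'⁻¹ * g)⁻¹ * (a' * x) * (g'⁻¹ * g) := by rw [hx']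
        _ = _ := by group
    · intro e1
      apply hx
      have : x = 1 := by
        have := congrArg (fun z => (g'⁻¹ * g) * z * (g'⁻¹ * g)⁻¹) e1
        simpa [mul_assoc] using this
      exact this ▸ h1
  have hall : ∀ x ∉ S, x ∈ conjSet (A h) := by
    intro x hx
    by_contra hxh
    have h3 := Set.ncard_le_ncard (Set.union_subset (hsub h hh) (hsub x hx))
    rw [Set.ncard_union_eq (hmeet x hx hxh)] at h3
    have h4 := Set.ncard_add_ncard_compl S
    have h5 : 0 < S.ncard := (Set.ncard_pos).2 ⟨1, h1⟩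
    have := hhalf h hh
    have := hhalf x hx
    simp only [Nat.card_coe_set_eq] at *
    omega
  refine ⟨?_, fun x hx => ?_⟩
  · have heq : conjSet (A h) = Sᶜ := Set.Subset.antisymm (hsub h hh) hall
    have h3 := hcount h hh
    rw [heq] at h3
    have h4 := Set.ncard_add_ncard_compl S
    rw [← Nat.card_coe_set_eq, ← Nat.card_coe_set_eq] at h4
    obtain ⟨c, hc⟩ : ∃ c, Nat.card (C h) = c + 1 :=
      ⟨Nat.card (C h) - 1, by have := Nat.card_pos (α := C h); omega⟩
    show Nat.card S * Nat.card (C h) = Nat.card G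
    rw [hc] at h3 ⊢
    rw [Nat.add_sub_cancel] at h3
    rw [← h4] at h3 ⊢
    nlinarith
  · obtain ⟨g, a, ha, rfl⟩ := hall x hx
    exact ⟨g⁻¹, by simpa [mul_assoc] using ha.1⟩

end Cfsg.Agent.BSW
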