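import Cfsg.Agent.Lib.BSW.Data

/-!
Extraction of the numerical data.
-/

set_option autoImplicit false
set_option linter.unusedSectionVars false
set_option linter.style.haveILetI false

namespace Cfsg.Agent.BSW

open Cfsg Cfsg.Agent.Char
open scoped ComplexConjugate Classical

universe u

variable {G : Type u} [Group G] [Fintype G] {t : G} {K : Subgroup G} {s : G}

noncomputable local instance (K : Subgroup G) : Fintype K := Fintype.ofFinite _

theorem exists_data (h : Hyp t K s) (hk : 4 ≤ Nat.card K) :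
    ∃ (q : ℤ) (a : G → ℤ), Data t K q a := by
  haveI := finite_dual h.comm
  haveI : Fintype (↥K →* ℂˣ) := Fintype.ofFinite _
  obtain ⟨σ, hσ1, hσi, hσ⟩ := h.exists_sigma
  obtain ⟨A, B, C, C', S⟩ := h.exists_shape hσ hσi hσ1 hk
  obtain ⟨l0, hl0, hl0s⟩ := h.exists_nonreal σ hk
  set k := Nat.card K with hkd
  set n := Nat.card {x : G // orderOf x = 2} with hnd
  have hG : (Nat.card G : ℤ) = (n : ℤ) * (2 * (k : ℤ)) := by
    rw [← h.card_invol, ← hkd, ← hnd]; push_cast; ring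
  have hG0 : (Nat.card G : ℂ) ≠ 0 := Nat.cast_ne_zero.2 Nat.card_pos.ne'
  obtain ⟨α, hα⟩ := IsGeneralizedCharacter.exists_one_int S.sgnA.gen
  have hα0 : α ≠ 0 := fun e => S.sgnA.one_ne (by rw [hα, e, Int.cast_zero])
  have hAt : A t = -1 := h.A_K hσ hσi hσ1 S ⟨t, h.tK⟩ (fun e => h.t_ne (congrArg Subtype.val e))
  have hdeg : ∀ l : ↥K →* ℂˣ, l ≠ 1 → l ≠ σ → B l 1 = ((1 - α : ℤ) : ℂ) := by
    intro l hl hls
    have e := h.Vl_one l
    rw [S.eqV l hl hls, Pi.add_apply, hα] at e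
    push_cast
    linear_combination e
  have hβ0 : (1 - α : ℤ) ≠ 0 := fun e => (S.sgnB l0 hl0 hl0s).one_ne (by
    rw [hdeg l0 hl0 hl0s, e, Int.cast_zero])
  obtain ⟨hBt0, c, hc⟩ := h.B_t hσ hσi hσ1 S hl0 hl0s
  have hαc : 1 - α = c * (k : ℤ) + 2 := by
    rw [hdeg l0 hl0 hl0s] at hc
    exact_mod_cast hc
  set q : ℤ := -α with hq
  -- the class equation for a nonreal character
  have hW := h.W_Vl l0 hl0
  rw [S.eqV l0 hl0 hl0s, Hyp.W_add, S.sgnA.W_eq, (S.sgnB l0 hl0 hl0s).W_eq, hAt, hBt0,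
    hdeg l0 hl0 hl0s, hα, neg_mul_neg, one_mul] at hW
  have hWi : ((1 - α) + 4 * α) * (Nat.card G : ℤ) =
      α * (1 - α) * ((Nat.card G : ℤ) - 4 * (k : ℤ) ^ 3) := by
    have hα' : (α : ℂ) ≠ 0 := Int.cast_ne_zero.2 hα0
    have hβ' : ((1 - α : ℤ) : ℂ) ≠ 0 := Int.cast_ne_zero.2 hβ0
    field_simp at hW
    have : ((((1 - α) + 4 * α) * (Nat.card G : ℤ) : ℤ) : ℂ) =
        ((α * (1 - α) * ((Nat.card G : ℤ) - 4 * (k : ℤ) ^ 3) : ℤ) : ℂ) := by
      push_cast at hW ⊢
      linear_combination hW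
    exact_mod_cast this
  obtain ⟨j, hj⟩ : ∃ j : ℤ, q = 1 + j * (k : ℤ) := ⟨c, by rw [hq]; linarith⟩
  have hjn : j * j * (n : ℤ) = 2 * q * (q + 1) := by
    have e1 : ((q - 1) * (q - 1)) * (Nat.card G : ℤ) = 4 * (k : ℤ) ^ 3 * q * (q + 1) := by
      rw [hq]; linear_combination hWi
    rw [hG, hj] at e1
    rw [hj]
    have hk0 : (k : ℤ) ≠ 0 := by omega
    refine mul_left_cancel₀ (mul_ne_zero two_ne_zero (pow_ne_zero 3 hk0)) ?_
    linear_combination e1
  have hj0 : j ≠ 0 := by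
    intro e
    rw [e] at hj hjn
    rw [hj] at hjn
    omega
  have hjc := q_cases h.two_dvd (by omega) (by
    have := Nat.odd_iff.1 h.invol_odd
    omega) hj hjn hj0
  have hq_eq : q = 1 + 2 * (k : ℤ) ∨ q = 1 - 2 * (k : ℤ) := by
    rcases hjc with e | e <;> rw [e] at hj
    · exact Or.inl hj
    · exact Or.inr (by rw [hj]; ring)
  have hn2 : 2 * (n : ℤ) = q * (q + 1) := by
    rcases hjc with e | e <;> rw [e] at hjn <;> linarith
  have hcard : (Nat.card G : ℤ) = (k : ℤ) * q * (q + 1) := by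
    rw [hG]; linear_combination (k : ℤ) * hn2
  -- degrees of the real constituents
  have hCt : C t * C t = 1 := h.C_t hσ hσi hσ1 S (Or.inl rfl)
  have hC't : C' t * C' t = 1 := h.C_t hσ hσi hσ1 S (Or.inr rfl)
  have hsumCC : C 1 + C' 1 = ((1 - α : ℤ) : ℂ) := by
    have e := h.Vl_one σ
    rw [S.eqS, Pi.add_apply, Pi.add_apply, hα] at e
    push_cast
    linear_combination e
  have hβ' : ((1 - α : ℤ) : ℂ) ≠ 0 := Int.cast_ne_zero.2 hβ0
  have hγ : C 1 = ((1 - α : ℤ) : ℂ) / 2 ∧ C' 1 = ((1 - α : ℤ) : ℂ) / 2 := by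
    have hWS := h.W_Vl σ hσ1
    rw [S.eqS, Hyp.W_add, Hyp.W_add, S.sgnA.W_eq, S.sgnC.W_eq, S.sgnC'.W_eq, hAt, hCt, hC't, hα,
      neg_mul_neg, one_mul] at hWS
    have e : 1 / C 1 + 1 / C' 1 = 4 / ((1 - α : ℤ) : ℂ) := by linear_combination hWS - hW
    have h1 := S.sgnC.one_ne
    have h2 := S.sgnC'.one_ne
    field_simp at e
    have h0 : (C 1 - C' 1) * (C 1 - C' 1) = 0 := by
      linear_combination (C 1 + C' 1) * hsumCC + ((1 - α : ℤ) : ℂ) * hsumCC - ((1 - α : ℤ) : ℂ) * hsumCC + e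
    have h3 : C 1 = C' 1 := sub_eq_zero.1 (mul_self_eq_zero.1 h0)
    exact ⟨by linear_combination hsumCC / 2 + h3 / 2, by linear_combination hsumCC / 2 - h3 / 2⟩
  -- representatives of the pairs
  set e := Fintype.equivFin (↥K →* ℂˣ)
  set P := (Finset.univ : Finset (↥K →* ℂˣ)).filter
    (fun l => l ≠ 1 ∧ l ≠ σ ∧ e l < e l⁻¹) with hP
  have hPm : ∀ l ∈ P, l ≠ 1 ∧ l ≠ σ ∧ e l < e l⁻¹ := fun l hl => (Finset.mem_filter.1 hl).2
  have hPc : 2 * P.card + 2 = k := by
    have hinj : Set.InjOn (fun l : ↥K →* ℂˣ => l⁻¹) P := fun l _ m _ he => by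
      rw [← dual_inv_inv l, ← dual_inv_inv m]; exact congrArg (fun z => z⁻¹) he
    have hdis : Disjoint P (P.image fun l => l⁻¹) := by
      rw [Finset.disjoint_left]
      intro l hl hl'
      obtain ⟨m, hm, rfl⟩ := Finset.mem_image.1 hl'
      have h1 := (hPm _ hl).2.2
      rw [dual_inv_inv] at h1
      exact lt_asymm h1 (hPm _ hm).2.2
    have huni : P ∪ P.image (fun l => l⁻¹) =
        Finset.univ \ ({1, σ} : Finset (↥K →* ℂˣ)) := by
      ext l
      simp only [Finset.mem_union, Finset.mem_image, Finset.mem_sdiff, Finset.mem_univ, true_and,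
        Finset.mem_insert, Finset.mem_singleton, not_or]
      constructor
      · rintro (hl | ⟨m, hm, rfl⟩)
        · exact ⟨(hPm _ hl).1, (hPm _ hl).2.1⟩
        · exact (Hyp.nonreal_inv hσ hσi (hPm _ hm).1 (hPm _ hm).2.1).2
      · rintro ⟨hl, hls⟩
        obtain ⟨hn1, hn2, hn3⟩ := Hyp.nonreal_inv hσ hσi hl hls
        rcases lt_trichotomy (e l) (e l⁻¹) with hlt | heq | hgt
        · exact Or.inl (Finset.mem_filter.2 ⟨Finset.mem_univ _, hl, hls, hlt⟩)
        · exact absurd (e.injective heq).symm hn1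
        · exact Or.inr ⟨l⁻¹, Finset.mem_filter.2 ⟨Finset.mem_univ _, hn2, hn3,
            by rwa [dual_inv_inv]⟩, dual_inv_inv l⟩
    have hcc := congrArg Finset.card huni
    rw [Finset.card_union_of_disjoint hdis, Finset.card_image_of_injOn hinj,
      Finset.card_sdiff_of_subset (Finset.subset_univ _), Finset.card_univ, card_dual h.comm,
      Finset.card_pair (Ne.symm hσ1)] at hcc
    omega
  set one : IrrCharacter G := ⟨fun _ => 1, isIrrCharacter_one⟩ with hone
  have hrep1 : ∀ {f : G → ℂ}, Sgn f → Cfsg.classInner f (fun _ => 1) = 0 → rep f ≠ one := by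
    intro f hf h0 e1
    rcases hf.rep_eq with e2 | e2 <;> rw [e1] at e2
    · rw [← e2] at h0
      rw [classInner_self_irr one.2] at h0
      norm_num at h0
    · have : f = -(fun _ => (1 : ℂ)) := by rw [show (fun _ : G => (1 : ℂ)) = -f from e2, neg_neg]
      rw [this, classInner_neg_left, classInner_self_irr isIrrCharacter_one] at h0
      norm_num at h0
  set T : Finset (IrrCharacter G) :=
    insert one (insert (rep A) (insert (rep C) (insert (rep C') (P.image fun l => rep (B l))))) with hT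
  have hTsum : ∀ φ : IrrCharacter G → ℂ,
      ∑ χ ∈ T, φ χ = φ one + φ (rep A) + φ (rep C) + φ (rep C') + ∑ l ∈ P, φ (rep (B l)) := by
    intro φ
    rw [hT, Finset.sum_insert, Finset.sum_insert, Finset.sum_insert, Finset.sum_insert,
      Finset.sum_image]
    · ring
    · intro l hl m hm he
      by_contra hne
      obtain ⟨l1, l2, l3⟩ := hPm l hl
      obtain ⟨m1, m2, m3⟩ := hPm m hm
      refine (S.sgnB l l1 l2).rep_ne (S.sgnB m m1 m2) (S.B_B l m l1 l2 m1 m2 (Ne.symm hne) ?_) he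
      intro e1
      rw [e1, dual_inv_inv] at m3
      exact lt_asymm l3 m3
    all_goals simp only [Finset.mem_insert, Finset.mem_image, not_or, not_exists, not_and]
    · intro l hl he
      exact (S.sgnB l (hPm l hl).1 (hPm l hl).2.1).rep_ne S.sgnC'
        (S.B_C l (hPm l hl).1 (hPm l hl).2.1).2 he
    · exact ⟨S.sgnC.rep_ne S.sgnC' S.C_C', fun l hl he =>
        (S.sgnB l (hPm l hl).1 (hPm l hl).2.1).rep_ne S.sgnC
          (S.B_C l (hPm l hl).1 (hPm l hl).2.1).1 he⟩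
    · exact ⟨S.sgnA.rep_ne S.sgnC S.A_C, S.sgnA.rep_ne S.sgnC' S.A_C', fun l hl he =>
        (S.sgnA).rep_ne (S.sgnB l (hPm l hl).1 (hPm l hl).2.1)
          (S.A_B l (hPm l hl).1 (hPm l hl).2.1) he.symm⟩
    · exact ⟨(hrep1 S.sgnA S.A_1).symm, (hrep1 S.sgnC S.C_1).symm, (hrep1 S.sgnC' S.C'_1).symm,
        fun l hl => hrep1 (S.sgnB l (hPm l hl).1 (hPm l hl).2.1)
          (S.B_1 l (hPm l hl).1 (hPm l hl).2.1)⟩
  have hBt : ∀ l ∈ P, B l t * B l t = 4 := fun l hl =>
    (h.B_t hσ hσi hσ1 S (hPm l hl).1 (hPm l hl).2.1).1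
  have hPC : (P.card : ℂ) = ((k : ℂ) - 2) / 2 := by
    have : ((2 * P.card + 2 : ℕ) : ℂ) = (k : ℂ) := by rw [hPc]
    push_cast at this
    linear_combination this / 2
  have hzero : ∀ χ : IrrCharacter G, χ ∉ T → (χ : G → ℂ) t = 0 := by
    have htot : ∑ χ : IrrCharacter G, Complex.normSq ((χ : G → ℂ) t) = ((2 * k : ℕ) : ℝ) := by
      have e1 := column_orth_of_isConj (IsConj.refl t)
      rw [show Nat.card (Subgroup.centralizer ({t} : Set G)) = 2 * k from h.card_H] at e1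
      simp only [Complex.mul_conj] at e1
      exact_mod_cast e1
    have hT' : ((∑ χ ∈ T, Complex.normSq ((χ : G → ℂ) t) : ℝ) : ℂ) = ((2 * k : ℕ) : ℂ) := by
      have hsq : ∀ χ : IrrCharacter G, ((Complex.normSq ((χ : G → ℂ) t) : ℝ) : ℂ) =
          (χ : G → ℂ) t * (χ : G → ℂ) t := fun χ => by rw [← Complex.mul_conj, h.real_t χ]
      rw [Complex.ofReal_sum, Finset.sum_congr rfl fun χ _ => hsq χ, hTsum,
        (S.sgnA.rep_term t t).2.1, (S.sgnC.rep_term t t).2.1, (S.sgnC'.rep_term t t).2.1,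
        Finset.sum_congr rfl fun l hl =>
          ((S.sgnB l (hPm l hl).1 (hPm l hl).2.1).rep_term t t).2.1.trans (hBt l hl),
        Finset.sum_const, nsmul_eq_mul, hAt, hCt, hC't, hPC]
      simp [hone]
      ring
    have hT'' : ∑ χ ∈ T, Complex.normSq ((χ : G → ℂ) t) = ((2 * k : ℕ) : ℝ) := by exact_mod_cast hT'
    intro χ hχ
    rw [← Finset.sum_add_sum_compl T, hT''] at htot
    have h0 : ∑ χ ∈ Tᶜ, Complex.normSq ((χ : G → ℂ) t) = 0 := by linarith
    exact Complex.normSq_eq_zero.1 ((Finset.sum_eq_zero_iff_of_nonneg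
      fun i _ => Complex.normSq_nonneg _).1 h0 χ (Finset.mem_compl.2 hχ))
  -- values outside
  have hBx : ∀ x, Out K x → ∀ l ∈ P, B l x = 1 - A x := by
    intro x hx l hl
    have e1 : (Vl l : G → ℂ) x = 1 := by rw [Vl, Pi.add_apply, Fl_out l hx.2, zero_add]
    rw [S.eqV l (hPm l hl).1 (hPm l hl).2.1, Pi.add_apply] at e1
    linear_combination e1
  have hCx : ∀ x, Out K x → C x + C' x = 1 - A x := by
    intro x hx
    have e1 : (Vl σ : G → ℂ) x = 1 := by rw [Vl, Pi.add_apply, Fl_out σ hx.2, zero_add]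
    rw [S.eqS, Pi.add_apply, Pi.add_apply] at e1
    linear_combination e1
  have hqC : (α : ℂ) = -(q : ℂ) := by rw [hq]; push_cast; ring
  have hq0 : (q : ℂ) ≠ 0 := by
    rw [hq]; push_cast; exact neg_ne_zero.2 (Int.cast_ne_zero.2 hα0)
  have hq10 : (q : ℂ) + 1 ≠ 0 := by
    have : ((1 - α : ℤ) : ℂ) = (q : ℂ) + 1 := by push_cast; rw [hqC]; ring
    exact this ▸ hβ'
  have hk0 : (k : ℂ) ≠ 0 := Nat.cast_ne_zero.2 (by omega)
  have hcardC : (Nat.card G : ℂ) = (k : ℂ) * q * (q + 1) := by exact_mod_cast hcard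
  have hpairs : ∀ x, Out K x → 4 * (k : ℂ) * (Nat.card (Pairs t x) : ℂ) =
      (q : ℂ) * (q + 1) - A x * (q + 1) + (2 * (k : ℂ) - 2) * (1 - A x) * q := by
    intro x hx
    have hf := h.pairs_formula x
    rw [← Finset.sum_subset (Finset.subset_univ T) (fun χ _ hχ => by
      rw [hzero χ hχ]; simp), hTsum, (S.sgnA.rep_term t x).1, (S.sgnC.rep_term t x).1,
      (S.sgnC'.rep_term t x).1, Finset.sum_congr rfl fun l hl => by
        rw [((S.sgnB l (hPm l hl).1 (hPm l hl).2.1).rep_term t x).1, hBt l hl, hBx x hx l hl,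
          hdeg l (hPm l hl).1 (hPm l hl).2.1],
      Finset.sum_const, nsmul_eq_mul, hAt, hCt, hC't, hγ.1, hγ.2, hα, hPC, hcardC] at hf
    simp only [hone, mul_one, one_mul, neg_mul_neg, div_one] at hf
    push_cast at hf
    rw [hqC] at hf
    rw [← hkd, sub_neg_eq_add] at hf
    have h1q : (1 : ℂ) + q ≠ 0 := by rw [add_comm]; exact hq10
    have hS : (1 + A x / -(q : ℂ) + C x / ((1 + (q : ℂ)) / 2) + C' x / ((1 + (q : ℂ)) / 2) +
        ((k : ℂ) - 2) / 2 * (4 * (1 - A x) / (1 + (q : ℂ)))) * ((q : ℂ) * (q + 1)) =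
        (q : ℂ) * (q + 1) - A x * (q + 1) + (2 * (k : ℂ) - 2) * (1 - A x) * q := by
      rw [show C' x = 1 - A x - C x by linear_combination hCx x hx]
      field_simp
      ring
    refine mul_left_cancel₀ hk0 ?_
    linear_combination hf + (k : ℂ) * hS
  have hden : (q + 1) + (2 * (k : ℤ) - 2) * q ≠ 0 := by
    rcases hq_eq with e1 | e1 <;> rw [e1] <;> nlinarith
  have hint : ∀ x, Out K x → ∃ a : ℤ, A x = a := by
    intro x hx
    have hd : (((q + 1) + (2 * (k : ℤ) - 2) * q : ℤ) : ℂ) ≠ 0 := Int.cast_ne_zero.2 hden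
    set num : ℤ := q * (q + 1) + (2 * (k : ℤ) - 2) * q - 4 * (k : ℤ) * (Nat.card (Pairs t x) : ℤ)
    have hAx : A x = (((num : ℚ) / (((q + 1) + (2 * (k : ℤ) - 2) * q : ℤ) : ℚ) : ℚ) : ℂ) := by
      push_cast at hd ⊢
      rw [eq_div_iff hd]
      simp only [num]
      push_cast
      linear_combination hpairs x hx
    obtain ⟨m, hm⟩ := exists_int_of_isIntegral (q := (num : ℚ) / (((q + 1) + (2 * (k : ℤ) - 2) * q : ℤ) : ℚ))
      (hAx ▸ isIntegral_gen S.sgnA.gen x)
    exact ⟨m, by rw [hAx, hm]; norm_cast⟩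
  choose! a ha using hint
  have hAc := IsGeneralizedCharacter.isClassFunction S.sgnA.gen
  refine ⟨q, a, hq_eq, hcard, ?_, ?_, ?_, ?_, ?_⟩
  · intro g x hx
    have := hAc x g
    rw [ha x hx, ha _ (hx.conj g)] at this
    exact_mod_cast this
  · intro x hx
    have e1 : A x⁻¹ = conj (A x) := by
      rcases S.sgnA with hA | hA
      · exact IsCharacter.inv (IsIrrCharacter.isCharacter hA) x
      · have := IsCharacter.inv (IsIrrCharacter.isCharacter hA) x
        simp only [Pi.neg_apply, map_neg, neg_inj] at this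
        exact this
    rw [ha x hx, ha _ hx.inv, map_intCast] at e1
    exact_mod_cast e1
  · intro x hx
    have := hpairs x hx
    rw [ha x hx] at this
    exact_mod_cast this
  · intro x hx
    have e1 := column_orth_of_isConj (IsConj.refl x)
    simp only [Complex.mul_conj] at e1
    have e2 : ∑ χ : IrrCharacter G, Complex.normSq ((χ : G → ℂ) x) = (Nat.card (Cz x) : ℝ) := by
      exact_mod_cast e1
    have e3 : ∑ χ ∈ T, Complex.normSq ((χ : G → ℂ) x) ≤ (Nat.card (Cz x) : ℝ) := e2 ▸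
      Finset.sum_le_sum_of_subset_of_nonneg (Finset.subset_univ T) fun i _ _ => Complex.normSq_nonneg _
    have e4 : ((∑ χ ∈ T, Complex.normSq ((χ : G → ℂ) x) : ℝ) : ℂ) =
        ((1 + Complex.normSq (A x) + Complex.normSq (C x) + Complex.normSq (C' x) +
          (P.card : ℝ) * Complex.normSq (1 - A x) : ℝ) : ℂ) := by
      rw [Complex.ofReal_sum, hTsum, (S.sgnA.rep_term t x).2.2, (S.sgnC.rep_term t x).2.2,
        (S.sgnC'.rep_term t x).2.2, Finset.sum_congr rfl fun l hl => by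
          rw [((S.sgnB l (hPm l hl).1 (hPm l hl).2.1).rep_term t x).2.2, hBx x hx l hl],
        Finset.sum_const, nsmul_eq_mul]
      simp [hone]
    rw [Complex.ofReal_inj.1 e4, ha x hx] at e3
    have e5 := normSq_add_le (C x) (C' x)
    rw [hCx x hx, ha x hx] at e5
    rw [show (1 : ℂ) - (a x : ℂ) = (((1 - a x : ℤ) : ℝ) : ℂ) by push_cast; rfl] at e3 e5
    rw [show (a x : ℂ) = (((a x : ℤ) : ℝ) : ℂ) by push_cast; rfl] at e3
    rw [Complex.normSq_ofReal] at e3 e5
    rw [Complex.normSq_ofReal] at e3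
    have e6 : (P.card : ℝ) = ((k : ℝ) - 2) / 2 := by
      have : ((2 * P.card + 2 : ℕ) : ℝ) = (k : ℝ) := by rw [hPc]
      push_cast at this
      linarith
    rw [e6] at e3
    have e7 : ((2 + 2 * a x * a x + ((k : ℤ) - 1) * ((1 - a x) * (1 - a x)) : ℤ) : ℝ) ≤
        ((2 * (Nat.card (Cz x) : ℤ) : ℤ) : ℝ) := by
      push_cast at e3 e5 ⊢
      linarith
    exact_mod_cast e7
  · have hs0 : ∑ x : G, A x = 0 := by
      have e1 := S.A_1
      rw [Cfsg.classInner, mul_eq_zero] at e1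
      rcases e1 with e1 | e1
      · exact absurd e1 (inv_ne_zero hG0)
      · simpa using e1
    have hAK : ∀ x, InK K x → x ≠ 1 → A x = -1 := by
      rintro x ⟨g, hg⟩ hx1
      rw [← hAc x g]
      exact h.A_K hσ hσi hσ1 S ⟨_, hg⟩ fun e => hx1 (conj_eq_one_iff.1 (congrArg Subtype.val e))
    have hsplit : ∀ x : G, A x = (if x = 1 then -(q : ℂ) else 0) +
        (if InK K x ∧ x ≠ 1 then (-1 : ℂ) else 0) + (if Out K x then (a x : ℂ) else 0) := by
      intro x
      by_cases h1 : x = 1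
      · subst h1
        rw [if_pos rfl, if_neg (fun e => e.2 rfl), if_neg (fun e => e.1 rfl), hα, hqC]; ring
      · by_cases h2 : InK K x
        · rw [if_neg h1, if_pos ⟨h2, h1⟩, if_neg (fun e => e.2 h2), hAK x h2 h1]; ring
        · rw [if_neg h1, if_neg (fun e => h2 e.1), if_pos ⟨h1, h2⟩, ha x ⟨h1, h2⟩]; ring
    rw [Finset.sum_congr rfl fun x _ => hsplit x, Finset.sum_add_distrib, Finset.sum_add_distrib,
      Finset.sum_ite_eq' Finset.univ, if_pos (Finset.mem_univ _), ← Finset.sum_filter,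
      ← Finset.sum_filter, Finset.sum_const, nsmul_eq_mul] at hs0
    have hcK : (Finset.univ.filter fun x : G => InK K x ∧ x ≠ 1).card = (k - 1) * n := by
      rw [← Fintype.card_subtype, ← Nat.card_eq_fintype_card]
      exact h.count_K
    rw [hcK, Nat.cast_mul, Nat.cast_sub (by omega)] at hs0
    rw [← hnd]
    have : ((∑ x ∈ Finset.univ.filter (fun x => Out K x), a x : ℤ) : ℂ) =
        ((q + ((k : ℤ) - 1) * (n : ℤ) : ℤ) : ℂ) := by
      push_cast at hs0 ⊢
      linear_combination hs0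
    exact_mod_cast this

end Cfsg.Agent.BSW
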