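import Cfsg.Agent.Lib.BSW.Main
import Cfsg.Agent.Lib.BSW.Zass
import Cfsg.Agent.Lib.Blocks.DihedralLocal
import Cfsg.Agent.Lib.TwoGroups.DihFusion
import Cfsg.Agent.Lib.ZStarApps.CommTwo
import Cfsg.Prelude.Def_CaseTheorems

/-!
Simple groups with dihedral Sylow 2-subgroups and small involution centralizers.
-/

set_option autoImplicit false
set_option linter.style.haveILetI false

namespace Cfsg.Agent.BSW

universe u

open Cfsg.Agent.TwoFus
open scoped Pointwise

variable {G : Type u} [Group G] [Finite G]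

/-- All involutions of a simple group with dihedral Sylow 2-subgroups are conjugate. -/
theorem dih_simple_one_class [IsSimpleGroup G] (hnc : ¬ IsMulCommutative G) (P : Sylow 2 G)
    (d : Dih (P : Subgroup G)) (a b : G) (ha : orderOf a = 2) (hb : orderOf b = 2) : IsConj a b := by
  haveI : Fact (Nat.Prime 2) := ⟨Nat.prime_two⟩
  refine dih_one_class P d (fun U hUP hU => ?_) a b ha hb
  by_contra h3
  have hOT : OddTrivial U := klein_oddTrivial (by
    have h6 := klein_relIndex_dvd hU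
    have hle := Nat.le_of_dvd (by norm_num) h6
    generalize (Subgroup.centralizer (U : Set G)).relIndex (Subgroup.normalizer (U : Set G)) = r at *
    interval_cases r <;> omega)
  obtain ⟨-, i, hi⟩ := d.klein_exists_form hU hUP
  obtain ⟨K, hK, hK2⟩ := dih_index_two P d (i + 1) fun E hEP hE => by
    by_cases hsmall : 4 < Nat.card (P : Subgroup G)
    · have h4 := d.four_dvd P.isPGroup' hsmall
      obtain ⟨-, j, hj⟩ := d.klein_exists_form hE hEP
      rcases Int.even_or_odd (j - i) with he | he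
      · left
        obtain ⟨s, -, hs⟩ := d.klein_conj hU hE hUP hEP hi hj he.two_dvd
        refine klein_oddTrivial ?_
        rw [← hs, relIndex_centralizer_conj]
        have h6 := klein_relIndex_dvd hU
        have hle := Nat.le_of_dvd (by norm_num) h6
        generalize (Subgroup.centralizer (U : Set G)).relIndex (Subgroup.normalizer (U : Set G)) = r at *
        interval_cases r <;> omega
      · right
        refine d.klein_le_half h4 hE hEP hj ?_
        obtain ⟨k, hk⟩ := he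
        exact ⟨k, by linarith⟩
    · left
      have e : E = U := by
        have h1 : U = (P : Subgroup G) := Subgroup.eq_of_le_of_card_ge hUP (by rw [hU.card_four]; omega)
        have h2 : E = (P : Subgroup G) := Subgroup.eq_of_le_of_card_ge hEP (by rw [hE.card_four]; omega)
        rw [h1, h2]
      rw [e]; exact hOT
  exact ZStarApps.no_index_two hnc K hK hK2

theorem eq_one_or_eq_of_cyclic {R : Subgroup G} (hR : IsCyclic R) {t a : G} (ht : orderOf t = 2)
    (htR : t ∈ R) (haR : a ∈ R) (h : a * a = 1) : a = 1 ∨ a = t := by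
  classical
  haveI := Fintype.ofFinite R
  haveI := hR
  by_contra hne
  push Not at hne
  obtain ⟨htt, ht1⟩ := order_two_iff.1 ht
  have h2 := IsCyclic.card_pow_eq_one_le (α := R) (n := 2) two_pos
  have hsub : ({1, ⟨t, htR⟩, ⟨a, haR⟩} : Finset R) ⊆ Finset.univ.filter fun x : R => x ^ 2 = 1 := by
    intro x hx
    simp only [Finset.mem_insert, Finset.mem_singleton] at hx
    rw [Finset.mem_filter]
    refine ⟨Finset.mem_univ _, ?_⟩
    rcases hx with rfl | rfl | rfl
    · exact one_pow 2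
    · exact Subtype.ext (by simpa [pow_two] using htt)
    · exact Subtype.ext (by simpa [pow_two] using h)
  have h3 := (Finset.card_le_card hsub).trans h2
  rw [Finset.card_insert_of_notMem (by simp [Subtype.ext_iff, Ne.symm ht1, Ne.symm hne.1]),
    Finset.card_pair (by simp [Subtype.ext_iff, Ne.symm hne.2])] at h3
  omega

/-- The rotations. -/
structure Rot (P : Sylow 2 G) (t : G) (O R : Subgroup G) : Prop where
  le : R ≤ (P : Subgroup G)
  cyc : IsCyclic R
  tR : t ∈ R
  idx : R.relIndex (P : Subgroup G) = 2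
  cent : ∀ r ∈ R, ∀ y ∈ O, r * y = y * r
  inv : ∀ s ∈ (P : Subgroup G), s ∉ R → ∀ y ∈ O, s * y * s⁻¹ = y⁻¹

/-- An element of `S` outside the rotations is an involution inverting them. -/
theorem Rot.out {P : Sylow 2 G} {t : G} {O R : Subgroup G} (hR : Rot P t O R)
    (d : Dih (P : Subgroup G)) {s : G} (hs : s ∈ (P : Subgroup G)) (hsR : s ∉ R) :
    s * s = 1 ∧ ∀ r ∈ R, s * r * s⁻¹ = r⁻¹ := by
  haveI := hR.cyc
  have hm : Nat.card R = d.m := by
    have h1 := ((R.subgroupOf (P : Subgroup G))).card_mul_index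
    rw [← Subgroup.relIndex, hR.idx, Nat.card_congr (Subgroup.subgroupOfEquivOfLe hR.le).toEquiv,
      d.card] at h1
    omega
  have hxm : Nat.card (Subgroup.zpowers d.x) = d.m := by rw [Nat.card_zpowers, d.hm]
  have hRx : R = Subgroup.zpowers d.x → (s * s = 1 ∧ ∀ r ∈ R, s * r * s⁻¹ = r⁻¹) := by
    intro e
    refine ⟨d.out_sq s hs (e ▸ hsR), fun r hr => ?_⟩
    obtain ⟨i, rfl⟩ := e ▸ hr
    rcases d.cases s hs with ⟨j, rfl⟩ | ⟨j, rfl⟩
    · exact absurd (e ▸ zpow_mem (Subgroup.mem_zpowers d.x) j) hsR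
    · show d.x ^ j * d.y * d.x ^ i * (d.x ^ j * d.y)⁻¹ = (d.x ^ i)⁻¹
      rw [show d.x ^ j * d.y * d.x ^ i * (d.x ^ j * d.y)⁻¹ =
        d.x ^ j * (d.y * d.x ^ i * d.y⁻¹) * (d.x ^ j)⁻¹ by group, DihBlock.conj_x_zpow, ← zpow_neg,
        (Commute.zpow_zpow_self d.x j (-i)).eq, mul_inv_cancel_right]
  obtain ⟨⟨g, hg⟩, hgen⟩ := IsCyclic.exists_generator (α := R)
  have hRg : R = Subgroup.zpowers g := by
    refine le_antisymm (fun a ha => ?_) (Subgroup.zpowers_le.2 hg)
    obtain ⟨i, hi⟩ := hgen ⟨a, ha⟩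
    exact ⟨i, by simpa using congrArg Subtype.val hi⟩
  by_cases hgx : g ∈ Subgroup.zpowers d.x
  · exact hRx (Subgroup.eq_of_le_of_card_ge (hRg ▸ Subgroup.zpowers_le.2 hgx) (by rw [hm, hxm]))
  have hgg : g * g = 1 := d.out_sq g (hR.le hg) hgx
  have hm2 : d.m = 2 := by
    have h1 : Nat.card R ≤ 2 := by
      rw [hRg, Nat.card_zpowers]
      exact Nat.le_of_dvd two_pos (orderOf_dvd_of_pow_eq_one (by rw [pow_two, hgg]))
    have := d.two_le
    omega
  have hsq : ∀ a ∈ (P : Subgroup G), a * a = 1 := by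
    intro a ha
    by_cases hax : a ∈ Subgroup.zpowers d.x
    · obtain ⟨i, rfl⟩ := hax
      show d.x ^ i * d.x ^ i = 1
      rw [← zpow_add, d.zpow_eq_one, hm2]
      exact ⟨i, by push_cast; ring⟩
    · exact d.out_sq a ha hax
  refine ⟨hsq s hs, fun r hr => ?_⟩
  have h1 := hsq r (hR.le hr)
  have h2 := hsq s hs
  have h3 := hsq (s * r) (mul_mem hs (hR.le hr))
  rw [inv_eq_self h2, inv_eq_self h1]
  calc s * r * s = s * r * s * (r * r) := by rw [h1, mul_one]
    _ = (s * r * (s * r)) * r := by group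
    _ = r := by rw [h3, one_mul]

theorem exists_rot (P : Sylow 2 G) (d : Dih (P : Subgroup G)) {t : G} (ht : orderOf t = 2)
    (htP : t ∈ (P : Subgroup G)) (htZ : ∀ s ∈ (P : Subgroup G), s * t = t * s) {O : Subgroup G}
    (hOt : O ≤ Cz t)
    (ha : O ≠ ⊥ → IsCyclic ((P : Subgroup G) ⊓ Subgroup.centralizer (O : Set G) : Subgroup G) ∧
      ((P : Subgroup G) ⊓ Subgroup.centralizer (O : Set G)).relIndex (P : Subgroup G) = 2)
    (hb : ∀ s ∈ (P : Subgroup G), s ∉ Subgroup.centralizer (O : Set G) → ∀ y ∈ O, s * y * s⁻¹ = y⁻¹) :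
    ∃ R, Rot P t O R := by
  by_cases hO : O = ⊥
  · subst hO
    obtain ⟨R, hle, hcyc, htR, hidx⟩ : ∃ R : Subgroup G, R ≤ (P : Subgroup G) ∧ IsCyclic R ∧ t ∈ R ∧
        Nat.card R = d.m := by
      by_cases htx : t ∈ Subgroup.zpowers d.x
      · exact ⟨_, Subgroup.zpowers_le.2 d.hx, inferInstance, htx, by rw [Nat.card_zpowers, d.hm]⟩
      refine ⟨_, Subgroup.zpowers_le.2 htP, inferInstance, Subgroup.mem_zpowers t, ?_⟩
      rw [Nat.card_zpowers, ht]
      rcases d.cases t htP with ⟨i, rfl⟩ | ⟨i, rfl⟩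
      · exact absurd (zpow_mem (Subgroup.mem_zpowers d.x) i) htx
      · have h1 := htZ d.x d.hx
        have h2 : d.x * d.x = 1 := by
          have e : d.x * (d.x ^ i * d.y) = d.x ^ (i + 1) * d.y := by
            rw [← mul_assoc, zpow_add_one, ← (Commute.self_zpow d.x i).eq]
          have e' : d.x ^ i * d.y * d.x = d.x ^ (i - 1) * d.y := by
            have := d.swap 1
            rw [zpow_one] at this
            rw [mul_assoc, this, ← mul_assoc, ← zpow_add, sub_eq_add_neg]
          rw [e, e'] at h1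
          have := mul_right_cancel h1
          calc d.x * d.x = d.x ^ (i + 1) * (d.x ^ (i - 1))⁻¹ := by
                rw [← zpow_sub, show i + 1 - (i - 1) = (2 : ℤ) by ring, zpow_two]
            _ = 1 := by rw [this, mul_inv_cancel]
        have h3 := orderOf_dvd_of_pow_eq_one (show d.x ^ 2 = 1 by rw [pow_two]; exact h2)
        rw [d.hm] at h3
        exact (le_antisymm (Nat.le_of_dvd two_pos h3) d.two_le).symm
    refine ⟨R, hle, hcyc, htR, ?_, fun r _ y hy => ?_, fun s _ _ y hy => ?_⟩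
    · have h1 := ((R.subgroupOf (P : Subgroup G))).card_mul_index
      rw [← Subgroup.relIndex, Nat.card_congr (Subgroup.subgroupOfEquivOfLe hle).toEquiv, hidx,
        d.card, mul_comm 2 d.m] at h1
      exact Nat.eq_of_mul_eq_mul_left (lt_of_lt_of_le two_pos d.two_le) h1
    · rw [Subgroup.mem_bot] at hy; subst hy; simp
    · rw [Subgroup.mem_bot] at hy; subst hy; simp
  · refine ⟨_, inf_le_left, (ha hO).1, ⟨htP, ?_⟩, (ha hO).2, fun r hr y hy => ?_, fun s hs hsR y hy => ?_⟩
    · exact Subgroup.mem_centralizer_iff.2 fun y hy => mem_Cz.1 (hOt hy)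
    · exact (Subgroup.mem_centralizer_iff.1 hr.2 y hy).symm
    · exact hb s hs (fun h => hsR ⟨hs, h⟩) y hy

theorem centralizer_structure [IsSimpleGroup G] (hnc : ¬ IsMulCommutative G) (P : Sylow 2 G)
    (d : Dih (P : Subgroup G)) {t : G} (ht : orderOf t = 2) (htZ : ∀ s ∈ (P : Subgroup G), s * t = t * s)
    {O : Subgroup G} (hO : O = (Cfsg.oddCore (Cz t)).map (Cz t).subtype) :
    O ≤ Cz t ∧ (P : Subgroup G) ≤ Cz t ∧ Odd (Nat.card O) ∧ Cz t ≤ Subgroup.normalizer (O : Set G) ∧
      O ⊔ (P : Subgroup G) = Cz t := by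
  haveI : Fact (Nat.Prime 2) := ⟨Nat.prime_two⟩
  have hle : O ≤ Cz t := hO ▸ Subgroup.map_subtype_le _
  have hP : (P : Subgroup G) ≤ Cz t := fun s hs => mem_Cz.2 (htZ s hs)
  have hcard : Nat.card O = Nat.card (Cfsg.oddCore (Cz t)) := by
    rw [hO, Subgroup.card_map_of_injective (Cz t).subtype_injective]
  have hcop : (Nat.card (Cfsg.oddCore (Cz t))).Coprime 2 := PBasic.pPrimeCore_coprime 2 _
  have hodd : Odd (Nat.card O) := hcard ▸ Nat.coprime_two_right.1 hcop
  have hnorm : Cz t ≤ Subgroup.normalizer (O : Set G) := by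
    intro c hc
    have := (Subgroup.le_normalizer_map (H := Cfsg.oddCore (Cz t)) (Cz t).subtype)
      ⟨⟨c, hc⟩, by rw [Subgroup.normalizer_eq_top]; trivial, rfl⟩
    rwa [← hO] at this
  refine ⟨hle, hP, hodd, hnorm, ?_⟩
  have hC : Cfsg.HasNormalPComplement 2 (Cz t) := by
    obtain ⟨g, hg⟩ := isConj_iff.1 (dih_simple_one_class hnc P d d.z t
      (orderOf_eq_prime (by rw [pow_two]; exact d.zz) d.z_ne) ht)
    have e := DihBlock.centConj g d.z
    rw [hg] at e
    exact (PBasic.hasNormalPComplement_congr e).1 (DihBlock.data_z d).1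
  obtain ⟨N, hN, hNc, k, hk⟩ := PBasic.hasNormalPComplement_iff.1 hC
  haveI := hN
  have hNO : N.map (Cz t).subtype ≤ O := hO ▸ Subgroup.map_mono (PBasic.le_pPrimeCore hN hNc)
  have h1 : Nat.card (Cz t) ∣ Nat.card O * 2 ^ k := by
    rw [← N.card_mul_index, hk, ← Subgroup.card_map_of_injective (Cz t).subtype_injective]
    exact mul_dvd_mul_right (Subgroup.card_dvd_of_le hNO) _
  have h2 : 2 ^ k ∣ Nat.card (P : Subgroup G) := by
    rw [P.card_eq_multiplicity]
    exact (Nat.Prime.pow_dvd_iff_dvd_ordProj Nat.prime_two Nat.card_pos.ne').1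
      (hk ▸ N.index_dvd_card.trans (Subgroup.card_subgroup_dvd_card _))
  refine Subgroup.eq_of_le_of_card_ge (sup_le hle hP) (Nat.le_of_dvd Nat.card_pos ?_)
  refine (h1.trans (mul_dvd_mul_left _ h2)).trans ?_
  refine Nat.Coprime.mul_dvd_of_dvd_of_dvd ?_ (Subgroup.card_dvd_of_le le_sup_left)
    (Subgroup.card_dvd_of_le le_sup_right)
  obtain ⟨j, hj⟩ := IsPGroup.iff_card.1 P.isPGroup'
  rw [hj]
  exact (Nat.coprime_two_right.2 hodd).pow_right j

theorem hyp_of_dihedral [IsSimpleGroup G] (hnc : ¬ IsMulCommutative G) (P : Sylow 2 G)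
    (d : Dih (P : Subgroup G)) {t : G} (ht : orderOf t = 2)
    (htP : t ∈ (P : Subgroup G)) (htZ : ∀ s ∈ (P : Subgroup G), s * t = t * s) {O : Subgroup G}
    (hO : O = (Cfsg.oddCore (Cz t)).map (Cz t).subtype)
    (ha : O ≠ ⊥ → IsCyclic ((P : Subgroup G) ⊓ Subgroup.centralizer (O : Set G) : Subgroup G) ∧
      ((P : Subgroup G) ⊓ Subgroup.centralizer (O : Set G)).relIndex (P : Subgroup G) = 2)
    (hb : ∀ s ∈ (P : Subgroup G), s ∉ Subgroup.centralizer (O : Set G) → ∀ y ∈ O, s * y * s⁻¹ = y⁻¹)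
    (hc : ∀ Y : Subgroup G, Y ≤ O → Y ≠ ⊥ → Subgroup.normalizer (Y : Set G) ≤ Cz t) :
    ∃ K : Subgroup G, ∃ s : G, Hyp t K s := by
  haveI : Fact (Nat.Prime 2) := ⟨Nat.prime_two⟩
  obtain ⟨hOC, hPC, hOodd, hCN, hsup⟩ := centralizer_structure hnc P d ht htZ hO
  obtain ⟨R, hR⟩ := exists_rot P d ht htP htZ hOC ha hb
  obtain ⟨s, hsP, hsR⟩ : ∃ s ∈ (P : Subgroup G), s ∉ R := by
    by_contra hno
    push Not at hno
    have := hR.idx
    rw [Subgroup.relIndex_eq_one.2 hno] at this
    omega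
  obtain ⟨hss, hsinv⟩ := hR.out d hsP hsR
  have hso : orderOf s = 2 := order_two_iff.2 ⟨hss, fun e => hsR (e ▸ R.one_mem)⟩
  have hOP : ∀ a ∈ O, a ∈ (P : Subgroup G) → a = 1 := fun a h1 h2 => by
    obtain ⟨j, hj⟩ := IsPGroup.iff_card.1 P.isPGroup'
    have h4 := Subgroup.orderOf_dvd_natCard _ h2
    rw [hj] at h4
    rw [← orderOf_eq_one_iff]
    exact Nat.eq_one_of_dvd_coprimes ((Nat.coprime_two_right.2 hOodd).pow_right j)
      (Subgroup.orderOf_dvd_natCard _ h1) h4
  have hOcomm : ∀ a ∈ O, ∀ b ∈ O, a * b = b * a := by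
    intro a ha' b hb'
    refine inv_injective ?_
    calc (a * b)⁻¹ = s * (a * b) * s⁻¹ := (hR.inv s hsP hsR _ (mul_mem ha' hb')).symm
      _ = s * a * s⁻¹ * (s * b * s⁻¹) := by group
      _ = a⁻¹ * b⁻¹ := by rw [hR.inv s hsP hsR a ha', hR.inv s hsP hsR b hb']
      _ = (b * a)⁻¹ := (mul_inv_rev b a).symm
  have hRcomm : ∀ a ∈ R, ∀ b ∈ R, a * b = b * a := by
    intro a ha' b hb'
    haveI := hR.cyc
    letI : CommGroup R := IsCyclic.commGroup
    exact congrArg Subtype.val (mul_comm (⟨a, ha'⟩ : R) ⟨b, hb'⟩)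
  let K : Subgroup G := O ⊔ R
  have hRN : R ≤ Subgroup.normalizer (O : Set G) := hR.le.trans (hPC.trans hCN)
  have hdec : ∀ a ∈ K, ∃ o ∈ O, ∃ r ∈ R, o * r = a := by
    intro a hak
    have : a ∈ ((O : Set G) * (R : Set G)) := by
      rw [← Subgroup.coe_mul_of_right_le_normalizer_left O R hRN]; exact hak
    exact Set.mem_mul.1 this
  have hKC : K ≤ Cz t := sup_le hOC (hR.le.trans hPC)
  have hcomm : ∀ a ∈ K, ∀ b ∈ K, a * b = b * a := by
    intro a hak b hbk
    obtain ⟨o, ho, r, hr, rfl⟩ := hdec a hak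
    obtain ⟨o', ho', r', hr', rfl⟩ := hdec b hbk
    exact Commute.mul_left (Commute.mul_right (hOcomm o ho o' ho') (hR.cent r' hr' o ho).symm)
      (Commute.mul_right (hR.cent r hr o' ho') (hRcomm r hr r' hr'))
  have hinv : ∀ a ∈ K, s * a * s⁻¹ = a⁻¹ := by
    intro a hak
    obtain ⟨o, ho, r, hr, rfl⟩ := hdec a hak
    calc s * (o * r) * s⁻¹ = s * o * s⁻¹ * (s * r * s⁻¹) := by group
      _ = o⁻¹ * r⁻¹ := by rw [hR.inv s hsP hsR o ho, hsinv r hr]
      _ = (r * o)⁻¹ := (mul_inv_rev r o).symm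
      _ = (o * r)⁻¹ := by rw [hR.cent r hr o ho]
  have hoddpow : ∀ a ∈ K, Odd (orderOf a) → a ∈ O := by
    intro a hak hao
    obtain ⟨o, ho, r, hr, rfl⟩ := hdec a hak
    have h1 : o ^ orderOf (o * r) * r ^ orderOf (o * r) = 1 := by
      rw [← Commute.mul_pow (hR.cent r hr o ho).symm, pow_orderOf_eq_one]
    have h2 : o ^ orderOf (o * r) = 1 := hOP _ (pow_mem ho _) (by
      rw [eq_inv_of_mul_eq_one_left h1]; exact inv_mem (pow_mem (hR.le hr) _))
    rw [h2, one_mul] at h1
    obtain ⟨j, hj⟩ := IsPGroup.iff_card.1 P.isPGroup'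
    have h4 := Subgroup.orderOf_dvd_natCard _ (hR.le hr)
    rw [hj] at h4
    have : r = 1 := orderOf_eq_one_iff.1 (Nat.eq_one_of_dvd_coprimes
      ((Nat.coprime_two_left.2 hao).pow_left j) h4 (orderOf_dvd_of_pow_eq_one h1))
    rw [this, mul_one]; exact ho
  have hsq : ∀ a ∈ K, a * a = 1 → a = 1 ∨ a = t := by
    intro a hak haa
    obtain ⟨o, ho, r, hr, rfl⟩ := hdec a hak
    have h1 : o * o * (r * r) = 1 := by
      rw [show o * o * (r * r) = o * (o * r) * r by group, ← hR.cent r hr o ho]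
      rw [show o * (r * o) * r = o * r * (o * r) by group, haa]
    have h2 : o * o = 1 := hOP _ (mul_mem ho ho) (by
      rw [eq_inv_of_mul_eq_one_left h1]; exact inv_mem (mul_mem (hR.le hr) (hR.le hr)))
    have h3 : o = 1 := orderOf_eq_one_iff.1 (Nat.eq_one_of_dvd_coprimes (Nat.coprime_two_right.2 hOodd)
      (Subgroup.orderOf_dvd_natCard _ ho) (orderOf_dvd_of_pow_eq_one (by rw [pow_two, h2])))
    rw [h2, one_mul] at h1
    subst h3
    rw [one_mul]
    exact eq_one_or_eq_of_cyclic hR.cyc ht hR.tR hr h1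
  have htK : t ∈ K := Subgroup.mem_sup_right hR.tR
  have hsC : s ∈ Cz t := hPC hsP
  have hsK : s ∉ K := by
    intro h
    obtain ⟨o, ho, r, hr, e⟩ := hdec s h
    have h1 : o = 1 := hOP o ho (by
      rw [show o = s * r⁻¹ by rw [← e, mul_inv_cancel_right]]
      exact mul_mem hsP (inv_mem (hR.le hr)))
    rw [h1, one_mul] at e
    exact hsR (e ▸ hr)
  have hcases : ∀ a ∈ Cz t, a ∈ K ∨ a * s ∈ K := by
    intro a haC
    rw [← hsup] at haC
    have : a ∈ ((O : Set G) * ((P : Subgroup G) : Set G)) := by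
      rw [← Subgroup.coe_mul_of_right_le_normalizer_left O (P : Subgroup G) (hPC.trans hCN)]; exact haC
    obtain ⟨o, ho, σ, hσ, rfl⟩ := Set.mem_mul.1 this
    by_cases hσR : σ ∈ R
    · exact Or.inl (mul_mem (Subgroup.mem_sup_left ho) (Subgroup.mem_sup_right hσR))
    · refine Or.inr ?_
      rw [mul_assoc]
      refine mul_mem (Subgroup.mem_sup_left ho) (Subgroup.mem_sup_right ?_)
      have := (Subgroup.mul_mem_iff_of_index_two (H := R.subgroupOf (P : Subgroup G)) hR.idx
        (a := ⟨σ, hσ⟩) (b := ⟨s, hsP⟩)).2 (iff_of_false hσR hsR)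
      exact this
  have hsup' : K ⊔ Subgroup.zpowers s = Cz t := by
    refine le_antisymm (sup_le hKC (Subgroup.zpowers_le.2 hsC)) fun a haC => ?_
    rcases hcases a haC with h | h
    · exact Subgroup.mem_sup_left h
    · rw [← mul_inv_cancel_right a s]
      exact mul_mem (Subgroup.mem_sup_left h) (inv_mem (Subgroup.mem_sup_right (Subgroup.mem_zpowers s)))
  have hCK : K ⊓ Cz s = Subgroup.zpowers t := by
    refine le_antisymm ?_ (Subgroup.zpowers_le.2 ⟨htK, mem_Cz_symm.1 hsC⟩)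
    rintro a ⟨hak, has⟩
    have h1 : s * a * s⁻¹ = a := by rw [← mem_Cz.1 has, mul_inv_cancel_right]
    rw [hinv a hak] at h1
    rcases hsq a hak (by conv_lhs => arg 1; rw [← h1]
                         exact inv_mul_cancel a) with rfl | rfl
    · exact one_mem _
    · exact Subgroup.mem_zpowers a
  have hconjt : ∀ g : G, g * t * g⁻¹ ∈ K → g ∈ Cz t := by
    intro g hg
    refine mem_Cz'.2 ((hsq _ hg ?_).resolve_left fun e => ?_)
    · exact (order_two_iff.1 (order_two_conj g ht)).1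
    · exact (order_two_iff.1 (order_two_conj g ht)).2 e
  have hTI : ∀ g : G, g ∉ Cz t → K ⊓ K.map (MulAut.conj g).toMonoidHom = ⊥ := by
    intro g hg
    rw [eq_bot_iff]
    rintro x ⟨hxK, y, hyK, hxy⟩
    rw [Subgroup.mem_bot]
    by_contra hx1
    have hxy' : g * y * g⁻¹ = x := hxy
    have hord : orderOf x = orderOf y := by
      rw [← hxy']; exact (MulAut.conj g).orderOf_eq y
    have hy1 : y ≠ 1 := fun e => hx1 (by rw [← hxy', e]; group)
    rcases Nat.even_or_odd (orderOf x) with ⟨j, hj⟩ | hox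
    · have hpow : ∀ z ∈ K, orderOf z = j + j → z ^ j = t := by
        intro z hz hzo
        have hj0 : 0 < j := by have := orderOf_pos z; omega
        refine (hsq _ (pow_mem hz j) (by rw [← pow_add, ← hzo, pow_orderOf_eq_one])).resolve_left
          fun e => ?_
        have := Nat.le_of_dvd hj0 (orderOf_dvd_of_pow_eq_one e)
        omega
      refine hg (hconjt g ?_)
      rw [← hpow y hyK (hord ▸ hj), ← conj_pow, hxy']
      exact pow_mem hxK j
    · have hxO : x ∈ O := hoddpow x hxK hox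
      have hyO : y ∈ O := hoddpow y hyK (hord ▸ hox)
      have hcen : ∀ z ∈ O, z ≠ 1 → Cz z = K := by
        intro z hz hz1
        have hzK : z ∈ K := Subgroup.mem_sup_left hz
        refine le_antisymm (fun a haz => ?_) (fun a hak => mem_Cz.2 (hcomm a hak z hzK))
        have haC : a ∈ Cz t := by
          refine hc (Subgroup.zpowers z) (Subgroup.zpowers_le.2 hz) (by simpa using hz1) ?_
          refine Subgroup.centralizer_le_normalizer _ (Subgroup.mem_centralizer_iff.2 ?_)
          rintro _ ⟨i, rfl⟩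
          exact (Commute.zpow_right (mem_Cz.1 haz : Commute a z) i).symm.eq
        refine (hcases a haC).resolve_right fun h => ?_
        have h2 : a * s * z * (a * s)⁻¹ = z := by rw [hcomm _ h z hzK, mul_inv_cancel_right]
        have h3 : a * z⁻¹ * a⁻¹ = z := by
          rw [← hinv z hzK]
          calc a * (s * z * s⁻¹) * a⁻¹ = a * s * z * (a * s)⁻¹ := by group
            _ = z := h2
        rw [show a * z⁻¹ * a⁻¹ = (a * z * a⁻¹)⁻¹ by group, mem_Cz'.1 haz] at h3
        have h4 : orderOf z ∣ 2 := orderOf_dvd_of_pow_eq_one (by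
          rw [pow_two]; nth_rw 1 [← h3]; exact inv_mul_cancel z)
        exact hz1 (orderOf_eq_one_iff.1 (Nat.eq_one_of_dvd_coprimes (Nat.coprime_two_right.2 hOodd)
          (Subgroup.orderOf_dvd_natCard _ hz) h4))
      refine hg (hconjt g ?_)
      rw [← hcen x hxO hx1, ← hxy', conj_mem_Cz, hcen y hyO hy1]
      exact htK
  exact ⟨K, s, ⟨ht, hcomm, hKC, htK, hso, hsC, hsK, hsup', hCK, hinv, hTI,
    dih_simple_one_class hnc P d⟩⟩

end Cfsg.Agent.BSW
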