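import Cfsg.Agent.Lib.BSW.MinusLocal
import Mathlib.GroupTheory.SchurZassenhaus

/-!
The case `q = -(2k - 1)`.
-/

set_option autoImplicit false
set_option linter.unusedSectionVars false
set_option linter.style.haveILetI false

namespace Cfsg.Agent.BSW

open scoped Classical

universe u

variable {G : Type u} [Group G] [Fintype G] {t : G} {K : Subgroup G} {s : G} {m : ℕ} {z : G}

theorem mem_centralizer_coe {H : Subgroup G} {a b : H} :
    a ∈ Subgroup.centralizer ({b} : Set H) ↔ (a : G) ∈ Cz (b : G) := by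
  rw [Subgroup.mem_centralizer_singleton_iff, mem_Cz, ← Subtype.coe_inj]
  rfl

/-- Assumptions on the prime. -/
structure PData (K : Subgroup G) (m p e : ℕ) : Prop where
  hp : p.Prime
  hp2 : p ≠ 2
  he : 0 < e
  hpe : 2 * m + 1 = p ^ e
  zero : ∀ y : G, y ≠ 1 → ((Out K y ∧ ¬ Rev y) ↔ y ^ p = 1)

namespace PData

variable {p e : ℕ} (h : Hyp t K s) (N : Neg K m z) (P : PData K m p e)
include h N P

theorem cop : Nat.Coprime (m + 1) p ∧ Nat.Coprime m p := by
  have hd : p ∣ 2 * m + 1 := P.hpe ▸ dvd_pow_self p P.he.ne'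
  refine ⟨Nat.Coprime.symm ((P.hp.coprime_iff_not_dvd).2 fun h1 => ?_),
    Nat.Coprime.symm ((P.hp.coprime_iff_not_dvd).2 fun h1 => ?_)⟩
  · have h5 := Nat.dvd_sub (h1.mul_left 2) hd
    rw [show 2 * (m + 1) - (2 * m + 1) = 1 by omega] at h5
    exact P.hp.not_dvd_one h5
  · exact P.hp.not_dvd_one ((Nat.dvd_add_right (h1.mul_left 2)).1 hd)

/-- The order of an element which is not of order dividing `p`. -/
theorem ord_dvd {y : G} (hy : y ^ p ≠ 1) :
    (InK K y ∧ orderOf y ∣ m + 1) ∨ (Out K y ∧ Rev y ∧ orderOf y ∣ m) := by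
  have hy1 : y ≠ 1 := fun e => hy (by rw [e, one_pow])
  by_cases hK : InK K y
  · obtain ⟨g, hg⟩ := hK
    have h1 := Subgroup.orderOf_dvd_natCard K hg
    rw [show g * y * g⁻¹ = MulAut.conj g y from rfl, MulEquiv.orderOf_eq, N.hkm] at h1
    exact Or.inl ⟨⟨g, hg⟩, h1⟩
  · have hr : Rev y := by_contra fun hr => hy ((P.zero y hy1).1 ⟨⟨hy1, hK⟩, hr⟩)
    exact Or.inr ⟨⟨hy1, hK⟩, hr,
      N.rev_card y ⟨hy1, hK⟩ hr ▸ Subgroup.orderOf_dvd_natCard (Cz y) (self_mem_Cz y)⟩

theorem pow_p {y : G} {j : ℕ} (hy : y ^ p ^ j = 1) : y ^ p = 1 := by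
  by_contra hne
  have hd : orderOf y ∣ p ^ j := orderOf_dvd_of_pow_eq_one hy
  have hone : orderOf y = 1 := by
    rcases ord_dvd h N P hne with ⟨-, h1⟩ | ⟨-, -, h1⟩
    · exact Nat.eq_one_of_dvd_coprimes ((cop h N P).1.pow_right j) h1 hd
    · exact Nat.eq_one_of_dvd_coprimes ((cop h N P).2.pow_right j) h1 hd
  exact hne (by rw [orderOf_eq_one_iff.1 hone, one_pow])

theorem sq_ne {y : G} (ho : Odd (orderOf y)) (hy1 : y ≠ 1) : y * y ≠ 1 := by
  intro e
  have := orderOf_dvd_of_pow_eq_one (show y ^ 2 = 1 by rw [pow_two, e])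
  rcases (Nat.dvd_prime Nat.prime_two).1 this with h1 | h1
  · exact hy1 (orderOf_eq_one_iff.1 h1)
  · rw [h1] at ho; exact absurd ho (by decide)

/-- The centralizers of the `p'`-elements of odd order. -/
theorem tame {g : G} (hg : g ^ p ≠ 1) (ho : Odd (orderOf g)) :
    (∀ a ∈ Cz g, a ≠ 1 → Odd (orderOf a) → a ^ p ≠ 1 ∧ Cz a = Cz g) ∧
      ∀ c : G, Odd (orderOf c) → c * g * c⁻¹ ∈ Cz g → c ∈ Cz g := by
  have hg1 : g ≠ 1 := fun e => hg (by rw [e, one_pow])
  rcases ord_dvd h N P hg with ⟨⟨g0, hκ⟩, -⟩ | ⟨hout, hrev, -⟩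
  · have h1 : g0 * g * g0⁻¹ ≠ 1 := fun e => hg1 (conj_eq_one_iff.1 e)
    have hκt : g0 * g * g0⁻¹ ≠ t := fun e => by
      have e' : g * g = 1 := by
        have : g0 * (g * g) * g0⁻¹ = 1 := by
          rw [show g0 * (g * g) * g0⁻¹ = g0 * g * g0⁻¹ * (g0 * g * g0⁻¹) by group, e, h.tt]
        exact conj_eq_one_iff.1 this
      exact sq_ne h N P ho hg1 e'
    have hC := h.Cz_K hκ h1 hκt
    refine ⟨fun a ha ha1 hao => ?_, fun c hco hc => ?_⟩
    · have hα : g0 * a * g0⁻¹ ∈ K := hC ▸ (conj_mem_Cz g0).2 ha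
      have hα1 : g0 * a * g0⁻¹ ≠ 1 := fun e => ha1 (conj_eq_one_iff.1 e)
      have hαt : g0 * a * g0⁻¹ ≠ t := fun e => by
        have e' : a * a = 1 := by
          have : g0 * (a * a) * g0⁻¹ = 1 := by
            rw [show g0 * (a * a) * g0⁻¹ = g0 * a * g0⁻¹ * (g0 * a * g0⁻¹) by group, e, h.tt]
          exact conj_eq_one_iff.1 this
        exact sq_ne h N P hao ha1 e'
      refine ⟨fun e => ((P.zero a ha1).2 e).1.2 ⟨g0, hα⟩, ?_⟩
      ext y
      rw [← conj_mem_Cz (x := a) g0, ← conj_mem_Cz (x := g) g0, h.Cz_K hα hα1 hαt, hC]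
    · have hc' : (g0 * c * g0⁻¹) * (g0 * g * g0⁻¹) * (g0 * c * g0⁻¹)⁻¹ ∈ K := by
        rw [← hC, show g0 * c * g0⁻¹ * (g0 * g * g0⁻¹) * (g0 * c * g0⁻¹)⁻¹ =
          g0 * (c * g * c⁻¹) * g0⁻¹ by group]
        exact (conj_mem_Cz g0).2 hc
      have hH := h.ti hκ h1 hc'
      rw [← conj_mem_Cz (x := g) g0, hC]
      by_contra hK
      have := (h.not_K hH hK).1
      rw [show g0 * c * g0⁻¹ = MulAut.conj g0 c from rfl, MulEquiv.orderOf_eq] at this
      rw [this] at hco
      exact absurd hco (by decide)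
  · refine ⟨fun a ha ha1 _ => ?_, fun c hco hc => ?_⟩
    · obtain ⟨hao, har, haC⟩ := h.rev_Cz_eq hout hrev ha ha1
      exact ⟨fun e => ((P.zero a ha1).2 e).2 har, haC⟩
    · have hc1 : c * g * c⁻¹ ≠ 1 := fun e => hg1 (conj_eq_one_iff.1 e)
      have e1 := (h.rev_Cz_eq hout hrev hc hc1).2.2
      rw [← Cz_map] at e1
      have hn : c ∈ Subgroup.normalizer (Cz g : Set G) :=
        Subgroup.mem_normalizer_iff_map_conj_eq.2 e1
      have hidx : ((Cz g).subgroupOf (Subgroup.normalizer (Cz g : Set G))).index = 2 := by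
        have e := ((Cz g).subgroupOf (Subgroup.normalizer (Cz g : Set G))).card_mul_index
        rw [Nat.card_congr (Subgroup.subgroupOfEquivOfLe Subgroup.le_normalizer).toEquiv,
          N.rev_card g hout hrev, N.rev_norm g hout hrev, mul_comm 2 m] at e
        exact Nat.eq_of_mul_eq_mul_left (by have := N.m3; omega) e
      have h2 : (⟨c, hn⟩ : Subgroup.normalizer (Cz g : Set G)) ^ 2 ∈
          (Cz g).subgroupOf (Subgroup.normalizer (Cz g : Set G)) :=
        Subgroup.sq_mem_of_index_two hidx _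
      have h2' : c ^ 2 ∈ Cz g := h2
      obtain ⟨i, hi⟩ := hco
      have e3 : c = (c ^ 2) ^ (i + 1) := by
        rw [← pow_mul, show 2 * (i + 1) = orderOf c + 1 by omega, pow_succ, pow_orderOf_eq_one, one_mul]
      rw [e3]
      exact (Cz g).pow_mem h2' _

theorem odd_normalizer {R : Subgroup G} (hR : ∀ r ∈ R, r ^ p = 1) (h1 : R ≠ ⊥) {g : G}
    (hg : g ∈ Subgroup.normalizer (R : Set G)) : Odd (orderOf g) := by
  rw [Nat.odd_iff]
  by_contra hev
  have h2 : 2 ∣ orderOf g := by omega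
  set u := g ^ (orderOf g / 2) with hu
  have hu2 : orderOf u = 2 := orderOf_pow_orderOf_div (isOfFinOrder_of_finite g).orderOf_pos.ne' h2
  have huN : u ∈ Subgroup.normalizer (R : Set G) := Subgroup.pow_mem _ hg _
  have hfix : ∀ c ∈ R, u * c = c * u → c = 1 := by
    intro c hc e
    by_contra hc1
    exact (order_two_iff.1 hu2).2 (h.out_centralizes ((P.zero c hc1).2 (hR c hc)).1
      (mem_Cz.2 e) (order_two_iff.1 hu2).1)
  have hinv := inverts_of_fpf R (order_two_iff.1 hu2).1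
    (fun c hc => (Subgroup.mem_normalizer_iff.1 huN c).1 hc) hfix
  obtain ⟨c, hc, hc1⟩ := R.bot_or_exists_ne_one.resolve_left h1
  exact ((P.zero c hc1).2 (hR c hc)).2 ⟨u, hu2, hinv c hc⟩

/-- An odd order subgroup has only one Sylow `p`-subgroup. -/
theorem unique_sylow (H : Subgroup G) (hodd : ∀ g ∈ H, Odd (orderOf g)) :
    ∃ U : Subgroup G, U ≤ H ∧ ∀ g ∈ H, g ^ p = 1 ↔ g ∈ U := by
  haveI : Fact p.Prime := ⟨P.hp⟩
  obtain ⟨U⟩ : Nonempty (Sylow p H) := inferInstance
  set S : Set H := {a | (a : G) ^ p = 1} with hS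
  have hUS : (U : Set H) ⊆ S := by
    intro a ha
    obtain ⟨j, hj⟩ := U.isPGroup' ⟨a, ha⟩
    exact pow_p h N P (congrArg (fun w : (U : Subgroup H) => ((w : H) : G)) hj)
  suffices hcard : Nat.card S = Nat.card (U : Subgroup H) by
    have heq : (U : Set H) = S :=
      Set.eq_of_subset_of_ncard_le hUS (by
        rw [← Nat.card_coe_set_eq, ← Nat.card_coe_set_eq]; exact le_of_eq hcard)
    refine ⟨(U : Subgroup H).map H.subtype, Subgroup.map_subtype_le _, fun g hg => ?_⟩
    constructor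
    · intro hgp
      have hm : (⟨g, hg⟩ : H) ∈ (U : Set H) := by rw [heq]; exact hgp
      exact ⟨_, hm, rfl⟩
    · rintro ⟨a, ha, rfl⟩
      exact hUS ha
  by_cases hall : ∀ a : H, a ∈ S
  · have hpg : IsPGroup p H := fun a => ⟨1, by
      rw [pow_one]; exact Subtype.ext (hall a)⟩
    obtain ⟨j, hj⟩ := IsPGroup.iff_card.1 hpg
    rw [U.card_eq_multiplicity, hj, P.hp.factorization_pow, Finsupp.single_eq_same,
      show S = Set.univ from Set.eq_univ_of_forall hall, Nat.card_univ, hj]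
  push Not at hall
  obtain ⟨a0, ha0⟩ := hall
  have hne1 : ∀ a : H, a ∉ S → (a : G) ≠ 1 := fun a ha e => ha (by
    show (a : G) ^ p = 1
    rw [e, one_pow])
  have hC : ∀ a : H, a ∉ S → ∀ b ∈ Subgroup.centralizer ({a} : Set H), b ≠ 1 →
      b ∉ S ∧ Subgroup.centralizer ({b} : Set H) = Subgroup.centralizer ({a} : Set H) := by
    intro a ha b hb hb1
    obtain ⟨h3, h4⟩ := (tame h N P ha (hodd _ a.2)).1 b (mem_centralizer_coe.1 hb)
      (fun e => hb1 (Subtype.ext e)) (hodd _ b.2)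
    refine ⟨h3, ?_⟩
    ext c
    rw [mem_centralizer_coe, mem_centralizer_coe, h4]
  obtain ⟨hcount, hcov⟩ := cover S (by simp [hS]) (fun g a ha => by
      show (((g * a * g⁻¹ : H)) : G) ^ p = 1
      push_cast
      rw [conj_pow, show (a : G) ^ p = 1 from ha]
      group) hC
    (fun a ha g hga => mem_centralizer_coe.2 ((tame h N P ha (hodd _ a.2)).2 g (hodd _ g.2) (by
      simpa using mem_centralizer_coe.1 hga))) ha0
  set A := Subgroup.centralizer ({a0} : Set H)
  -- every prime other than `p` is absent from `S`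
  have hS0 : Nat.card S ≠ 0 := by
    intro e; rw [e, zero_mul] at hcount; exact Nat.card_pos.ne' hcount.symm
  have hvanish : ∀ {r : ℕ}, r.Prime → r ∣ Nat.card S → r = p := by
    intro r hr hrS
    by_contra hne
    haveI : Fact r.Prime := ⟨hr⟩
    obtain ⟨R⟩ : Nonempty (Sylow r H) := inferInstance
    have hrH : r ∣ Nat.card H := hcount ▸ hrS.mul_right _
    haveI : Nontrivial (R : Subgroup H) :=
      (Subgroup.nontrivial_iff_ne_bot _).2 (R.ne_bot_of_dvd_card hrH)
    haveI := R.isPGroup'.center_nontrivial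
    obtain ⟨⟨w, hw⟩, hw1⟩ := exists_ne (1 : Subgroup.center (R : Subgroup H))
    have hwS : (w : H) ∉ S := by
      intro e
      obtain ⟨i, hi⟩ := R.isPGroup' w
      have e1 : orderOf (w : H) ∣ p := orderOf_dvd_of_pow_eq_one (Subtype.ext e)
      have e2 : orderOf (w : H) ∣ r ^ i := by
        rw [Subgroup.orderOf_coe]; exact orderOf_dvd_of_pow_eq_one hi
      have hcop : Nat.Coprime p (r ^ i) :=
        ((Nat.coprime_primes P.hp hr).2 (Ne.symm hne)).pow_right i
      have := Nat.eq_one_of_dvd_coprimes hcop e1 e2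
      exact hw1 (Subtype.ext (Subtype.ext (orderOf_eq_one_iff.1 this)))
    obtain ⟨g, hg⟩ := hcov _ hwS
    have hgw : g * (w : H) * g⁻¹ ≠ 1 := fun e =>
      hwS (by rw [conj_eq_one_iff.1 e]; simp [hS])
    have hle : (R : Subgroup H).map (MulAut.conj g).toMonoidHom ≤ A := by
      rw [show A = Subgroup.centralizer ({g * (w : H) * g⁻¹} : Set H) from (hC a0 ha0 _ hg hgw).2.symm]
      rintro y ⟨x, hx, rfl⟩
      rw [Subgroup.mem_centralizer_singleton_iff]
      have hc := Subgroup.mem_center_iff.1 hw ⟨x, hx⟩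
      have hc' : x * (w : H) = (w : H) * x := congrArg Subtype.val hc
      simp only [MulEquiv.coe_toMonoidHom, MulAut.conj_apply]
      rw [show g * x * g⁻¹ * (g * (w : H) * g⁻¹) = g * (x * (w : H)) * g⁻¹ by group, hc']
      group
    have hRA := Subgroup.card_dvd_of_le hle
    rw [Subgroup.card_map_of_injective (MulAut.conj g).injective, R.card_eq_multiplicity] at hRA
    have : r ^ (Nat.card H).factorization r * r ∣ Nat.card H := by
      nth_rewrite 2 [← hcount]
      rw [mul_comm (Nat.card S)]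
      exact Nat.mul_dvd_mul hRA hrS
    rw [← pow_succ] at this
    exact Nat.pow_succ_factorization_not_dvd Nat.card_pos.ne' hr this
  have hSp := Nat.eq_prime_pow_of_unique_prime_dvd hS0 hvanish
  have hdvd : Nat.card S ∣ Nat.card (U : Subgroup H) := by
    rw [hSp, U.card_eq_multiplicity]
    refine Nat.pow_dvd_pow p ((P.hp.pow_dvd_iff_le_factorization Nat.card_pos.ne').1 ?_)
    rw [← hSp]
    exact ⟨_, hcount.symm⟩
  refine le_antisymm (Nat.le_of_dvd Nat.card_pos hdvd) ?_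
  rw [Nat.card_coe_set_eq S, show Nat.card (U : Subgroup H) = (U : Set H).ncard from Nat.card_coe_set_eq _]
  exact Set.ncard_le_ncard hUS

end PData

end Cfsg.Agent.BSW
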