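import Cfsg.Agent.Lib.BSW.Plus

/-!
Counting in the case `q = -(2k - 1)`.
-/

set_option autoImplicit false
set_option linter.unusedSectionVars false
set_option linter.style.haveILetI false

namespace Cfsg.Agent.BSW

open scoped Classical

universe u

variable {G : Type u} [Group G] [Fintype G] {t : G} {K : Subgroup G} {s : G}

/-- What the counting gives in the second case. -/
structure Neg (K : Subgroup G) (m : ℕ) (z : G) : Prop where
  hkm : Nat.card K = m + 1
  m3 : 3 ≤ m
  card : Nat.card G = (m + 1) * (2 * m + 1) * (2 * m)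
  z_out : Out K z
  z_rev : Rev z
  rev_card : ∀ x : G, Out K x → Rev x → Nat.card (Cz x) = m
  rev_norm : ∀ x : G, Out K x → Rev x →
    Nat.card (Subgroup.normalizer (Cz x : Set G)) = 2 * m
  rev_conj : ∀ x : G, Out K x → Rev x → ∃ g : G, g * x * g⁻¹ ∈ Cz z
  zero_card : Nat.card {x : G // Out K x ∧ ¬ Rev x} = 4 * m * (m + 1)

theorem exists_neg (h : Hyp t K s) (hk : 4 ≤ Nat.card K) {q : ℤ} {a : G → ℤ}
    (D : Data t K q a) (hq : q = 1 - 2 * (Nat.card K : ℤ)) : ∃ m z, Neg K m z := by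
  obtain ⟨m, hm⟩ : ∃ m, Nat.card K = m + 1 := ⟨Nat.card K - 1, by omega⟩
  have hm3 : 3 ≤ m := by omega
  set n := Nat.card {x : G // orderOf x = 2} with hnd
  have hqm : q = -(2 * (m : ℤ) + 1) := by rw [hq, hm]; push_cast; ring
  have hG : Nat.card G = (m + 1) * (2 * m + 1) * (2 * m) := by
    have := D.card; rw [hqm, hm] at this
    push_cast at this
    exact_mod_cast (show (Nat.card G : ℤ) = ((m : ℤ) + 1) * (2 * m + 1) * (2 * m) by rw [this]; ring)
  have hn : n = (2 * m + 1) * m := by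
    have e := h.card_invol
    rw [hm, hG, ← hnd] at e
    refine Nat.eq_of_mul_eq_mul_right (show 0 < 2 * (m + 1) by omega) ?_
    rw [e]; ring
  have hphi : ∀ x, Out K x → (Nat.card (Pairs t x) : ℤ) = (m : ℤ) * a x := by
    intro x hx
    have := D.pairs x hx
    rw [hqm, hm] at this
    push_cast at this
    refine mul_left_cancel₀ (show (4 * ((m : ℤ) + 1)) ≠ 0 by omega) ?_
    linear_combination this
  have ha0 : ∀ x, Out K x → 0 ≤ a x := by
    intro x hx
    have := hphi x hx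
    by_contra hlt
    nlinarith [Int.natCast_nonneg (Nat.card (Pairs t x)), show (0 : ℤ) < m by omega]
  have hrev : ∀ x, Out K x → (Rev x ↔ 0 < a x) := by
    intro x hx
    have e := hphi x hx
    constructor
    · intro hr
      rw [h.pairs_rev hx hr] at e
      have : (0 : ℤ) < (Nat.card (Cz x) : ℤ) := by exact_mod_cast Nat.card_pos
      nlinarith [ha0 x hx]
    · intro hp
      refine Rev.of_pairs h hx fun e0 => ?_
      rw [e0, Nat.cast_zero] at e
      rcases mul_eq_zero.1 e.symm with e1 | e1 <;> omega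
  set O := Finset.univ.filter (fun x => Out K x) with hO
  have hOm : ∀ x, x ∈ O ↔ Out K x := fun x => by simp [hO]
  have htot : ∑ x ∈ O, a x = (((2 * m + 1) * (m + 1) * (m - 1) : ℕ) : ℤ) := by
    have e := D.total
    rw [← hnd, hn, hqm, hm] at e
    rw [hO, e]
    push_cast [Nat.cast_sub (show 1 ≤ m by omega)]
    ring
  have hOc : (O.card : ℤ) + (m : ℤ) * n + 1 = (Nat.card G : ℤ) := by
    have e : O.card = Nat.card {y : G // Out K y} := by
      rw [hO, ← Fintype.card_subtype, ← Nat.card_eq_fintype_card]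
    rw [← h.count_out, ← e, ← hnd, hm, Nat.add_sub_cancel]
    push_cast
    ring
  -- each real element
  have key : ∀ x, Out K x → Rev x → a x = 1 ∧ Nat.card (Cz x) = m ∧
      Nat.card (Subgroup.normalizer (Cz x : Set G)) = 2 * m ∧
      (conjSet {b | b ∈ Cz x ∧ b ≠ 1}).toFinset ⊆ O ∧
      (∀ y ∈ (conjSet {b | b ∈ Cz x ∧ b ≠ 1}).toFinset, a y = 1) ∧
      (conjSet {b | b ∈ Cz x ∧ b ≠ 1}).toFinset.card = (2 * m + 1) * (m + 1) * (m - 1) := by
    intro x hx hr
    have hpos := (hrev x hx).1 hr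
    have hcz : (Nat.card (Cz x) : ℤ) = (m : ℤ) * a x := by rw [← hphi x hx, h.pairs_rev hx hr]
    obtain ⟨E, u, g, -, -, -, -, -, -, hNc, hEk, h2E, hE1⟩ := h.rev_normalizer hx hr
    set T := (conjSet {b | b ∈ Cz x ∧ b ≠ 1}).toFinset with hT
    have hTy : ∀ y ∈ T, Out K y ∧ a y = a x := by
      intro y hy
      rw [hT, Set.mem_toFinset] at hy
      obtain ⟨c, b, ⟨hb, hb1⟩, rfl⟩ := hy
      obtain ⟨hbo, hbr, hbC⟩ := h.rev_Cz_eq hx hr hb hb1
      refine ⟨hbo.conj c, mul_left_cancel₀ (show (m : ℤ) ≠ 0 by omega) ?_⟩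
      rw [← hphi _ (hbo.conj c), h.pairs_conj, h.pairs_rev hbo hbr, hbC, hcz]
    have hTsub : T ⊆ O := fun y hy => (hOm y).2 (hTy y hy).1
    have hle : (T.card : ℤ) * a x ≤ ∑ y ∈ O, a y := by
      refine le_trans (le_of_eq ?_) (Finset.sum_le_sum_of_subset_of_nonneg hTsub
        fun y hy _ => ha0 y ((hOm y).1 hy))
      rw [Finset.sum_congr rfl fun y hy => (hTy y hy).2, Finset.sum_const, nsmul_eq_mul]
    have hcnt : T.card * (Nat.card (Cz x) * Nat.card E) = Nat.card G * (Nat.card (Cz x) - 1) := by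
      rw [← hNc, ← h.count_rev hx hr, hT, Set.toFinset_card, ← Nat.card_eq_fintype_card]
    set C := Nat.card (Cz x) with hC
    set d := Nat.card E with hd
    have hC1 : 1 ≤ C := Nat.card_pos
    have hcnt' : (T.card : ℤ) * a x * (d : ℤ) =
        2 * ((m : ℤ) + 1) * (2 * m + 1) * ((C : ℤ) - 1) := by
      have e := congrArg (fun v : ℕ => (v : ℤ)) hcnt
      push_cast [Nat.cast_sub hC1] at e
      rw [hG] at e
      push_cast at e
      refine mul_left_cancel₀ (show (m : ℤ) ≠ 0 by omega) ?_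
      linear_combination e - (T.card : ℤ) * (d : ℤ) * hcz
    have hda : (d : ℤ) ∣ a x + 1 := by
      obtain ⟨c1, e1⟩ := hEk
      obtain ⟨c2, e2⟩ := hE1
      rw [hm] at e1
      have e1' : ((m : ℤ) + 1) = (d : ℤ) * c1 := by exact_mod_cast e1
      have e2' : (C : ℤ) - 1 = (d : ℤ) * c2 := by
        have := congrArg (fun v : ℕ => (v : ℤ)) e2
        push_cast [Nat.cast_sub hC1] at this
        exact this
      exact ⟨(c1 : ℤ) * a x - c2, by linear_combination hcz + a x * e1' - e2'⟩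
    have hd0 : 0 < (d : ℤ) := by exact_mod_cast Nat.card_pos
    have hdle : (d : ℤ) ≤ a x + 1 := Int.le_of_dvd (by omega) hda
    rw [htot] at hle
    push_cast [Nat.cast_sub (show 1 ≤ m by omega)] at hle
    have h1 : a x = 1 := by
      by_contra hne
      have h2 : 2 ≤ a x := by omega
      have hh : 2 * ((C : ℤ) - 1) ≤ (d : ℤ) * ((m : ℤ) - 1) := by
        have hp : (0 : ℤ) < ((m : ℤ) + 1) * (2 * m + 1) := by positivity
        nlinarith [mul_le_mul_of_nonneg_right hle hd0.le]
      nlinarith [mul_le_mul_of_nonneg_right hdle (show (0 : ℤ) ≤ (m : ℤ) - 1 by omega),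
        mul_le_mul_of_nonneg_right h2 (show (0 : ℤ) ≤ (m : ℤ) + 1 by omega)]
    have hd2 : d = 2 := by
      rw [h1] at hdle
      have := Nat.le_of_dvd Nat.card_pos h2E
      omega
    rw [h1, mul_one] at hcz
    have hCm : C = m := by exact_mod_cast hcz
    refine ⟨h1, hCm, by rw [hNc, hd2, hCm, mul_comm], hTsub,
      fun y hy => (hTy y hy).2.trans h1, ?_⟩
    rw [hCm, hd2, hG] at hcnt
    refine Nat.eq_of_mul_eq_mul_right (show 0 < m * 2 by omega) ?_
    rw [hcnt]; ring
  obtain ⟨z, hz, hza⟩ : ∃ z ∈ O, 0 < a z := by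
    by_contra hcon
    push Not at hcon
    have h1 := Finset.sum_nonpos hcon
    rw [htot] at h1
    have : (2 * m + 1) * (m + 1) * (m - 1) ≤ 0 := by exact_mod_cast h1
    have : 0 < (2 * m + 1) * (m + 1) * (m - 1) :=
      Nat.mul_pos (Nat.mul_pos (by omega) (by omega)) (by omega)
    omega
  have hzo := (hOm z).1 hz
  have hzr := (hrev z hzo).2 hza
  obtain ⟨-, -, -, hTsub, hT1, hTc⟩ := key z hzo hzr
  set T := (conjSet {b | b ∈ Cz z ∧ b ≠ 1}).toFinset with hT
  have hrest : ∀ y ∈ O \ T, a y = 0 := by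
    have h1 : ∑ y ∈ O \ T, a y = 0 := by
      have h2 := Finset.sum_sdiff (f := a) hTsub
      rw [htot, Finset.sum_congr rfl hT1, Finset.sum_const, hTc, nsmul_one] at h2
      linarith
    exact (Finset.sum_eq_zero_iff_of_nonneg fun y hy =>
      ha0 y ((hOm y).1 (Finset.mem_sdiff.1 hy).1)).1 h1
  refine ⟨m, z, hm, hm3, hG, hzo, hzr, fun x hx hr => (key x hx hr).2.1,
    fun x hx hr => (key x hx hr).2.2.1, fun x hx hr => ?_, ?_⟩
  · by_cases hxT : x ∈ T
    · rw [hT, Set.mem_toFinset] at hxT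
      obtain ⟨c, b, hb, rfl⟩ := hxT
      exact ⟨c⁻¹, by simpa [mul_assoc] using hb.1⟩
    · have := hrest x (Finset.mem_sdiff.2 ⟨(hOm x).2 hx, hxT⟩)
      have := (key x hx hr).1
      omega
  · have e : Nat.card {x : G // Out K x ∧ ¬ Rev x} = (O \ T).card := by
      rw [Nat.card_eq_fintype_card, Fintype.card_subtype]
      congr 1
      ext x
      rw [Finset.mem_filter, Finset.mem_sdiff, hOm]
      constructor
      · rintro ⟨-, hx, hr⟩
        refine ⟨hx, fun hxT => hr ((hrev x hx).2 ?_)⟩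
        rw [hT1 x hxT]; exact one_pos
      · rintro ⟨hx, hxT⟩
        refine ⟨Finset.mem_univ _, hx, fun hr => ?_⟩
        have := hrest x (Finset.mem_sdiff.2 ⟨(hOm x).2 hx, hxT⟩)
        have := (hrev x hx).1 hr
        omega
    have e2 : ((O \ T).card : ℤ) = ((4 * m * (m + 1) : ℕ) : ℤ) := by
      rw [Finset.card_sdiff_of_subset hTsub, Nat.cast_sub (Finset.card_le_card hTsub), hTc]
      rw [hG, hn] at hOc
      push_cast [Nat.cast_sub (show 1 ≤ m by omega)] at hOc ⊢
      linear_combination hOc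
    rw [e]
    exact_mod_cast e2

end Cfsg.Agent.BSW
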