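import Cfsg.Agent.Lib.BSW.MinusCount
import Mathlib.GroupTheory.Sylow
import Mathlib.GroupTheory.Nilpotent
import Mathlib.Data.Nat.Factorization.Basic
import Mathlib.Data.Nat.Factorization.PrimePow

/-!
Local structure in the case `q = -(2k - 1)`.
-/

set_option autoImplicit false
set_option linter.unusedSectionVars false
set_option linter.style.haveILetI false

namespace Cfsg.Agent.BSW

open scoped Classical

universe u

variable {G : Type u} [Group G] [Fintype G] {t : G} {K : Subgroup G} {s : G} {m : ℕ} {z : G}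

namespace Neg

variable (h : Hyp t K s) (N : Neg K m z)
include h N

theorem m_odd : Odd m := by
  have h2 := h.two_dvd
  rw [N.hkm] at h2
  rw [Nat.odd_iff]; omega

theorem rev_of_conj_inv {x g : G} (hx : Out K x) (hg : g * x * g⁻¹ = x⁻¹) : Rev x := by
  have hg2 : g * g ∈ Cz x := by
    rw [mem_Cz', show g * g * x * (g * g)⁻¹ = g * (g * x * g⁻¹) * g⁻¹ by group, hg,
      show g * x⁻¹ * g⁻¹ = (g * x * g⁻¹)⁻¹ by group, hg, inv_inv]
  obtain ⟨c, hc⟩ := h.out_odd hx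
  set u := g ^ Nat.card (Cz x) with hu
  have hu2 : u * u = 1 := by
    rw [hu, ← pow_add, ← two_mul, pow_mul, pow_two]
    exact congrArg Subtype.val (pow_card_eq_one' (x := (⟨g * g, hg2⟩ : Cz x)))
  have hux : u * x * u⁻¹ = x⁻¹ := by
    have e : u = (g * g) ^ c * g := by rw [hu, hc, pow_succ, pow_mul, pow_two]
    have hc2 : (g * g) ^ c ∈ Cz x := (Cz x).pow_mem hg2 c
    rw [e, show (g * g) ^ c * g * x * ((g * g) ^ c * g)⁻¹ =
      (g * g) ^ c * (g * x * g⁻¹) * ((g * g) ^ c)⁻¹ by group, hg]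
    exact mem_Cz'.1 (by
      rw [mem_Cz] at hc2 ⊢
      exact (Commute.inv_right hc2 : Commute _ _))
  refine ⟨u, order_two_iff.2 ⟨hu2, fun e => ?_⟩, hux⟩
  rw [e] at hux
  exact h.out_inv_ne hx (by simpa using hux.symm)

theorem prime_dvd_zero {x : G} (hx : Out K x) (hr : ¬ Rev x) {p : ℕ} (hp : p.Prime)
    (hd : p ∣ Nat.card (Cz x)) : ¬ p ∣ (m + 1) * (2 * m) := by
  intro hdvd
  haveI : Fact p.Prime := ⟨hp⟩
  have hp2 : p ≠ 2 := by
    rintro rfl
    have := h.out_odd hx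
    rw [Nat.odd_iff] at this
    omega
  obtain ⟨y, hy⟩ := exists_prime_orderOf_dvd_card' p hd
  have hyp : (y : G) ^ p = 1 := by
    rw [← hy, ← Subgroup.orderOf_coe]; exact pow_orderOf_eq_one _
  have hy1 : (y : G) ≠ 1 := by
    intro e
    rw [← Subgroup.orderOf_coe, e, orderOf_one] at hy
    exact hp.ne_one hy.symm
  have hG := N.card
  rcases hp.dvd_mul.1 hdvd with h1 | h2
  · have hidx : K.index = (2 * m + 1) * (2 * m) := by
      have e := K.card_mul_index
      rw [N.hkm, hG, mul_assoc] at e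
      exact Nat.eq_of_mul_eq_mul_left (by omega) e
    obtain ⟨g, hg⟩ := conj_mem_of_index hp K (by
      rw [hidx]
      intro h3
      rcases hp.dvd_mul.1 h3 with h4 | h4
      · have h5 := Nat.dvd_sub (h1.mul_left 2) h4
        rw [show 2 * (m + 1) - (2 * m + 1) = 1 by omega] at h5
        exact hp.not_dvd_one h5
      · have h5 := Nat.dvd_sub (h1.mul_left 2) h4
        rw [show 2 * (m + 1) - 2 * m = 2 by omega] at h5
        exact hp2 ((Nat.prime_dvd_prime_iff_eq hp Nat.prime_two).1 h5)) hyp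
    have hne : g * (y : G) * g⁻¹ ≠ 1 := fun e => hy1 (conj_eq_one_iff.1 e)
    have hnt : g * (y : G) * g⁻¹ ≠ t := fun e => by
      have := congrArg orderOf e
      rw [h.ht, show g * (y : G) * g⁻¹ = MulAut.conj g (y : G) from rfl, MulEquiv.orderOf_eq,
        Subgroup.orderOf_coe, hy] at this
      exact hp2 this
    refine hx.2 ⟨g, ?_⟩
    rw [← h.Cz_K hg hne hnt]
    exact (conj_mem_Cz g).2 (mem_Cz_symm.1 y.2)
  · have h2' : p ∣ m := ((hp.dvd_mul.1 h2).resolve_left fun e =>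
      hp2 ((Nat.prime_dvd_prime_iff_eq hp Nat.prime_two).1 e))
    have hidx : (Cz z).index = (m + 1) * (2 * m + 1) * 2 := by
      have e := (Cz z).card_mul_index
      rw [N.rev_card z N.z_out N.z_rev, hG] at e
      refine Nat.eq_of_mul_eq_mul_left (show 0 < m by have := N.m3; omega) ?_
      rw [e]; ring
    obtain ⟨g, hg⟩ := conj_mem_of_index hp (Cz z) (by
      rw [hidx]
      intro h3
      rcases hp.dvd_mul.1 h3 with h4 | h4
      · rcases hp.dvd_mul.1 h4 with h5 | h5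
        · exact hp.not_dvd_one ((Nat.dvd_add_right h2').1 h5)
        · exact hp.not_dvd_one ((Nat.dvd_add_right (h2'.mul_left 2)).1 h5)
      · exact hp2 ((Nat.prime_dvd_prime_iff_eq hp Nat.prime_two).1 h4)) hyp
    have hgx : g * x * g⁻¹ ∈ Cz z := by
      rw [← (h.rev_Cz_eq N.z_out N.z_rev hg fun e => hy1 (conj_eq_one_iff.1 e)).2.2]
      exact (conj_mem_Cz g).2 (mem_Cz_symm.1 y.2)
    have := ((h.rev_Cz_eq N.z_out N.z_rev hgx fun e => hx.1 (conj_eq_one_iff.1 e)).2.1).conj g⁻¹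
    exact hr (by simpa [mul_assoc] using this)

theorem zero_dvd {x : G} (hx : Out K x) (hr : ¬ Rev x) : Nat.card (Cz x) ∣ 2 * m + 1 := by
  have hd := Subgroup.card_subgroup_dvd_card (Cz x)
  rw [N.card, mul_comm (m + 1), mul_assoc] at hd
  exact (Nat.coprime_of_dvd fun p hp h1 h2 => prime_dvd_zero h N hx hr hp h1 h2).dvd_of_dvd_mul_right hd

theorem zero_classes {x : G} (hx : Out K x) (hr : ¬ Rev x) :
    Nat.card (Cz x) = 2 * m + 1 ∧ ∀ y, Out K y → ¬ Rev y → IsConj x y ∨ IsConj x⁻¹ y := by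
  have hCinv : Cz x⁻¹ = Cz x := by
    ext g; rw [mem_Cz, mem_Cz]; exact Commute.inv_right_iff
  have hrinv : ¬ Rev x⁻¹ := fun ⟨u, hu, e⟩ => hr ⟨u, hu, by
    have e' := congrArg (fun w => w⁻¹) e
    simpa [mul_assoc] using e'⟩
  have hsub : ∀ w, (IsConj x w ∨ IsConj x⁻¹ w) → Out K w ∧ ¬ Rev w := by
    intro w hw
    rcases hw with hw | hw <;> obtain ⟨g, rfl⟩ := isConj_iff.1 hw
    · exact ⟨hx.conj g, fun e => hr (by simpa [mul_assoc] using e.conj g⁻¹)⟩
    · exact ⟨hx.inv.conj g, fun e => hrinv (by simpa [mul_assoc] using e.conj g⁻¹)⟩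
  have c1 := card_class x
  have c2 := card_class x⁻¹
  rw [hCinv] at c2
  have hdis : Disjoint {w : G | IsConj x w} {w : G | IsConj x⁻¹ w} := by
    rw [Set.disjoint_left]
    intro w h1 h2
    obtain ⟨g, hg⟩ := isConj_iff.1 (h1.trans h2.symm)
    exact hr (rev_of_conj_inv h N hx hg)
  have hU : ({w : G | IsConj x w} ∪ {w : G | IsConj x⁻¹ w}) ⊆ {w : G | Out K w ∧ ¬ Rev w} :=
    fun w hw => hsub w hw
  have hle := Set.ncard_le_ncard hU
  have z1 : {w : G | IsConj x w}.ncard = Nat.card {w : G // IsConj x w} :=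
    (Nat.card_coe_set_eq _).symm
  have z2 : {w : G | IsConj x⁻¹ w}.ncard = Nat.card {w : G // IsConj x⁻¹ w} :=
    (Nat.card_coe_set_eq _).symm
  have z3 : {w : G | Out K w ∧ ¬ Rev w}.ncard = 4 * m * (m + 1) := by
    rw [← N.zero_card]; exact (Nat.card_coe_set_eq _).symm
  rw [Set.ncard_union_eq hdis, z1, z2, z3] at hle
  rw [N.card] at c1 c2
  have hC := Nat.le_of_dvd (by omega) (zero_dvd h N hx hr)
  have e0 : (m + 1) * (2 * m + 1) * (2 * m) = (2 * m * (m + 1)) * (2 * m + 1) := by ring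
  rw [e0] at c1 c2
  have hp0 : 0 < 2 * m * (m + 1) := Nat.mul_pos (by have := N.m3; omega) (by omega)
  have hpos : 0 < Nat.card (Cz x) := Nat.card_pos
  set r := 2 * m * (m + 1)
  set n1 := Nat.card {w : G // IsConj x w}
  set n2 := Nat.card {w : G // IsConj x⁻¹ w}
  have h4 : 4 * m * (m + 1) = 2 * r := by simp only [r]; ring
  rw [h4] at hle z3
  have g1 : r ≤ n1 := Nat.le_of_mul_le_mul_right
    (c1 ▸ Nat.mul_le_mul_left r hC : r * Nat.card (Cz x) ≤ n1 * Nat.card (Cz x)) hpos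
  have g2 : r ≤ n2 := Nat.le_of_mul_le_mul_right
    (c2 ▸ Nat.mul_le_mul_left r hC : r * Nat.card (Cz x) ≤ n2 * Nat.card (Cz x)) hpos
  refine ⟨?_, fun y hy hyr => ?_⟩
  · rw [show n1 = r by omega] at c1
    exact Nat.eq_of_mul_eq_mul_left hp0 c1
  · have heq : ({w : G | IsConj x w} ∪ {w : G | IsConj x⁻¹ w}) = {w : G | Out K w ∧ ¬ Rev w} := by
      refine Set.eq_of_subset_of_ncard_le hU ?_
      rw [Set.ncard_union_eq hdis, z1, z2, z3]
      omega
    exact (Set.ext_iff.1 heq y).2 ⟨hy, hyr⟩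

theorem exists_prime : ∃ p e : ℕ, p.Prime ∧ p ≠ 2 ∧ 0 < e ∧ 2 * m + 1 = p ^ e ∧
    ∀ y : G, y ≠ 1 → ((Out K y ∧ ¬ Rev y) ↔ y ^ p = 1) := by
  have hq2 : 2 * m + 1 ≠ 1 := by have := N.m3; omega
  set p := (2 * m + 1).minFac with hpd
  have hp : p.Prime := Nat.minFac_prime hq2
  have hpq : p ∣ 2 * m + 1 := Nat.minFac_dvd _
  have notK : ∀ {r : ℕ}, r.Prime → r ∣ 2 * m + 1 → ∀ y : G, orderOf y = r →
      Out K y ∧ ¬ Rev y := by
    intro r hr hrd y hy
    have hy1 : y ≠ 1 := fun e => hr.ne_one (by rw [← hy, e, orderOf_one])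
    have hout : Out K y := ⟨hy1, fun ⟨g, hg⟩ => by
      have h1 := Subgroup.orderOf_dvd_natCard K hg
      rw [show g * y * g⁻¹ = MulAut.conj g y from rfl, MulEquiv.orderOf_eq, hy, N.hkm] at h1
      have h5 := Nat.dvd_sub (h1.mul_left 2) hrd
      rw [show 2 * (m + 1) - (2 * m + 1) = 1 by omega] at h5
      exact hr.not_dvd_one h5⟩
    refine ⟨hout, fun hrev => ?_⟩
    have h1 := Subgroup.orderOf_dvd_natCard (Cz y) (self_mem_Cz y)
    rw [hy, N.rev_card y hout hrev] at h1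
    exact hr.not_dvd_one ((Nat.dvd_add_right (h1.mul_left 2)).1 hrd)
  haveI : Fact p.Prime := ⟨hp⟩
  have hpG : p ∣ Nat.card G := by
    rw [N.card]; exact (hpq.mul_left (m + 1)).mul_right (2 * m)
  obtain ⟨y0, hy0⟩ := exists_prime_orderOf_dvd_card' p hpG
  obtain ⟨hy0o, hy0r⟩ := notK hp hpq y0 hy0
  have hord : ∀ y, Out K y → ¬ Rev y → orderOf y = p := by
    intro y hy hyr
    rcases (zero_classes h N hy0o hy0r).2 y hy hyr with hc | hc <;> obtain ⟨g, rfl⟩ := isConj_iff.1 hc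
    · exact ((MulAut.conj g).orderOf_eq y0).trans hy0
    · exact ((MulAut.conj g).orderOf_eq y0⁻¹).trans ((orderOf_inv y0).trans hy0)
  have huniq : ∀ {r : ℕ}, r.Prime → r ∣ 2 * m + 1 → r = p := by
    intro r hr hrd
    haveI : Fact r.Prime := ⟨hr⟩
    obtain ⟨y, hy⟩ := exists_prime_orderOf_dvd_card' r (G := G) (by
      rw [N.card]; exact (hrd.mul_left (m + 1)).mul_right (2 * m))
    obtain ⟨h1, h2⟩ := notK hr hrd y hy
    rw [← hy, hord y h1 h2]
  have hpe := Nat.eq_prime_pow_of_unique_prime_dvd (by omega : 2 * m + 1 ≠ 0) huniq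
  refine ⟨p, _, hp, fun e => ?_, ?_, hpe, fun y hy1 => ⟨fun ⟨ho, hr⟩ => ?_, fun hyp => ?_⟩⟩
  · rw [e] at hpq; omega
  · refine Nat.pos_of_ne_zero fun e => hq2 ?_
    rw [hpe, e, pow_zero]
  · rw [← hord y ho hr]; exact pow_orderOf_eq_one y
  · exact notK hp hpq y (orderOf_eq_prime hyp hy1)

end Neg

end Cfsg.Agent.BSW
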