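import Cfsg.Agent.Lib.BSW.Minus

/-!
The conclusion in the case `q = -(2k - 1)`.
-/

set_option autoImplicit false
set_option linter.unusedSectionVars false
set_option linter.style.haveILetI false

namespace Cfsg.Agent.BSW

open scoped Classical

universe u

variable {G : Type u} [Group G] [Fintype G] {t : G} {K : Subgroup G} {s : G} {m : ℕ} {z : G}

namespace PData

variable {p e : ℕ} (h : Hyp t K s) (N : Neg K m z) (P : PData K m p e)
include h N P

theorem pow_p_of_card {S : Subgroup G} (hS : Nat.card S = 2 * m + 1) {y : G} (hy : y ∈ S) :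
    y ^ p = 1 := by
  refine pow_p h N P (j := e) ?_
  rw [← P.hpe, ← hS]
  exact congrArg Subtype.val (pow_card_eq_one' (x := (⟨y, hy⟩ : S)))

theorem grow {A R : Subgroup G} (hA : Nat.card A = 2 * m + 1) (hle : R ≤ A) (hne : R ≠ A) :
    ∃ g, g ∈ A ∧ g ∈ Subgroup.normalizer (R : Set G) ∧ g ∉ R := by
  haveI : Fact p.Prime := ⟨P.hp⟩
  have hpA : IsPGroup p A := IsPGroup.of_card (hA.trans P.hpe)
  haveI := hpA.isNilpotent
  have hlt : R.subgroupOf A < ⊤ := lt_top_iff_ne_top.2 fun e1 =>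
    hne (le_antisymm hle (Subgroup.subgroupOf_eq_top.1 e1))
  obtain ⟨g, hg, hgR⟩ := SetLike.exists_of_lt (Group.normalizerCondition_of_isNilpotent _ hlt)
  refine ⟨g, g.2, ?_, fun e1 => hgR (Subgroup.mem_subgroupOf.2 e1)⟩
  rw [Subgroup.mem_normalizer_iff]
  intro c
  rw [Subgroup.mem_normalizer_iff] at hg
  constructor
  · intro hc
    exact Subgroup.mem_subgroupOf.1 ((hg ⟨c, hle hc⟩).1 (Subgroup.mem_subgroupOf.2 hc))
  · intro hc
    have hcA : c ∈ A := by
      have := A.mul_mem (A.mul_mem (A.inv_mem g.2) (hle hc)) g.2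
      simpa [mul_assoc] using this
    exact Subgroup.mem_subgroupOf.1 ((hg ⟨c, hcA⟩).2 (Subgroup.mem_subgroupOf.2 hc))

theorem sylow_TI {A B : Subgroup G} (hA : Nat.card A = 2 * m + 1) (hB : Nat.card B = 2 * m + 1)
    (hAB : A ≠ B) : A ⊓ B = ⊥ := by
  haveI : Fact p.Prime := ⟨P.hp⟩
  by_contra hne
  let F : Finset (Subgroup G × Subgroup G) := Finset.univ.filter fun X =>
    Nat.card X.1 = 2 * m + 1 ∧ Nat.card X.2 = 2 * m + 1 ∧ X.1 ≠ X.2 ∧ X.1 ⊓ X.2 ≠ ⊥
  obtain ⟨⟨A1, B1⟩, hX, hmax⟩ := F.exists_max_image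
    (fun X => Nat.card (X.1 ⊓ X.2 : Subgroup G)) ⟨(A, B), Finset.mem_filter.2
      ⟨Finset.mem_univ _, hA, hB, hAB, hne⟩⟩
  obtain ⟨hA1, hB1, hne1, hR1⟩ := (Finset.mem_filter.1 hX).2
  set R := A1 ⊓ B1
  obtain ⟨U, hU, hUmem⟩ := unique_sylow h N P (Subgroup.normalizer (R : Set G))
    (fun g hg => odd_normalizer h N P (fun r hr => pow_p_of_card h N P hA1 ((inf_le_left : R ≤ A1) hr)) hR1 hg)
  have hUp : IsPGroup p U := fun u => ⟨1, by
    rw [pow_one]; exact Subtype.ext ((hUmem _ (hU u.2)).2 u.2)⟩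
  obtain ⟨S, hS⟩ := hUp.exists_le_sylow
  have hScard : Nat.card (S : Subgroup G) = 2 * m + 1 := by
    rw [S.card_eq_multiplicity, P.hpe]
    congr 1
    rw [N.card, P.hpe, show (m + 1) * p ^ e * (2 * m) = p ^ e * ((m + 1) * (2 * m)) by ring,
      Nat.factorization_mul (pow_ne_zero _ P.hp.ne_zero)
        (by have := N.m3; positivity), Finsupp.add_apply, P.hp.factorization_pow,
      Finsupp.single_eq_same, Nat.factorization_eq_zero_of_not_dvd, add_zero]
    intro hd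
    rcases P.hp.dvd_mul.1 hd with h1 | h1
    · exact (P.hp.coprime_iff_not_dvd.1 (cop h N P).1.symm) h1
    · rcases P.hp.dvd_mul.1 h1 with h2 | h2
      · exact P.hp2 ((Nat.prime_dvd_prime_iff_eq P.hp Nat.prime_two).1 h2)
      · exact (P.hp.coprime_iff_not_dvd.1 (cop h N P).2.symm) h2
  have side : ∀ X : Subgroup G, Nat.card X = 2 * m + 1 → R ≤ X → R ≠ X → (S : Subgroup G) = X := by
    intro X hX hRX hRne
    by_contra hSX
    obtain ⟨g, hgX, hgN, hgR⟩ := grow h N P hX hRX hRne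
    have hgS : g ∈ (S : Subgroup G) := hS ((hUmem g hgN).1 (pow_p_of_card h N P hX hgX))
    have hRS : R ≤ (S : Subgroup G) := fun r hr =>
      hS ((hUmem r (Subgroup.le_normalizer hr)).1 (pow_p_of_card h N P hX (hRX hr)))
    have hlt : R < (S : Subgroup G) ⊓ X :=
      lt_of_le_of_ne (le_inf hRS hRX) fun e1 => hgR (e1 ▸ ⟨hgS, hgX⟩)
    have hbot : (S : Subgroup G) ⊓ X ≠ ⊥ := fun e1 => hR1 (le_bot_iff.1 (e1 ▸ hlt.le))
    have hm := hmax ((S : Subgroup G), X) (Finset.mem_filter.2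
      ⟨Finset.mem_univ _, hScard, hX, hSX, hbot⟩)
    exact absurd hlt (not_lt_of_ge (le_of_eq (Subgroup.eq_of_le_of_card_ge hlt.le hm).symm))
  have hRA : R ≠ A1 := fun e1 => hne1
    (Subgroup.eq_of_le_of_card_ge (inf_eq_left.1 e1) (by rw [hA1, hB1]))
  have hRB : R ≠ B1 := fun e1 => hne1
    (Subgroup.eq_of_le_of_card_ge (inf_eq_right.1 e1) (by rw [hA1, hB1])).symm
  exact hne1 ((side A1 hA1 inf_le_left hRA).symm.trans (side B1 hB1 inf_le_right hRB))

theorem goal : Goal (G := G) := by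
  haveI : Fact p.Prime := ⟨P.hp⟩
  obtain ⟨x, hx, hxr⟩ : ∃ x, Out K x ∧ ¬ Rev x := by
    have hpos : 0 < Nat.card {x : G // Out K x ∧ ¬ Rev x} := by
      rw [N.zero_card]; have := N.m3; positivity
    obtain ⟨⟨x, hx⟩⟩ := (Nat.card_pos_iff.1 hpos).1
    exact ⟨x, hx.1, hx.2⟩
  set Q := Cz x with hQd
  obtain ⟨hQc, hcls⟩ := Neg.zero_classes h N hx hxr
  have hQz : ∀ y ∈ Q, y ≠ 1 → Out K y ∧ ¬ Rev y := fun y hy hy1 =>
    (P.zero y hy1).2 (pow_p_of_card h N P hQc hy)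
  have hQC : ∀ y ∈ Q, y ≠ 1 → Cz y = Q := by
    intro y hy hy1
    obtain ⟨hyo, hyr⟩ := hQz y hy hy1
    by_contra hne
    have hmem : y ∈ Cz y ⊓ Q := ⟨self_mem_Cz y, hy⟩
    rw [sylow_TI h N P (Neg.zero_classes h N hyo hyr).1 hQc hne] at hmem
    exact hy1 (Subgroup.mem_bot.1 hmem)
  -- the normalizer
  set A : Set G := {b | b ∈ Q ∧ b ≠ 1} with hAd
  have hcount := card_conjSet A (Subgroup.normalizer (Q : Set G))
    (fun c hc a ha => ⟨(Subgroup.mem_normalizer_iff.1 hc a).1 ha.1,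
      fun e1 => ha.2 (conj_eq_one_iff.1 e1)⟩)
    (fun g a ha hga => by
      have e1 := hQC _ hga.1 hga.2
      rw [← Cz_map, hQC a ha.1 ha.2] at e1
      exact Subgroup.mem_normalizer_iff_map_conj_eq.2 e1)
  have hAc : Nat.card A = 2 * m := by
    rw [Nat.card_coe_set_eq, show A = (Q : Set G) \ {1} from rfl,
      Set.ncard_sdiff_singleton_of_mem Q.one_mem, ← Nat.card_coe_set_eq]
    simp only [SetLike.coe_sort_coe]
    rw [show Nat.card Q = 2 * m + 1 from hQc, Nat.add_sub_cancel]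
  have hZ : conjSet A = {y : G | Out K y ∧ ¬ Rev y} := by
    ext y
    constructor
    · rintro ⟨g, a, ⟨ha, ha1⟩, rfl⟩
      obtain ⟨hao, har⟩ := hQz a ha ha1
      exact ⟨hao.conj g, fun e1 => har (by simpa [mul_assoc] using e1.conj g⁻¹)⟩
    · rintro ⟨hy, hyr⟩
      rcases hcls y hy hyr with hc | hc <;> obtain ⟨g, rfl⟩ := isConj_iff.1 hc
      · exact ⟨g, x, ⟨self_mem_Cz x, hx.1⟩, rfl⟩
      · exact ⟨g, x⁻¹, ⟨Q.inv_mem (self_mem_Cz x), fun e1 => hx.1 (inv_eq_one.1 e1)⟩, rfl⟩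
  rw [hZ, hAc, N.card] at hcount
  have hNc : Nat.card (Subgroup.normalizer (Q : Set G)) = (2 * m + 1) * m := by
    have e1 : Nat.card ({y : G | Out K y ∧ ¬ Rev y} : Set G) = 4 * m * (m + 1) := N.zero_card
    rw [e1] at hcount
    refine Nat.eq_of_mul_eq_mul_left (show 0 < 4 * m * (m + 1) by have := N.m3; positivity) ?_
    rw [hcount]; ring
  -- a complement
  set Ns := Subgroup.normalizer (Q : Set G) with hNs
  set Qn := Q.subgroupOf Ns with hQn
  haveI : Qn.Normal := Subgroup.normal_in_normalizer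
  have hQnc : Nat.card Qn = 2 * m + 1 := by
    rw [hQn, Nat.card_congr (Subgroup.subgroupOfEquivOfLe Subgroup.le_normalizer).toEquiv, hQc]
  have hQni : Qn.index = m := by
    have e1 := Qn.card_mul_index
    rw [hQnc, hNc] at e1
    exact Nat.eq_of_mul_eq_mul_left (by omega) e1
  have hcm : Nat.Coprime (2 * m + 1) m := by
    refine Nat.coprime_of_dvd' fun r _ h1 h2 => ?_
    exact (Nat.dvd_add_right (Dvd.dvd.mul_left h2 2)).1 h1
  obtain ⟨E, hE⟩ := Subgroup.exists_right_complement'_of_coprime (N := Qn) (by rwa [hQnc, hQni])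
  have hEc : Nat.card E = m := by
    have e1 := hE.card_mul
    rw [hQnc, hNc] at e1
    exact Nat.eq_of_mul_eq_mul_left (by omega) e1
  set D := E.map Ns.subtype with hD
  have hDc : Nat.card D = m := by
    rw [hD, Subgroup.card_map_of_injective Ns.subtype_injective, hEc]
  have hmodd := Neg.m_odd h N
  have hDodd : ∀ d ∈ D, Odd (orderOf d) := fun d hd =>
    Odd.of_dvd_nat hmodd (hDc ▸ Subgroup.orderOf_dvd_natCard D hd)
  have hDp : ∀ d ∈ D, d ≠ 1 → d ^ p ≠ 1 := by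
    intro d hd hd1 e1
    exact hd1 (orderOf_eq_one_iff.1 (Nat.eq_one_of_dvd_coprimes (cop h N P).2
      (hDc ▸ Subgroup.orderOf_dvd_natCard D hd) (orderOf_dvd_of_pow_eq_one e1)))
  obtain ⟨d, hd⟩ : ∃ d : D, d ≠ 1 := by
    haveI : Nontrivial D := Finite.one_lt_card_iff_nontrivial.1 (by rw [hDc]; have := N.m3; omega)
    exact exists_ne 1
  have hd1 : (d : G) ≠ 1 := fun e1 => hd (Subtype.ext e1)
  obtain ⟨hdo, hdr, -⟩ : Out K (d : G) ∧ Rev (d : G) ∧ True := by
    rcases ord_dvd h N P (hDp _ d.2 hd1) with ⟨-, h1⟩ | ⟨h1, h2, -⟩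
    · exfalso
      have hcm' : Nat.Coprime (m + 1) m := Nat.coprime_of_dvd' fun r _ a b =>
        (Nat.dvd_add_right b).1 a
      exact hd1 (orderOf_eq_one_iff.1 (Nat.eq_one_of_dvd_coprimes hcm' h1
        (hDc ▸ Subgroup.orderOf_dvd_natCard D d.2)))
    · exact ⟨h1, h2, trivial⟩
  obtain ⟨hcov, -⟩ := cover (G := D) {1} rfl (fun g a ha => by
      rw [Set.mem_singleton_iff.1 ha]; simp)
    (fun a ha b hb hb1 => by
      have ha1 : (a : G) ≠ 1 := fun e1 => ha (Subtype.ext e1)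
      obtain ⟨-, h4⟩ := (tame h N P (hDp _ a.2 ha1) (hDodd _ a.2)).1 b (mem_centralizer_coe.1 hb)
        (fun e1 => hb1 (Subtype.ext e1)) (hDodd _ b.2)
      refine ⟨hb1, ?_⟩
      ext c
      rw [mem_centralizer_coe, mem_centralizer_coe, h4])
    (fun a ha g hga => by
      have ha1 : (a : G) ≠ 1 := fun e1 => ha (Subtype.ext e1)
      exact mem_centralizer_coe.2 ((tame h N P (hDp _ a.2 ha1) (hDodd _ a.2)).2 g (hDodd _ g.2) (by
        simpa using mem_centralizer_coe.1 hga))) (h := d) hd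
  rw [Nat.card_unique (α := ({1} : Set D)), one_mul] at hcov
  have hDeq : Cz (d : G) = D := by
    have htop : Subgroup.centralizer ({d} : Set D) = ⊤ := Subgroup.eq_top_of_card_eq _ hcov
    have hle : D ≤ Cz (d : G) := fun c hc =>
      (mem_centralizer_coe (a := ⟨c, hc⟩) (b := d)).1 (htop ▸ Subgroup.mem_top _)
    exact (Subgroup.eq_of_le_of_card_ge hle (by rw [hDc, N.rev_card _ hdo hdr])).symm
  obtain ⟨E', u, -, hu, huE', -, hinv, hNsup, hdisj, hNcard, -⟩ := h.rev_normalizer hdo hdr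
  rw [hDeq] at hinv hNsup hdisj hNcard
  have hE'2 : Nat.card E' = 2 := by
    have := N.rev_norm _ hdo hdr
    rw [hDeq, hNcard, hDc, mul_comm 2 m] at this
    exact Nat.eq_of_mul_eq_mul_left (by have := N.m3; omega) this
  have hE'u : E' = Subgroup.zpowers u := (Subgroup.eq_of_le_of_card_ge
    (Subgroup.zpowers_le.2 huE') (by rw [Nat.card_zpowers, hu, hE'2])).symm
  have hDcomm : IsMulCommutative D := ⟨⟨fun a b => Subtype.ext (by
    have ha : (a : G) ∈ Cz (d : G) := by rw [hDeq]; exact a.2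
    have hb : (b : G) ∈ Cz (d : G) := by rw [hDeq]; exact b.2
    exact h.rev_comm hdo hdr _ ha _ hb)⟩⟩
  have hDN : D ≤ Ns := by rw [hD]; exact Subgroup.map_subtype_le E
  have hQD : Q ⊓ D = ⊥ := by
    rw [eq_bot_iff]
    rintro c ⟨hc1, hc2⟩
    rw [Subgroup.mem_bot]
    by_contra hne
    exact hDp c hc2 hne (pow_p_of_card h N P hQc hc1)
  refine ⟨Q, D, ?_, hQC, hDcomm, by rw [hDc, hQc], hQD, ?_, fun X hX hX1 => ⟨?_, u, hu, ?_, hinv, ?_⟩⟩
  · rw [hQc, N.card, Nat.add_sub_cancel]; ring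
  · refine (Subgroup.eq_of_le_of_card_ge (sup_le Subgroup.le_normalizer hDN) ?_).symm
    rw [hNc]
    exact Nat.le_of_dvd Nat.card_pos (hcm.mul_dvd_of_dvd_of_dvd
      (hQc ▸ Subgroup.card_dvd_of_le le_sup_left) (hDc ▸ Subgroup.card_dvd_of_le le_sup_right))
  · refine le_antisymm (fun g hg => ?_) ?_
    · obtain ⟨c, hc, hc1⟩ := X.bot_or_exists_ne_one.resolve_left hX1
      have hcD : c ∈ Cz (d : G) := hDeq.symm ▸ hX hc
      have hgc : g * c * g⁻¹ ∈ Cz (d : G) :=
        hDeq.symm ▸ hX ((Subgroup.mem_normalizer_iff.1 hg c).1 hc)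
      have e1 := (h.rev_Cz_eq hdo hdr hgc fun e1 => hc1 (conj_eq_one_iff.1 e1)).2.2
      rw [← Cz_map, (h.rev_Cz_eq hdo hdr hcD hc1).2.2, hDeq] at e1
      exact Subgroup.mem_normalizer_iff_map_conj_eq.2 e1
    · rw [hNsup, hE'u]
      refine sup_le (fun g hg => ?_) (Subgroup.zpowers_le.2 ?_)
      · rw [Subgroup.mem_normalizer_iff]
        intro c
        constructor
        · intro hc
          rwa [show g * c = c * g from congrArg Subtype.val
            (hDcomm.is_comm.comm ⟨g, hg⟩ ⟨c, hX hc⟩), mul_inv_cancel_right]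
        · intro hc
          have hc2 : g⁻¹ * (g * c * g⁻¹) * g = g * c * g⁻¹ := by
            rw [show g⁻¹ * (g * c * g⁻¹) = g * c * g⁻¹ * g⁻¹ from congrArg Subtype.val
              (hDcomm.is_comm.comm ⟨g⁻¹, D.inv_mem hg⟩ ⟨_, hX hc⟩), inv_mul_cancel_right]
          rw [show c = g * c * g⁻¹ by rw [← hc2]; group]
          exact hc
      · rw [Subgroup.mem_normalizer_iff]
        intro c
        constructor
        · intro hc
          rw [hinv c (hX hc)]; exact X.inv_mem hc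
        · intro hc
          have e1 := hinv _ (hX hc)
          rw [show u * (u * c * u⁻¹) * u⁻¹ = (u * u) * c * (u * u)⁻¹ by group,
            (order_two_iff.1 hu).1] at e1
          simp only [one_mul, inv_one, mul_one] at e1
          rw [e1]
          exact X.inv_mem hc
  · intro hu'
    have := hDodd u hu'
    rw [hu] at this
    exact absurd this (by decide)
  · rw [hNsup, hE'u]

end PData

theorem goal_minus (h : Hyp t K s) (hk : 4 ≤ Nat.card K) {q : ℤ} {a : G → ℤ}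
    (D : Data t K q a) (hq : q = 1 - 2 * (Nat.card K : ℤ)) : Goal (G := G) := by
  obtain ⟨m, z, N⟩ := exists_neg h hk D hq
  obtain ⟨p, e, hp, hp2, he, hpe, hz⟩ := Neg.exists_prime h N
  exact PData.goal h N ⟨hp, hp2, he, hpe, hz⟩

end Cfsg.Agent.BSW
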