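import Cfsg.Agent.Lib.BSW.Basic
import Cfsg.Agent.Lib.Solvable.Frobenius

/-!
The elements outside the conjugates of `K`.
-/

set_option autoImplicit false
set_option linter.unusedSectionVars false

namespace Cfsg.Agent.BSW

universe u

variable {G : Type u} [Group G] [Finite G] {t : G} {K : Subgroup G} {s : G}

/-- An involution normalizing `C` without fixed points inverts it. -/
theorem inverts_of_fpf (C : Subgroup G) {u : G} (hu : u * u = 1)
    (hn : ∀ c ∈ C, u * c * u⁻¹ ∈ C) (hfix : ∀ c ∈ C, u * c = c * u → c = 1) :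
    ∀ c ∈ C, u * c * u⁻¹ = c⁻¹ := by
  let φ : C →* C :=
    { toFun := fun c => ⟨u * (c : G) * u⁻¹, hn c c.2⟩
      map_one' := Subtype.ext (by simp)
      map_mul' := fun a b => Subtype.ext (by simp [mul_assoc]) }
  have hinv : Function.Involutive φ := fun c => Subtype.ext (by
    show u * (u * (c : G) * u⁻¹) * u⁻¹ = c
    rw [show u * (u * (c : G) * u⁻¹) * u⁻¹ = (u * u) * c * (u * u)⁻¹ by group, hu]
    simp)
  have hfp : MonoidHom.FixedPointFree φ := fun c hc => Subtype.ext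
    (hfix c c.2 (mul_inv_eq_iff_eq_mul.1 (congrArg Subtype.val hc)))
  intro c hc
  have := congrFun (hfp.coe_eq_inv_of_involutive hinv) ⟨c, hc⟩
  exact congrArg Subtype.val this

theorem card_class (x : G) :
    Nat.card {y : G // IsConj x y} * Nat.card (Cz x) = Nat.card G := by
  have hc := card_conjSet ({x} : Set G) (Cz x)
    (fun m hm a ha => by rw [Set.mem_singleton_iff.1 ha]; exact mem_Cz'.1 hm)
    (fun g a ha hg => by
      rw [Set.mem_singleton_iff.1 ha, Set.mem_singleton_iff] at hg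
      exact mem_Cz'.2 hg)
  rw [Nat.card_unique (α := ({x} : Set G)), mul_one] at hc
  rw [← hc]
  congr 1
  refine Nat.card_congr (Equiv.subtypeEquivRight fun y => ?_)
  rw [isConj_iff]
  exact ⟨fun ⟨g, hg⟩ => ⟨g, x, rfl, hg.symm⟩, fun ⟨g, a, ha, e⟩ => ⟨g, by rw [e, ha]⟩⟩

namespace Hyp

variable (h : Hyp t K s)
include h

theorem inK_of_sq {x : G} (h2 : x * x = 1) : InK K x := by
  by_cases hx : x = 1
  · exact ⟨1, by rw [hx]; simp⟩
  · obtain ⟨c, hc⟩ := isConj_iff.1 (h.oneclass x t (order_two_iff.2 ⟨h2, hx⟩) h.ht)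
    exact ⟨c, hc ▸ h.tK⟩

theorem out_sq {x : G} (hx : Out K x) : x * x ≠ 1 := fun e => hx.2 (h.inK_of_sq e)

theorem out_inv_ne {x : G} (hx : Out K x) : x⁻¹ ≠ x := fun e => h.out_sq hx (by
  nth_rewrite 1 [← e]
  exact inv_mul_cancel x)

theorem out_centralizes {x y : G} (hx : Out K x) (hy : y ∈ Cz x) (h2 : y * y = 1) : y = 1 := by
  by_contra hy1
  obtain ⟨g, hg⟩ := isConj_iff.1 (h.oneclass y t (order_two_iff.2 ⟨h2, hy1⟩) h.ht)
  have hx' : g * x * g⁻¹ ∈ Cz t := hg ▸ (conj_mem_Cz g).2 (mem_Cz_symm.1 hy)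
  by_cases hK : g * x * g⁻¹ ∈ K
  · exact hx.2 ⟨g, hK⟩
  · exact hx.2 ((h.inK_of_sq (order_two_iff.1 (h.not_K hx' hK).1).1).of_conj g)

theorem out_odd {x : G} (hx : Out K x) : Odd (Nat.card (Cz x)) := by
  rw [Nat.odd_iff]
  by_contra hn
  have h2d : 2 ∣ Nat.card (Cz x) := by omega
  haveI : Fact (Nat.Prime 2) := ⟨Nat.prime_two⟩
  obtain ⟨y, hy⟩ := exists_prime_orderOf_dvd_card' 2 h2d
  have h2 := order_two_iff.1 hy
  exact h2.2 (Subtype.ext (h.out_centralizes hx y.2 (congrArg Subtype.val h2.1)))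

theorem out_commutes_invol {x y u : G} (hx : Out K x) (hy : y ∈ Cz x) (hu : orderOf u = 2)
    (huy : u * y = y * u) : y = 1 := by
  obtain ⟨g, hg⟩ := isConj_iff.1 (h.oneclass u t hu h.ht)
  have hy' : g * y * g⁻¹ ∈ Cz t := hg ▸ (conj_mem_Cz g).2 (mem_Cz.2 huy.symm)
  by_contra hy1
  have hsq : y * y ≠ 1 := fun e => hy1 (h.out_centralizes hx hy e)
  have hsq' : g * y * g⁻¹ * (g * y * g⁻¹) ≠ 1 := by
    rw [show g * y * g⁻¹ * (g * y * g⁻¹) = g * (y * y) * g⁻¹ by group, Ne, conj_eq_one_iff]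
    exact hsq
  have hK : g * y * g⁻¹ ∈ K := by
    by_contra hK
    exact hsq' (order_two_iff.1 (h.not_K hy' hK).1).1
  have hC := h.Cz_K hK (fun e => hy1 (conj_eq_one_iff.1 e)) (fun e => hsq' (e ▸ h.tt))
  refine hx.2 ⟨g, ?_⟩
  rw [← hC]
  exact (conj_mem_Cz g).2 (mem_Cz_symm.1 hy)

theorem out_inverts {x u : G} (hx : Out K x) (hu : orderOf u = 2) (hux : u * x * u⁻¹ = x⁻¹) :
    ∀ y ∈ Cz x, u * y * u⁻¹ = y⁻¹ := by
  refine inverts_of_fpf _ (order_two_iff.1 hu).1 (fun c hc => ?_)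
    fun c hc e => h.out_commutes_invol hx hc hu e
  have := (conj_mem_Cz u).2 hc
  rw [hux] at this
  rw [mem_Cz] at this ⊢
  exact (Commute.inv_right_iff.1 this : Commute _ _)

theorem rev_comm {x : G} (hx : Out K x) (hr : Rev x) :
    ∀ a ∈ Cz x, ∀ b ∈ Cz x, a * b = b * a := by
  obtain ⟨u, hu, hux⟩ := hr
  intro a ha b hb
  have e := h.out_inverts hx hu hux _ ((Cz x).mul_mem ha hb)
  rw [show u * (a * b) * u⁻¹ = (u * a * u⁻¹) * (u * b * u⁻¹) by group,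
    h.out_inverts hx hu hux a ha, h.out_inverts hx hu hux b hb] at e
  have e' := congrArg (fun z => z⁻¹) e
  simpa using e'.symm

theorem rev_Cz_eq {x y : G} (hx : Out K x) (hr : Rev x) (hy : y ∈ Cz x) (hy1 : y ≠ 1) :
    Out K y ∧ Rev y ∧ Cz y = Cz x := by
  have hsq : y * y ≠ 1 := fun e => hy1 (h.out_centralizes hx hy e)
  have hout : Out K y := by
    refine ⟨hy1, fun ⟨g, hg⟩ => hx.2 ⟨g, ?_⟩⟩
    have hsq' : g * y * g⁻¹ * (g * y * g⁻¹) ≠ 1 := by
      rw [show g * y * g⁻¹ * (g * y * g⁻¹) = g * (y * y) * g⁻¹ by group, Ne, conj_eq_one_iff]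
      exact hsq
    rw [← h.Cz_K hg (fun e => hy1 (conj_eq_one_iff.1 e)) (fun e => hsq' (e ▸ h.tt))]
    exact (conj_mem_Cz g).2 (mem_Cz_symm.1 hy)
  obtain ⟨u, hu, hux⟩ := hr
  have hry : Rev y := ⟨u, hu, h.out_inverts hx hu hux y hy⟩
  refine ⟨hout, hry, le_antisymm (fun z hz => ?_) fun z hz => mem_Cz.2 (h.rev_comm hx ⟨u, hu, hux⟩ z hz y hy)⟩
  exact mem_Cz.2 (h.rev_comm hout hry z hz x (mem_Cz_symm.1 hy))

theorem pairs_rev {x : G} (hx : Out K x) (hr : Rev x) :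
    Nat.card (Pairs t x) = Nat.card (Cz x) := by
  obtain ⟨u, hu, hux⟩ := hr
  obtain ⟨hu2, -⟩ := order_two_iff.1 hu
  have key : ∀ a : G, (IsConj t a ∧ IsConj t (a⁻¹ * x)) ↔ u * a ∈ Cz x := by
    intro a
    rw [h.pair_iff (Or.inl (h.out_sq hx))]
    constructor
    · rintro ⟨-, hax, -⟩
      rw [mem_Cz', show u * a * x * (u * a)⁻¹ = u * (a * x * a⁻¹) * u⁻¹ by group, hax,
        show u * x⁻¹ * u⁻¹ = (u * x * u⁻¹)⁻¹ by group, hux, inv_inv]
    · intro hc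
      have ea : a = u * (u * a) := by rw [← mul_assoc, hu2, one_mul]
      have e1 := h.out_inverts hx hu hux _ hc
      rw [inv_eq_self hu2] at e1
      have hax : a * x * a⁻¹ = x⁻¹ := by
        rw [ea, show u * (u * a) * x * (u * (u * a))⁻¹ = u * ((u * a) * x * (u * a)⁻¹) * u⁻¹ by group,
          mem_Cz'.1 hc, hux]
      refine ⟨order_two_iff.2 ⟨?_, ?_⟩, hax, fun e => h.out_inv_ne hx ?_⟩
      · calc a * a = (u * (u * a) * u) * (u * a) := by
              nth_rewrite 1 [ea]; nth_rewrite 2 [ea]; group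
          _ = 1 := by rw [e1, inv_mul_cancel]
      · intro e
        rw [e] at hax
        exact h.out_inv_ne hx (by simpa using hax.symm)
      · rw [← hax, e, mul_inv_cancel_right]
  exact Nat.card_congr ((Equiv.mulLeft u).subtypeEquiv key)

theorem pairs_not_rev {x : G} (hx : Out K x) (hr : ¬ Rev x) : Nat.card (Pairs t x) = 0 := by
  rw [Nat.card_eq_zero]
  refine Or.inl ⟨fun a => hr ?_⟩
  obtain ⟨ha, hax, -⟩ := (h.pair_iff (Or.inl (h.out_sq hx))).1 a.2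
  exact ⟨a, ha, hax⟩

theorem rev_normalizer {x : G} (hx : Out K x) (hr : Rev x) :
    ∃ (E : Subgroup G) (u g : G), orderOf u = 2 ∧ u ∈ E ∧ (∀ e ∈ E, g * e * g⁻¹ ∈ K) ∧
      (∀ c ∈ Cz x, u * c * u⁻¹ = c⁻¹) ∧
      Subgroup.normalizer (Cz x : Set G) = Cz x ⊔ E ∧ Cz x ⊓ E = ⊥ ∧
      Nat.card (Subgroup.normalizer (Cz x : Set G)) = Nat.card (Cz x) * Nat.card E ∧
      Nat.card E ∣ Nat.card K ∧ 2 ∣ Nat.card E ∧ Nat.card E ∣ Nat.card (Cz x) - 1 := by
  have hr' := hr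
  obtain ⟨u, hu, hux⟩ := hr
  obtain ⟨hu2, hu1⟩ := order_two_iff.1 hu
  have hinv := h.out_inverts hx hu hux
  obtain ⟨g, hg⟩ := isConj_iff.1 (h.oneclass u t hu h.ht)
  set N := Subgroup.normalizer (Cz x : Set G) with hNd
  set E := N ⊓ Cz u with hE
  have hfixC : ∀ c ∈ Cz x, u * c = c * u → c = 1 := fun c hc e =>
    h.out_commutes_invol hx hc hu e
  have huN : u ∈ N := by
    rw [hNd, Subgroup.mem_normalizer_iff]
    intro c
    refine ⟨fun hc => (hinv c hc).symm ▸ (Cz x).inv_mem hc, fun hc => ?_⟩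
    have e1 := hinv _ hc
    rw [show u * (u * c * u⁻¹) * u⁻¹ = (u * u) * c * (u * u)⁻¹ by group, hu2] at e1
    simp only [one_mul, inv_one, mul_one] at e1
    rw [e1]
    exact (Cz x).inv_mem hc
  have hdisj : Cz x ⊓ E = ⊥ := by
    rw [eq_bot_iff]
    rintro c ⟨hc, -, hcu⟩
    exact Subgroup.mem_bot.2 (hfixC c hc (mem_Cz.1 hcu).symm)
  have hdec : ∀ n ∈ N, ∃ b ∈ Cz x, ∃ e ∈ E, n = b * e := by
    intro n hn
    have hw : ∀ c ∈ Cz x, (n * u * n⁻¹) * c * (n * u * n⁻¹)⁻¹ = c⁻¹ := by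
      intro c hc
      have hc' : n⁻¹ * c * n ∈ Cz x := by
        have := (Subgroup.mem_normalizer_iff.1 (N.inv_mem hn) c).1 hc
        rwa [inv_inv] at this
      rw [show n * u * n⁻¹ * c * (n * u * n⁻¹)⁻¹ = n * (u * (n⁻¹ * c * n) * u⁻¹) * n⁻¹ by group,
        hinv _ hc']
      group
    set c := n * u * n⁻¹ * u⁻¹ with hcd
    have hc : c ∈ Cz x := by
      rw [mem_Cz', hcd, show n * u * n⁻¹ * u⁻¹ * x * (n * u * n⁻¹ * u⁻¹)⁻¹ =
        (n * u * n⁻¹) * (u⁻¹ * x * u) * (n * u * n⁻¹)⁻¹ by group]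
      rw [inv_eq_self hu2]
      nth_rewrite 3 [← inv_eq_self hu2]
      rw [hux, show n * u * n⁻¹ * x⁻¹ * (n * u * n⁻¹)⁻¹ = (n * u * n⁻¹ * x * (n * u * n⁻¹)⁻¹)⁻¹ by group,
        hw x (self_mem_Cz x), inv_inv]
    obtain ⟨m, hm⟩ := h.out_odd hx
    set b := c ^ (m + 1) with hbd
    have hb : b ∈ Cz x := (Cz x).pow_mem hc _
    have hbb : b * b = c := by
      rw [hbd, ← pow_add, show m + 1 + (m + 1) = (2 * m + 1) + 1 by ring, pow_succ, ← hm,
        show c ^ Nat.card (Cz x) = 1 from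
          congrArg Subtype.val (pow_card_eq_one' (x := (⟨c, hc⟩ : Cz x))), one_mul]
    refine ⟨b, hb, b⁻¹ * n, ⟨N.mul_mem (N.inv_mem (Subgroup.le_normalizer hb)) hn, ?_⟩,
      (mul_inv_cancel_left b n).symm⟩
    show b⁻¹ * n ∈ Cz u
    rw [mem_Cz', show b⁻¹ * n * u * (b⁻¹ * n)⁻¹ = b⁻¹ * (n * u * n⁻¹ * u⁻¹) * u * b by group,
      ← hcd, ← hbb, show b⁻¹ * (b * b) * u * b = b * (u * b * u⁻¹) * u by group, hinv b hb,
      mul_inv_cancel, one_mul]
  have hEK : ∀ e ∈ E, g * e * g⁻¹ ∈ K := by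
    rintro e ⟨heN, heu⟩
    have he' : g * e * g⁻¹ ∈ Cz t := hg ▸ (conj_mem_Cz g).2 heu
    by_contra hK
    have he2 : orderOf e = 2 := by
      rw [← (h.not_K he' hK).1]
      exact ((MulAut.conj g).orderOf_eq e).symm
    have hev := inverts_of_fpf (Cz x) (order_two_iff.1 he2).1
      (fun c hc => (Subgroup.mem_normalizer_iff.1 heN c).1 hc)
      fun c hc e1 => h.out_commutes_invol hx hc he2 e1
    have hc : e * u ∈ Cz x := by
      rw [mem_Cz', show e * u * x * (e * u)⁻¹ = e * (u * x * u⁻¹) * e⁻¹ by group, hux,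
        hev _ ((Cz x).inv_mem (self_mem_Cz x)), inv_inv]
    have : e * u = 1 := hfixC _ hc (by
      rw [← mul_assoc, ← mem_Cz.1 heu])
    have heu' : e = u := by rw [eq_inv_of_mul_eq_one_left this, inv_eq_self hu2]
    exact hK (by rw [heu', hg]; exact h.tK)
  have hsup : N = Cz x ⊔ E := by
    refine le_antisymm (fun n hn => ?_) (sup_le Subgroup.le_normalizer inf_le_left)
    obtain ⟨b, hb, e, he, rfl⟩ := hdec n hn
    exact Subgroup.mul_mem_sup hb he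
  have hcard : Nat.card N = Nat.card (Cz x) * Nat.card E := by
    rw [← Nat.card_prod]
    refine (Nat.card_congr (Equiv.ofBijective (fun p : Cz x × E =>
      (⟨(p.1 : G) * p.2, N.mul_mem (Subgroup.le_normalizer p.1.2) p.2.2.1⟩ : N)) ⟨?_, ?_⟩)).symm
    · rintro ⟨a, b⟩ ⟨a', b'⟩ e
      have e' : (a : G) * b = a' * b' := congrArg Subtype.val e
      have : ((a' : G))⁻¹ * a ∈ Cz x ⊓ E := by
        refine ⟨(Cz x).mul_mem ((Cz x).inv_mem a'.2) a.2, ?_⟩
        rw [show ((a' : G))⁻¹ * a = b' * ((b : G))⁻¹ by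
          rw [inv_mul_eq_iff_eq_mul, ← mul_assoc, ← e', mul_inv_cancel_right]]
        exact E.mul_mem b'.2 (E.inv_mem b.2)
      rw [hdisj, Subgroup.mem_bot, inv_mul_eq_one] at this
      obtain rfl : a = a' := Subtype.ext this.symm
      exact Prod.ext rfl (Subtype.ext (mul_left_cancel e'))
    · rintro ⟨n, hn⟩
      obtain ⟨b, hb, e, he, rfl⟩ := hdec n hn
      exact ⟨(⟨b, hb⟩, ⟨e, he⟩), rfl⟩
  have huE : u ∈ E := ⟨huN, self_mem_Cz u⟩
  refine ⟨E, u, g, hu, huE, hEK, hinv, hsup, hdisj, hcard, ?_, ?_, ?_⟩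
  · rw [← show Nat.card (E.map (MulAut.conj g).toMonoidHom) = Nat.card E from
      Subgroup.card_map_of_injective (MulAut.conj g).injective]
    refine Subgroup.card_dvd_of_le ?_
    rintro y ⟨e, he, rfl⟩
    exact hEK e he
  · exact hu ▸ Subgroup.orderOf_dvd_natCard E huE
  · refine FrobeniusStruct.card_dvd_sub_one inf_le_left fun e he he1 => ?_
    rw [eq_bot_iff]
    rintro y ⟨hy, hye⟩
    rw [Subgroup.mem_bot]
    by_contra hy1
    have he' : e ∈ Cz y := mem_Cz_symm.1 hye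
    rw [(h.rev_Cz_eq hx hr' hy hy1).2.2] at he'
    exact he1 (Subgroup.mem_bot.1 (hdisj ▸ ⟨he', he⟩ : e ∈ (⊥ : Subgroup G)))

theorem count_rev {x : G} (hx : Out K x) (hr : Rev x) :
    Nat.card (conjSet {a | a ∈ Cz x ∧ a ≠ 1}) * Nat.card (Subgroup.normalizer (Cz x : Set G)) =
      Nat.card G * (Nat.card (Cz x) - 1) := by
  have hA : Nat.card {a : G | a ∈ Cz x ∧ a ≠ 1} = Nat.card (Cz x) - 1 := by
    rw [Nat.card_coe_set_eq, show {a : G | a ∈ Cz x ∧ a ≠ 1} = (Cz x : Set G) \ {1} from rfl,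
      Set.ncard_sdiff_singleton_of_mem (Cz x).one_mem, ← Nat.card_coe_set_eq]
    rfl
  rw [← hA]
  refine card_conjSet _ _ (fun m hm a ha => ⟨(Subgroup.mem_normalizer_iff.1 hm a).1 ha.1,
    fun e => ha.2 (conj_eq_one_iff.1 e)⟩) fun g a ha hga => ?_
  have e1 := (h.rev_Cz_eq hx hr hga.1 hga.2).2.2
  rw [← Cz_map, (h.rev_Cz_eq hx hr ha.1 ha.2).2.2] at e1
  rw [Subgroup.mem_normalizer_iff_map_conj_eq]
  exact e1

/-- The elements conjugate into `K`. -/
theorem count_K : Nat.card {y : G // InK K y ∧ y ≠ 1} =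
    (Nat.card K - 1) * Nat.card {x : G // orderOf x = 2} := by
  have hA : Nat.card {a : G | a ∈ K ∧ a ≠ 1} = Nat.card K - 1 := by
    rw [Nat.card_coe_set_eq, show {a : G | a ∈ K ∧ a ≠ 1} = (K : Set G) \ {1} from rfl,
      Set.ncard_sdiff_singleton_of_mem K.one_mem, ← Nat.card_coe_set_eq]
    rfl
  have hc := card_conjSet {a : G | a ∈ K ∧ a ≠ 1} (Cz t)
    (fun m hm a ha => ⟨h.conj_mem_K hm ha.1, fun e => ha.2 (conj_eq_one_iff.1 e)⟩)
    (fun g a ha hga => h.ti ha.1 ha.2 hga.1)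
  have heq : conjSet {a : G | a ∈ K ∧ a ≠ 1} = {y : G | InK K y ∧ y ≠ 1} := by
    ext y
    constructor
    · rintro ⟨g, a, ⟨ha, ha1⟩, rfl⟩
      exact ⟨⟨g⁻¹, by simpa [mul_assoc] using ha⟩, fun e => ha1 (conj_eq_one_iff.1 e)⟩
    · rintro ⟨⟨g, hg⟩, hy⟩
      exact ⟨g⁻¹, g * y * g⁻¹, ⟨hg, fun e => hy (conj_eq_one_iff.1 e)⟩, by group⟩
  rw [heq, hA, h.card_H, ← h.card_invol] at hc
  refine Nat.eq_of_mul_eq_mul_right (show 0 < 2 * Nat.card K by
    have := Nat.card_pos (α := K); omega) ?_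
  simp only [Set.coe_ofPred] at hc
  rw [hc]; ring

theorem count_out : Nat.card {y : G // Out K y} +
    (Nat.card K - 1) * Nat.card {x : G // orderOf x = 2} + 1 = Nat.card G := by
  rw [← h.count_K]
  have h1 := Set.ncard_add_ncard_compl {y : G | InK K y ∧ y ≠ 1}
  have h2 : ({y : G | InK K y ∧ y ≠ 1}ᶜ : Set G) = insert 1 {y : G | Out K y} := by
    ext y
    simp only [Out, Set.mem_compl_iff, Set.mem_ofPred_eq, Set.mem_insert_iff]
    tauto
  rw [h2, Set.ncard_insert_of_notMem (fun hh => hh.1 rfl), ← Nat.card_coe_set_eq,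
    ← Nat.card_coe_set_eq] at h1
  simp only [Set.coe_ofPred] at h1
  omega

end Hyp

end Cfsg.Agent.BSW
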