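import Cfsg.Agent.Lib.BSW.DataMain

/-!
The case `q = 2k + 1`.
-/

set_option autoImplicit false
set_option linter.unusedSectionVars false
set_option linter.style.haveILetI false

namespace Cfsg.Agent.BSW

open scoped Classical

universe u

variable {G : Type u} [Group G] [Fintype G] {t : G} {K : Subgroup G} {s : G}

theorem Rev.of_pairs (h : Hyp t K s) {x : G} (hx : Out K x) (h0 : Nat.card (Pairs t x) ≠ 0) :
    Rev x := by_contra fun hr => h0 (h.pairs_not_rev hx hr)

theorem two_le_card_Cz {x : G} (hx : x ≠ 1) : 2 ≤ Nat.card (Cz x) :=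
  Finite.one_lt_card_iff_nontrivial.2
    ⟨⟨x, self_mem_Cz x⟩, 1, fun e => hx (congrArg Subtype.val e)⟩

theorem mem_normalizer_Cz_conj {x g m : G} :
    m ∈ Subgroup.normalizer (Cz (g * x * g⁻¹) : Set G) ↔
      g⁻¹ * m * g ∈ Subgroup.normalizer (Cz x : Set G) := by
  simp only [Subgroup.mem_normalizer_iff]
  have e : ∀ c, g * c * g⁻¹ ∈ Cz (g * x * g⁻¹) ↔ c ∈ Cz x := fun c => conj_mem_Cz g
  constructor
  · intro hm c
    rw [← e c, hm (g * c * g⁻¹), ← e (g⁻¹ * m * g * c * (g⁻¹ * m * g)⁻¹)]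
    rw [show g * (g⁻¹ * m * g * c * (g⁻¹ * m * g)⁻¹) * g⁻¹ = m * (g * c * g⁻¹) * m⁻¹ by group]
  · intro hm c
    have h1 := hm (g⁻¹ * c * g)
    rw [← e (g⁻¹ * c * g), ← e (g⁻¹ * m * g * (g⁻¹ * c * g) * (g⁻¹ * m * g)⁻¹)] at h1
    rw [show g * (g⁻¹ * c * g) * g⁻¹ = c by group,
      show g * (g⁻¹ * m * g * (g⁻¹ * c * g) * (g⁻¹ * m * g)⁻¹) * g⁻¹ = m * c * m⁻¹ by group] at h1
    exact h1

theorem card_normalizer_Cz_conj (x g : G) :
    Nat.card (Subgroup.normalizer (Cz (g * x * g⁻¹) : Set G)) =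
      Nat.card (Subgroup.normalizer (Cz x : Set G)) :=
  Nat.card_congr ((MulAut.conj g⁻¹).toEquiv.subtypeEquiv fun m => by
    rw [mem_normalizer_Cz_conj]
    simp only [MulEquiv.toEquiv_eq_coe, MulEquiv.coe_toEquiv, MulAut.conj_apply, inv_inv])

theorem goal_of_K (h : Hyp t K s) (Q : Subgroup G) (hQ : Nat.card Q = 2 * Nat.card K + 1)
    (hC : ∀ x ∈ Q, x ≠ 1 → Cz x = Q) (hKN : K ≤ Subgroup.normalizer (Q : Set G))
    (hN : Nat.card (Subgroup.normalizer (Q : Set G)) = Nat.card Q * Nat.card K)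
    (hG : Nat.card G = Nat.card K * (2 * Nat.card K + 1) * (2 * Nat.card K + 2)) : Goal (G := G) := by
  have hdisj : Q ⊓ K = ⊥ := by
    rw [eq_bot_iff]
    rintro x ⟨hxQ, hxK⟩
    rw [Subgroup.mem_bot]
    by_contra hx
    have htQ : t ∈ Q := hC x hxQ hx ▸ mem_Cz.2 (h.t_comm hxK).symm
    have := Subgroup.orderOf_dvd_natCard Q htQ
    rw [h.ht, hQ] at this
    omega
  have hcop : Nat.Coprime (Nat.card Q) (Nat.card K) := by
    rw [hQ]
    refine Nat.coprime_of_dvd' fun p _ h1 h2 => ?_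
    exact (Nat.dvd_add_right (Dvd.dvd.mul_left h2 2)).1 h1
  have hsup : Subgroup.normalizer (Q : Set G) = Q ⊔ K := by
    refine (Subgroup.eq_of_le_of_card_ge (sup_le Subgroup.le_normalizer hKN) ?_).symm
    rw [hN]
    exact Nat.le_of_dvd Nat.card_pos (hcop.mul_dvd_of_dvd_of_dvd
      (Subgroup.card_dvd_of_le le_sup_left) (Subgroup.card_dvd_of_le le_sup_right))
  have hK1 : K ≠ ⊥ := fun e => h.t_ne (Subgroup.mem_bot.1 (e ▸ h.tK))
  refine ⟨Q, K, ?_, hC, ⟨⟨fun a b => Subtype.ext (h.comm a a.2 b b.2)⟩⟩, hQ.symm, hdisj, hsup,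
    fun X hX hX1 => ?_⟩
  · rw [hG, hQ, Nat.add_sub_cancel]; ring
  · exact ⟨(h.normalizer_eq hX hX1).trans (h.normalizer_eq le_rfl hK1).symm, s, h.hs, h.sK, h.inv,
      (h.normalizer_eq le_rfl hK1).trans h.H_eq.symm⟩

theorem goal_plus (h : Hyp t K s) (hk : 4 ≤ Nat.card K) {q : ℤ} {a : G → ℤ}
    (D : Data t K q a) (hq : q = 1 + 2 * (Nat.card K : ℤ)) : Goal (G := G) := by
  set k := Nat.card K with hkd
  set n := Nat.card {x : G // orderOf x = 2} with hnd
  have hGn : (Nat.card G : ℤ) = (n : ℤ) * (2 * (k : ℤ)) := by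
    rw [← h.card_invol, ← hkd, ← hnd]; push_cast; ring
  have hG : Nat.card G = k * (2 * k + 1) * (2 * k + 2) := by
    have := D.card; rw [hq, ← hkd] at this
    exact_mod_cast (show (Nat.card G : ℤ) = (k : ℤ) * (2 * k + 1) * (2 * k + 2) by rw [this]; ring)
  have hn : (n : ℤ) = (2 * k + 1) * (k + 1) := by
    have hk0 : (2 * (k : ℤ)) ≠ 0 := by omega
    refine mul_right_cancel₀ hk0 ?_
    rw [← hGn, hG]; push_cast; ring
  have hk0 : (k : ℤ) ≠ 0 := by omega
  have hphi : ∀ x, Out K x → (Nat.card (Pairs t x) : ℤ) = q - (k : ℤ) * a x := by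
    intro x hx
    have := D.pairs x hx
    rw [hq, ← hkd] at this
    refine mul_left_cancel₀ (mul_ne_zero four_ne_zero hk0) ?_
    rw [hq]; linear_combination this
  have hrev : ∀ x, Out K x → Rev x := by
    intro x hx
    refine Rev.of_pairs h hx fun e => ?_
    have e1 := hphi x hx
    rw [e, hq, Nat.cast_zero] at e1
    have : (k : ℤ) ∣ 1 := ⟨a x - 2, by linear_combination e1.symm⟩
    have := Int.le_of_dvd one_pos this
    omega
  have hcard : ∀ x, Out K x → (Nat.card (Cz x) : ℤ) = q - (k : ℤ) * a x := fun x hx => by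
    rw [← hphi x hx, h.pairs_rev hx (hrev x hx)]
  have ha : ∀ x, Out K x → a x = 0 ∨ a x = 1 := by
    intro x hx
    have e1 := hcard x hx
    have h2 : (2 : ℤ) ≤ (Nat.card (Cz x) : ℤ) := by exact_mod_cast two_le_card_Cz hx.1
    have hn1 := D.norm x hx
    rw [← hkd, e1, hq] at hn1
    rw [hq] at e1
    rcases lt_trichotomy (a x) (-1) with hlt | heq | hgt
    · exfalso
      have hb : 4 ≤ a x * a x := by nlinarith
      nlinarith [mul_le_mul_of_nonneg_left (show (1 : ℤ) ≤ a x * a x - 3 by omega)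
        (show (0 : ℤ) ≤ (k : ℤ) by omega), sq_nonneg (a x + 1)]
    · exfalso
      rw [heq] at e1
      have hc : Nat.card (Cz x) = 3 * k + 1 := by
        exact_mod_cast (show (Nat.card (Cz x) : ℤ) = 3 * (k : ℤ) + 1 by rw [e1]; ring)
      have hd := Subgroup.card_subgroup_dvd_card (Cz x)
      rw [hc, hG, mul_assoc] at hd
      have hcop : Nat.Coprime (3 * k + 1) k := by
        refine Nat.coprime_of_dvd' fun p _ h1 h2 => ?_
        exact (Nat.dvd_add_right (Dvd.dvd.mul_left h2 3)).1 h1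
      obtain ⟨w, hw⟩ := hcop.dvd_of_dvd_mul_left hd
      have h4 : ((3 * k + 1 : ℕ) : ℤ) ∣ 4 := by
        refine ⟨9 * (w : ℤ) - (12 * (k : ℤ) + 14), ?_⟩
        have hwz : ((2 * k + 1) * (2 * k + 2) : ℤ) = (3 * k + 1) * w := by exact_mod_cast hw
        push_cast
        linear_combination 9 * hwz
      have := Int.le_of_dvd (by norm_num) h4
      omega
    · by_contra hne
      push Not at hne
      have : 2 ≤ a x := by omega
      nlinarith [mul_le_mul_of_nonneg_left this (show (0 : ℤ) ≤ (k : ℤ) by omega)]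
  set O := Finset.univ.filter (fun x => Out K x) with hO
  set Z := O.filter (fun x => a x = 0) with hZ
  have hOm : ∀ x ∈ O, Out K x := fun x hx => (Finset.mem_filter.1 hx).2
  have hsum : (∑ x ∈ O, a x) + (Z.card : ℤ) = (O.card : ℤ) := by
    rw [hZ, Finset.card_filter, Nat.cast_sum, ← Finset.sum_add_distrib,
      Finset.card_eq_sum_ones O, Nat.cast_sum]
    refine Finset.sum_congr rfl fun x hx => ?_
    rcases ha x (hOm x hx) with e | e <;> simp [e]
  have hOc : (O.card : ℤ) + ((k : ℤ) - 1) * n + 1 = (Nat.card G : ℤ) := by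
    have e : O.card = Nat.card {y : G // Out K y} := by
      rw [hO, ← Fintype.card_subtype, ← Nat.card_eq_fintype_card]
    rw [← h.count_out, ← e, ← hnd, ← hkd]
    push_cast [Nat.cast_sub (show 1 ≤ k by omega)]
    ring
  have hZc : (Z.card : ℤ) = q * q - 1 := by
    have e := D.total
    rw [← hnd, ← hkd] at e
    rw [hO] at hsum hOc
    rw [e] at hsum
    rw [hGn] at hOc
    have hn' := hn
    rw [hq] at hsum ⊢
    linear_combination hsum + hOc + 2 * hn'
  obtain ⟨x, hxZ⟩ : Z.Nonempty := by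
    rw [← Finset.card_pos]
    have : (0 : ℤ) < q * q - 1 := by rw [hq]; nlinarith
    omega
  obtain ⟨hxO, hax⟩ := Finset.mem_filter.1 hxZ
  have hx := hOm x hxO
  have hxc : Nat.card (Cz x) = 2 * k + 1 := by
    have := hcard x hx
    rw [hax, hq] at this
    omega
  obtain ⟨E, u, g, -, -, hEK, -, hNsup, -, hNc, hEd, -, -⟩ := h.rev_normalizer hx (hrev x hx)
  have hcount := h.count_rev hx (hrev x hx)
  have hle : Nat.card (conjSet {b | b ∈ Cz x ∧ b ≠ 1}) ≤ Z.card := by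
    rw [Nat.card_coe_set_eq, ← Set.ncard_coe_finset]
    refine Set.ncard_le_ncard ?_
    rintro y ⟨m, b, ⟨hb, hb1⟩, rfl⟩
    obtain ⟨hbo, hbr, hbC⟩ := h.rev_Cz_eq hx (hrev x hx) hb hb1
    have hyo := hbo.conj m
    refine Finset.mem_filter.2 ⟨Finset.mem_filter.2 ⟨Finset.mem_univ _, hyo⟩, ?_⟩
    have e1 := hcard _ hyo
    rw [card_Cz_conj, hbC, hxc, hq] at e1
    push_cast at e1
    refine (mul_eq_zero.1 (?_ : (k : ℤ) * a (m * b * m⁻¹) = 0)).resolve_left hk0
    linarith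
  have hEle : Nat.card E ≤ k := Nat.le_of_dvd (by omega) hEd
  have hEk : Nat.card E = k := by
    rw [hNc, hxc, hG, show 2 * k + 1 - 1 = 2 * k by omega] at hcount
    by_contra hne
    have hlt : Nat.card E < k := lt_of_le_of_ne hEle hne
    have hZ' : Z.card = 2 * k * (2 * k + 2) := by
      have : (Z.card : ℤ) = ((2 * k * (2 * k + 2) : ℕ) : ℤ) := by rw [hZc, hq]; push_cast; ring
      exact_mod_cast this
    have h2 : 0 < k * (2 * k + 1) * (2 * k + 2) * (2 * k) :=
      Nat.mul_pos (Nat.mul_pos (Nat.mul_pos (by omega) (by omega)) (by omega)) (by omega)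
    have h3 : Nat.card (conjSet {b | b ∈ Cz x ∧ b ≠ 1}) * ((2 * k + 1) * Nat.card E) ≤
        (2 * k * (2 * k + 2)) * ((2 * k + 1) * Nat.card E) :=
      Nat.mul_le_mul_right _ (hZ' ▸ hle)
    rw [hcount] at h3
    have h4 : (2 * k * (2 * k + 2)) * ((2 * k + 1) * Nat.card E) <
        (2 * k * (2 * k + 2)) * ((2 * k + 1) * k) := by
      apply Nat.mul_lt_mul_of_pos_left (Nat.mul_lt_mul_of_pos_left hlt (by omega))
      exact Nat.mul_pos (by omega) (by omega)
    linarith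
  have hEmap : E.map (MulAut.conj g).toMonoidHom = K := by
    refine Subgroup.eq_of_le_of_card_ge ?_ ?_
    · rintro y ⟨e, he, rfl⟩
      exact hEK e he
    · rw [Subgroup.card_map_of_injective (MulAut.conj g).injective, hEk]
  have hyr := (hrev x hx).conj g
  have hyo := hx.conj g
  refine goal_of_K h (Cz (g * x * g⁻¹)) (by rw [card_Cz_conj, hxc]) (fun z hz hz1 =>
    (h.rev_Cz_eq hyo hyr hz hz1).2.2) (fun e he => ?_) ?_ hG
  · rw [← hEmap] at he
    obtain ⟨e0, he0, rfl⟩ := he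
    rw [mem_normalizer_Cz_conj]
    rw [show g⁻¹ * (MulAut.conj g).toMonoidHom e0 * g = e0 by simp [mul_assoc], hNsup]
    exact Subgroup.mem_sup_right he0
  · rw [card_normalizer_Cz_conj, hNc, hEk, card_Cz_conj]

end Cfsg.Agent.BSW
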