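import Cfsg.Agent.Lib.BSW.Signed

/-!
The shape of the exceptional virtual characters.
-/

set_option autoImplicit false
set_option linter.unusedSectionVars false
set_option linter.style.haveILetI false

namespace Cfsg.Agent.BSW

open Cfsg Cfsg.Agent.Char
open scoped ComplexConjugate Classical

universe u

variable {G : Type u} [Group G] [Fintype G] {t : G} {K : Subgroup G} {s : G}

noncomputable local instance (K : Subgroup G) : Fintype K := Fintype.ofFinite _

/-- The shape of the decompositions. -/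
structure Shape (t : G) (σ : ↥K →* ℂˣ) (A : G → ℂ) (B : (↥K →* ℂˣ) → G → ℂ)
    (C C' : G → ℂ) : Prop where
  sgnA : Sgn A
  sgnB : ∀ l : ↥K →* ℂˣ, l ≠ 1 → l ≠ σ → Sgn (B l)
  sgnC : Sgn C
  sgnC' : Sgn C'
  eqV : ∀ l : ↥K →* ℂˣ, l ≠ 1 → l ≠ σ → (Vl l : G → ℂ) = A + B l
  eqS : (Vl σ : G → ℂ) = A + C + C'
  Binv : ∀ l : ↥K →* ℂˣ, B l⁻¹ = B l
  A_B : ∀ l : ↥K →* ℂˣ, l ≠ 1 → l ≠ σ → Cfsg.classInner A (B l) = 0
  A_C : Cfsg.classInner A C = 0
  A_C' : Cfsg.classInner A C' = 0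
  C_C' : Cfsg.classInner C C' = 0
  B_C : ∀ l : ↥K →* ℂˣ, l ≠ 1 → l ≠ σ →
    Cfsg.classInner (B l) C = 0 ∧ Cfsg.classInner (B l) C' = 0
  B_B : ∀ l m : ↥K →* ℂˣ, l ≠ 1 → l ≠ σ → m ≠ 1 → m ≠ σ → m ≠ l → m ≠ l⁻¹ →
    Cfsg.classInner (B l) (B m) = 0
  A_1 : Cfsg.classInner A (fun _ => 1) = 0
  B_1 : ∀ l : ↥K →* ℂˣ, l ≠ 1 → l ≠ σ → Cfsg.classInner (B l) (fun _ => 1) = 0
  C_1 : Cfsg.classInner C (fun _ => 1) = 0
  C'_1 : Cfsg.classInner C' (fun _ => 1) = 0

namespace Hyp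

variable (h : Hyp t K s)
include h

theorem exists_sigma :
    ∃ σ : ↥K →* ℂˣ, σ ≠ 1 ∧ σ⁻¹ = σ ∧ ∀ l : ↥K →* ℂˣ, l⁻¹ = l → l = 1 ∨ l = σ := by
  obtain ⟨e⟩ := dual_equiv h.comm
  refine ⟨e.symm ⟨t, h.tK⟩, fun e1 => ?_, e.injective ?_, fun l hl => ?_⟩
  · have := congrArg e e1
    rw [e.apply_symm_apply, map_one] at this
    exact h.t_ne (congrArg Subtype.val this)
  · have h1 : e (e.symm ⟨t, h.tK⟩ * e.symm ⟨t, h.tK⟩) = 1 := by
      rw [map_mul, e.apply_symm_apply]; exact Subtype.ext h.tt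
    have h2 : e.symm ⟨t, h.tK⟩ * e.symm ⟨t, h.tK⟩ = 1 := e.injective (h1.trans (map_one e).symm)
    refine congrArg e (MonoidHom.ext fun x => ?_)
    have := DFunLike.congr_fun h2 x
    rw [MonoidHom.mul_apply, MonoidHom.one_apply] at this
    exact inv_eq_of_mul_eq_one_left this
  · have h2 : l * l = 1 := MonoidHom.ext fun x => by
      have := DFunLike.congr_fun hl x
      rw [MonoidHom.inv_apply] at this
      rw [MonoidHom.mul_apply, MonoidHom.one_apply]
      nth_rewrite 1 [← this]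
      exact inv_mul_cancel _
    have h3 : e l * e l = 1 := by rw [← map_mul, h2, map_one]
    rcases h.invol_K (e l).2 (congrArg Subtype.val h3) with e1 | e1
    · exact Or.inl (e.injective ((show e l = 1 from Subtype.ext e1).trans (map_one e).symm))
    · exact Or.inr (e.injective (by rw [e.apply_symm_apply]; exact Subtype.ext e1))

theorem exists_nonreal (σ : ↥K →* ℂˣ) (hk : 4 ≤ Nat.card K) :
    ∃ l : ↥K →* ℂˣ, l ≠ 1 ∧ l ≠ σ := by
  haveI := finite_dual h.comm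
  haveI := Fintype.ofFinite (↥K →* ℂˣ)
  have hc : 2 < (Finset.univ : Finset (↥K →* ℂˣ)).card := by
    rw [Finset.card_univ, card_dual h.comm]; omega
  have hlt : ({1, σ} : Finset (↥K →* ℂˣ)).card < (Finset.univ : Finset (↥K →* ℂˣ)).card :=
    lt_of_le_of_lt ((Finset.card_insert_le _ _).trans (by simp)) hc
  obtain ⟨l, -, hl⟩ := Finset.exists_mem_notMem_of_card_lt_card hlt
  exact ⟨l, fun e => hl (by simp [e]), fun e => hl (by simp [e])⟩

theorem Vl_one (l : ↥K →* ℂˣ) : (Vl l : G → ℂ) 1 = 1 := by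
  rw [Vl, Pi.add_apply, Fl_one, zero_add]

theorem Vl_perp (l : ↥K →* ℂˣ) (hl : l ≠ 1) :
    Cfsg.classInner (Vl l : G → ℂ) (fun _ => 1) = 0 := by
  rw [Vl, classInner_add_left, Fl_one' l hl, classInner_self_irr isIrrCharacter_one]
  ring

variable {σ : ↥K →* ℂˣ} (hσ : ∀ l : ↥K →* ℂˣ, l⁻¹ = l → l = 1 ∨ l = σ) (hσi : σ⁻¹ = σ)
include hσ hσi

omit h in
theorem nonreal_inv {l : ↥K →* ℂˣ} (hl : l ≠ 1) (hls : l ≠ σ) :
    l⁻¹ ≠ l ∧ l⁻¹ ≠ 1 ∧ l⁻¹ ≠ σ :=
  ⟨fun e => (hσ l e).elim hl hls, dual_inv_ne_one hl,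
    fun e => hls (by rw [← dual_inv_inv l, e, hσi])⟩

theorem decomp_two (l : ↥K →* ℂˣ) (hl : l ≠ 1) (hls : l ≠ σ) :
    ∃ f g, Sgn f ∧ Sgn g ∧ Cfsg.classInner f g = 0 ∧ (Vl l : G → ℂ) = f + g := by
  refine norm_two (Vl_gen l) ?_
  rw [h.inner_Vl l l hl hl, if_pos rfl, if_neg (Ne.symm (nonreal_inv hσ hσi hl hls).1)]
  norm_num

theorem decomp_three (hσ1 : σ ≠ 1) :
    ∃ f g g', Sgn f ∧ Sgn g ∧ Sgn g' ∧ Cfsg.classInner f g = 0 ∧ Cfsg.classInner f g' = 0 ∧
      Cfsg.classInner g g' = 0 ∧ (Vl σ : G → ℂ) = f + g + g' := by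
  refine norm_three (Vl_gen σ) ?_
  rw [h.inner_Vl σ σ hσ1 hσ1, if_pos rfl, if_pos hσi.symm]
  norm_num

theorem inner_one {l m : ↥K →* ℂˣ} (hl : l ≠ 1) (hm : m ≠ 1) (h1 : m ≠ l) (h2 : m ≠ l⁻¹) :
    Cfsg.classInner (Vl l : G → ℂ) (Vl m) = 1 := by
  rw [h.inner_Vl l m hl hm, if_neg (Ne.symm h1), if_neg]
  · norm_num
  · intro e
    exact h2 (by rw [e, dual_inv_inv])

/-- A signed character contained in all the virtual characters. -/
theorem shape_of_center (hσ1 : σ ≠ 1) {A : G → ℂ} (hA : Sgn A)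
    (hN : ∀ l : ↥K →* ℂˣ, l ≠ 1 → l ≠ σ → Cfsg.classInner (Vl l : G → ℂ) A = 1)
    (hS : Cfsg.classInner (Vl σ : G → ℂ) A = 1) {l0 : ↥K →* ℂˣ} (hl0 : l0 ≠ 1) (hl0s : l0 ≠ σ) :
    ∃ (B : (↥K →* ℂˣ) → G → ℂ) (C C' : G → ℂ), Shape t σ A B C C' := by
  set B : (↥K →* ℂˣ) → G → ℂ := fun l => Vl l - A with hB
  have hBp : ∀ l : ↥K →* ℂˣ, l ≠ 1 → l ≠ σ → Sgn (B l) ∧ Cfsg.classInner A (B l) = 0 := by
    intro l hl hls
    obtain ⟨f, g, hf, hg, hfg, e⟩ := h.decomp_two hσ hσi l hl hls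
    have h1 := hN l hl hls
    rw [e] at h1
    rcases inner_two hf hg hA hfg with ⟨-, rfl | rfl⟩ | h2 | ⟨h2, -⟩
    · rw [show B l = g by simp [hB, e]]
      exact ⟨hg, hfg⟩
    · rw [show B l = f by simp [hB, e]]
      exact ⟨hf, Sgn.inner_symm hfg⟩
    · rw [h1] at h2; norm_num at h2
    · rw [h1] at h2; norm_num at h2
  obtain ⟨C, C', hC, hC', hAC, hAC', hCC', eS⟩ : ∃ C C', Sgn C ∧ Sgn C' ∧
      Cfsg.classInner A C = 0 ∧ Cfsg.classInner A C' = 0 ∧ Cfsg.classInner C C' = 0 ∧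
      (Vl σ : G → ℂ) = A + C + C' := by
    obtain ⟨f, g, g', hf, hg, hg', h1, h2, h3, e⟩ := h.decomp_three hσ hσi hσ1
    rw [e] at hS
    rcases inner_three hf hg hg' hA h1 h2 h3 with ⟨-, rfl | rfl | rfl⟩ | h4 | h4
    · exact ⟨g, g', hg, hg', h1, h2, h3, e⟩
    · exact ⟨f, g', hf, hg', Sgn.inner_symm h1, h3, h2, by rw [e]; abel⟩
    · exact ⟨f, g, hf, hg, Sgn.inner_symm h2, Sgn.inner_symm h3, h1, by rw [e]; abel⟩
    · rw [hS] at h4; norm_num at h4
    · rw [hS] at h4; norm_num at h4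
  have eV : ∀ l : ↥K →* ℂˣ, (Vl l : G → ℂ) = A + B l := fun l => by simp [hB]
  have p1 : ∀ l : ↥K →* ℂˣ, l ≠ 1 → l ≠ σ →
      Cfsg.classInner A (fun _ => 1) = 0 ∧ Cfsg.classInner (B l) (fun _ => 1) = 0 := by
    intro l hl hls
    refine orth_one hA (hBp l hl hls).1 (hBp l hl hls).2 ?_
    rw [← eV]
    exact h.Vl_perp l hl
  have hA1 := (p1 l0 hl0 hl0s).1
  have hC1 : Cfsg.classInner C (fun _ => 1) = 0 ∧ Cfsg.classInner C' (fun _ => 1) = 0 := by
    refine orth_one hC hC' hCC' ?_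
    have := h.Vl_perp σ hσ1
    rw [eS, add_assoc, classInner_add_left A (C + C'), hA1, zero_add] at this
    exact this
  refine ⟨B, C, C', ⟨hA, fun l a b => (hBp l a b).1, hC, hC', fun l _ _ => eV l, eS,
    fun l => by simp [hB, h.Vl_inv l], fun l a b => (hBp l a b).2, hAC, hAC', hCC', ?_, ?_, hA1,
    fun l a b => (p1 l a b).2, hC1.1, hC1.2⟩⟩
  · intro l hl hls
    have h1 := h.inner_one hσ hσi hσ1 hl hls (fun e => hls (by rw [e, hσi]))
    rw [eS, eV, classInner_add_left (A + C), classInner_add_left A, classInner_add_right A A,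
      classInner_add_right C A, classInner_add_right C' A, hA.self, (hBp l hl hls).2,
      Sgn.inner_symm hAC, Sgn.inner_symm hAC', add_zero, zero_add, zero_add, add_assoc] at h1
    have h2 : Cfsg.classInner (C + C') (B l) = 0 := by
      rw [classInner_add_left]; linear_combination h1
    obtain ⟨a, b⟩ := orth_of_sum hC hC' (hBp l hl hls).1 hCC' h2
    exact ⟨Sgn.inner_symm a, Sgn.inner_symm b⟩
  · intro l m hl hls hm hms h1 h2
    have e := h.inner_one hσ hσi hl hm h1 h2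
    rw [eV, eV, classInner_add_left, classInner_add_right A A, classInner_add_right (B l) A,
      hA.self, (hBp m hm hms).2, Sgn.inner_symm (hBp l hl hls).2] at e
    linear_combination e

/-- The configuration in which the common part of the nonreal ones is missing from the real one. -/
theorem no_missing (hσ1 : σ ≠ 1) {l0 l1 : ↥K →* ℂˣ} (hl0 : l0 ≠ 1) (hl0s : l0 ≠ σ)
    (hl1 : l1 ≠ 1) (hl1s : l1 ≠ σ) (hne : l1 ≠ l0) (hne' : l1 ≠ l0⁻¹) {A B0 B1 E : G → ℂ}
    (hA : Sgn A) (hB0 : Sgn B0) (hB1 : Sgn B1)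
    (hAB0 : Cfsg.classInner A B0 = 0) (hAB1 : Cfsg.classInner A B1 = 0)
    (hB01 : Cfsg.classInner B0 B1 = 0)
    (hA1 : Cfsg.classInner A (fun _ => 1) = 0) (hB01' : Cfsg.classInner B0 (fun _ => 1) = 0)
    (hB11' : Cfsg.classInner B1 (fun _ => 1) = 0)
    (e0 : (Vl l0 : G → ℂ) = A + B0) (e1 : (Vl l1 : G → ℂ) = A + B1)
    (hB0E : Cfsg.classInner B0 E = 0) (hB1E : Cfsg.classInner B1 E = 0)
    (hAE : Cfsg.classInner A E = 0)
    (eS : (Vl σ : G → ℂ) = B0 + B1 + E)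
    (hall : ∀ l : ↥K →* ℂˣ, l = 1 ∨ l = σ ∨ l = l0 ∨ l = l0⁻¹ ∨ l = l1 ∨ l = l1⁻¹) : False := by
  haveI := finite_dual h.comm
  haveI := Fintype.ofFinite (↥K →* ℂˣ)
  obtain ⟨hn0, hn0', hn0''⟩ := nonreal_inv hσ hσi hl0 hl0s
  obtain ⟨hn1, hn1', hn1''⟩ := nonreal_inv hσ hσi hl1 hl1s
  have d1 : l1⁻¹ ≠ l0 := fun e => hne' (by rw [← e, dual_inv_inv])
  have d2 : l1⁻¹ ≠ l0⁻¹ := fun e => hne (by rw [← dual_inv_inv l1, e, dual_inv_inv])
  have huniv : (Finset.univ : Finset (↥K →* ℂˣ)) = {1, σ, l0, l0⁻¹, l1, l1⁻¹} :=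
    Finset.ext fun l => by simpa using hall l
  have hsum : ∀ φ : (↥K →* ℂˣ) → ℂ, ∑ l, φ l =
      φ 1 + φ σ + φ l0 + φ l0⁻¹ + φ l1 + φ l1⁻¹ := by
    intro φ
    rw [huniv, Finset.sum_insert, Finset.sum_insert, Finset.sum_insert, Finset.sum_insert,
      Finset.sum_pair (Ne.symm hn1)]
    · ring
    all_goals
      simp only [Finset.mem_insert, Finset.mem_singleton, not_or]
    · exact ⟨Ne.symm hne', Ne.symm d2⟩
    · exact ⟨Ne.symm hn0, Ne.symm hne, Ne.symm d1⟩
    · exact ⟨Ne.symm hl0s, Ne.symm hn0'', Ne.symm hl1s, Ne.symm hn1''⟩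
    · exact ⟨Ne.symm hσ1, Ne.symm hl0, Ne.symm hn0', Ne.symm hl1, Ne.symm hn1'⟩
  -- values at `t`
  set τ : ↥K := ⟨t, h.tK⟩ with hτ
  have hτ1 : τ ≠ 1 := fun e => h.t_ne (congrArg Subtype.val e)
  have hsq : ∀ l : ↥K →* ℂˣ, (l τ : ℂ) = 1 ∨ (l τ : ℂ) = -1 := by
    intro l
    have : (l τ : ℂ) * (l τ : ℂ) = 1 := by
      rw [← Units.val_mul, ← map_mul, show τ * τ = 1 from Subtype.ext h.tt, map_one, Units.val_one]
    exact mul_self_eq_one_iff.1 this
  have hinv : ∀ l : ↥K →* ℂˣ, (l⁻¹ τ : ℂ) = (l τ : ℂ) := by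
    intro l
    rw [MonoidHom.inv_apply, ← map_inv, show τ⁻¹ = τ from Subtype.ext (inv_eq_self h.tt)]
  have hz := sum_dual (K := K) h.comm hτ1
  rw [hsum, hinv, hinv, MonoidHom.one_apply, Units.val_one] at hz
  have hFl : ∀ (f : G → ℂ) (l : ↥K →* ℂˣ), Cfsg.classInner f (fun _ => 1) = 0 →
      Cfsg.classInner f (Fl l) = Cfsg.classInner f (Vl l) := fun f l hf => by
    rw [Vl, classInner_add_right, hf, add_zero]
  have hval : ∀ f : G → ℂ, Sgn f → Cfsg.classInner f (fun _ => 1) = 0 →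
      f t = Cfsg.classInner f (Vl σ) * (σ τ : ℂ) +
        (Cfsg.classInner f (Vl l0) * (2 * (l0 τ : ℂ)) + Cfsg.classInner f (Vl l1) * (2 * (l1 τ : ℂ))) := by
    intro f hf hf1
    have e := h.val_K hf.gen τ hτ1
    rw [hsum, Fl_triv, classInner_zero_right, hinv, hinv, hFl f σ hf1, hFl f l0 hf1, hFl f l1 hf1,
      hFl f l0⁻¹ hf1, hFl f l1⁻¹ hf1, h.Vl_inv, h.Vl_inv] at e
    rw [show f t = f ((τ : ↥K) : G) from rfl, e]
    ring
  have vA : A t = 2 * (l0 τ : ℂ) + 2 * (l1 τ : ℂ) := by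
    rw [hval A hA hA1, eS, e0, e1, classInner_add_right A (B0 + B1), classInner_add_right A B0,
      classInner_add_right A A, classInner_add_right A A, hA.self, hAB0, hAB1, hAE]
    ring
  have vB0 : B0 t = (σ τ : ℂ) + 2 * (l0 τ : ℂ) := by
    rw [hval B0 hB0 hB01', eS, e0, e1, classInner_add_right B0 (B0 + B1),
      classInner_add_right B0 B0, classInner_add_right B0 A, classInner_add_right B0 A, hB0.self,
      hB01, hB0E, Sgn.inner_symm hAB0]
    ring
  have vB1 : B1 t = (σ τ : ℂ) + 2 * (l1 τ : ℂ) := by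
    rw [hval B1 hB1 hB11', eS, e0, e1, classInner_add_right B1 (B0 + B1),
      classInner_add_right B1 B0, classInner_add_right B1 A, classInner_add_right B1 A, hB1.self,
      Sgn.inner_symm hB01, hB1E, Sgn.inner_symm hAB1]
    ring
  have w0 := h.W_Vl l0 hl0
  have w1 := h.W_Vl l1 hl1
  rw [e0, W_add, hA.W_eq, hB0.W_eq] at w0
  rw [e1, W_add, hA.W_eq, hB1.W_eq] at w1
  have d0 : A 1 + B0 1 = 1 := by rw [← h.Vl_one l0, e0]; rfl
  have d1' : A 1 + B1 1 = 1 := by rw [← h.Vl_one l1, e1]; rfl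
  have hdeg : B1 1 = B0 1 := by linear_combination d1' - d0
  have heq : B0 t * B0 t = B1 t * B1 t := by
    have hw : B0 t * B0 t / B0 1 = B1 t * B1 t / B0 1 := by
      rw [hdeg] at w1; linear_combination w0 - w1
    exact (div_left_inj' hB0.one_ne).1 hw
  rw [vB0, vB1] at heq
  rcases hsq σ with a | a <;> rcases hsq l0 with b | b <;> rcases hsq l1 with c | c <;>
    rw [a, b, c] at hz heq <;> first | (norm_num at hz; done) | (norm_num at heq; done)

theorem exists_shape (hσ1 : σ ≠ 1) (hk : 4 ≤ Nat.card K) :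
    ∃ (A : G → ℂ) (B : (↥K →* ℂˣ) → G → ℂ) (C C' : G → ℂ), Shape t σ A B C C' := by
  obtain ⟨l0, hl0, hl0s⟩ := h.exists_nonreal σ hk
  obtain ⟨f, g, hf, hg, hfg, eV0⟩ := h.decomp_two hσ hσi l0 hl0 hl0s
  have hs0 : Cfsg.classInner (Vl σ : G → ℂ) (Vl l0) = 1 :=
    h.inner_one hσ hσi hσ1 hl0 hl0s (fun e => hl0s (by rw [e, hσi]))
  by_cases hone : ∀ l : ↥K →* ℂˣ, l ≠ 1 → l ≠ σ → l = l0 ∨ l = l0⁻¹
  · -- one pair
    obtain ⟨A, hA, hA0, hAs⟩ : ∃ A, Sgn A ∧ Cfsg.classInner (Vl l0 : G → ℂ) A = 1 ∧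
        Cfsg.classInner (Vl σ : G → ℂ) A = 1 := by
      obtain ⟨p, q, q', hp, hq, hq', h1, h2, h3, eS⟩ := h.decomp_three hσ hσi hσ1
      rw [eV0, classInner_add_right] at hs0
      rw [eV0]
      rcases inner_three hp hq hq' hf h1 h2 h3 with ⟨e, -⟩ | e | e <;> rw [← eS] at e
      · exact ⟨f, hf, by rw [classInner_add_left, hf.self, Sgn.inner_symm hfg, add_zero], e⟩
      all_goals
        rcases inner_three hp hq hq' hg h1 h2 h3 with ⟨e', -⟩ | e' | e' <;> rw [← eS] at e'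
        · exact ⟨g, hg, by rw [classInner_add_left, hg.self, hfg, zero_add], e'⟩
        · rw [e, e'] at hs0; norm_num at hs0
        · rw [e, e'] at hs0; norm_num at hs0
    obtain ⟨B, C, C', hsh⟩ := h.shape_of_center hσ hσi hσ1 hA (fun l a b => by
      rcases hone l a b with rfl | rfl
      · exact hA0
      · rw [h.Vl_inv]; exact hA0) hAs hl0 hl0s
    exact ⟨A, B, C, C', hsh⟩
  · push Not at hone
    obtain ⟨l1, hl1, hl1s, hne, hne'⟩ := hone
    obtain ⟨f', g', hf', hg', hfg', eV1⟩ := h.decomp_two hσ hσi l1 hl1 hl1s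
    have h01 := h.inner_one hσ hσi hl0 hl1 hne hne'
    obtain ⟨A, B0, B1, hA, hB0, hB1, hAB0, hAB1, e0, e1⟩ : ∃ A B0 B1, Sgn A ∧ Sgn B0 ∧ Sgn B1 ∧
        Cfsg.classInner A B0 = 0 ∧ Cfsg.classInner A B1 = 0 ∧
        (Vl l0 : G → ℂ) = A + B0 ∧ (Vl l1 : G → ℂ) = A + B1 := by
      rw [eV1, classInner_add_right, eV0] at h01
      rcases inner_two hf hg hf' hfg with ⟨-, rfl | rfl⟩ | e | ⟨e, -⟩
      · exact ⟨f', g, g', hf', hg, hg', hfg, hfg', eV0, eV1⟩
      · exact ⟨f', f, g', hf', hf, hg', Sgn.inner_symm hfg, hfg', by rw [eV0, add_comm], eV1⟩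
      all_goals
        rcases inner_two hf hg hg' hfg with ⟨-, rfl | rfl⟩ | e' | ⟨e', -⟩
        · exact ⟨g', g, f', hg', hg, hf', hfg, Sgn.inner_symm hfg', eV0, by rw [eV1, add_comm]⟩
        · exact ⟨g', f, f', hg', hf, hf', Sgn.inner_symm hfg, Sgn.inner_symm hfg',
            by rw [eV0, add_comm], by rw [eV1, add_comm]⟩
        · rw [e, e'] at h01; norm_num at h01
        · rw [e, e'] at h01; norm_num at h01
    have hB01 : Cfsg.classInner B0 B1 = 0 := by
      have := h.inner_one hσ hσi hl0 hl1 hne hne'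
      rw [e0, e1, classInner_add_left, classInner_add_right A A, classInner_add_right B0 A, hA.self,
        hAB1, Sgn.inner_symm hAB0] at this
      linear_combination this
    have d0 : A 1 + B0 1 = 1 := by rw [← h.Vl_one l0, e0]; rfl
    have d1 : A 1 + B1 1 = 1 := by rw [← h.Vl_one l1, e1]; rfl
    obtain ⟨a0, ha0⟩ := IsGeneralizedCharacter.exists_one_int hA.gen
    obtain ⟨b0, hb0⟩ := IsGeneralizedCharacter.exists_one_int hB0.gen
    have hparity : ¬ B0 1 + B1 1 = 1 := by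
      intro hd
      rw [show B1 1 = B0 1 by linear_combination d1 - d0, hb0] at hd
      have : (2 * b0 : ℤ) = 1 := by exact_mod_cast (show ((2 * b0 : ℤ) : ℂ) = 1 by push_cast; linear_combination hd)
      omega
    have hA_all : ∀ l : ↥K →* ℂˣ, l ≠ 1 → l ≠ σ → Cfsg.classInner (Vl l : G → ℂ) A = 1 := by
      intro l hl hls
      by_cases c0 : l = l0 ∨ l = l0⁻¹
      · rcases c0 with rfl | rfl
        · rw [e0, classInner_add_left, hA.self, Sgn.inner_symm hAB0, add_zero]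
        · rw [h.Vl_inv, e0, classInner_add_left, hA.self, Sgn.inner_symm hAB0, add_zero]
      by_cases c1 : l = l1 ∨ l = l1⁻¹
      · rcases c1 with rfl | rfl
        · rw [e1, classInner_add_left, hA.self, Sgn.inner_symm hAB1, add_zero]
        · rw [h.Vl_inv, e1, classInner_add_left, hA.self, Sgn.inner_symm hAB1, add_zero]
      push Not at c0 c1
      obtain ⟨p, q, hp, hq, hpq, eVl⟩ := h.decomp_two hσ hσi l hl hls
      have i0 := h.inner_one hσ hσi hl hl0 (Ne.symm c0.1) (fun e => c0.2 (by rw [e, dual_inv_inv]))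
      have i1 := h.inner_one hσ hσi hl hl1 (Ne.symm c1.1) (fun e => c1.2 (by rw [e, dual_inv_inv]))
      rw [eVl, e0, classInner_add_right] at i0
      rw [eVl, e1, classInner_add_right] at i1
      rw [eVl]
      rcases inner_two hp hq hA hpq with ⟨ea, -⟩ | ea | ⟨ea, -⟩
      · exact ea
      all_goals
        rw [ea] at i0 i1
        rcases inner_two hp hq hB0 hpq with ⟨eb, hb⟩ | eb | ⟨eb, -⟩ <;> rw [eb] at i0 <;>
          norm_num at i0
        all_goals
          rcases inner_two hp hq hB1 hpq with ⟨ec, hc⟩ | ec | ⟨ec, -⟩ <;> rw [ec] at i1 <;>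
            norm_num at i1
          exfalso
          refine hparity ?_
          have e2 : B0 + B1 = p + q := by
            rcases hb with rfl | rfl <;> rcases hc with rfl | rfl
            · rw [hB0.self] at hB01; norm_num at hB01
            · rfl
            · exact add_comm _ _
            · rw [hB0.self] at hB01; norm_num at hB01
          rw [← Pi.add_apply, e2, ← eVl, h.Vl_one l]
    obtain ⟨p, q, q', hp, hq, hq', h1, h2, h3, eS⟩ := h.decomp_three hσ hσi hσ1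
    rcases inner_three hp hq hq' hA h1 h2 h3 with ⟨ea, -⟩ | ea | ea <;> rw [← eS] at ea
    · obtain ⟨B, C, C', hsh⟩ := h.shape_of_center hσ hσi hσ1 hA hA_all ea hl0 hl0s
      exact ⟨A, B, C, C', hsh⟩
    all_goals exfalso
    all_goals
      have isl : ∀ l : ↥K →* ℂˣ, l ≠ 1 → l ≠ σ →
          ∃ B, Sgn B ∧ Cfsg.classInner A B = 0 ∧ (Vl l : G → ℂ) = A + B ∧
            Cfsg.classInner (Vl σ : G → ℂ) B = 1 - Cfsg.classInner (Vl σ : G → ℂ) A := by
        intro l hl hls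
        obtain ⟨x, y, hx, hy, hxy, eVl⟩ := h.decomp_two hσ hσi l hl hls
        have hi := h.inner_one hσ hσi hσ1 hl hls (fun e => hls (by rw [e, hσi]))
        have hAl := hA_all l hl hls
        rw [eVl] at hAl
        rw [eVl, classInner_add_right] at hi
        rcases inner_two hx hy hA hxy with ⟨-, rfl | rfl⟩ | e | ⟨e, -⟩
        · exact ⟨y, hy, hxy, eVl, by linear_combination hi⟩
        · exact ⟨x, hx, Sgn.inner_symm hxy, by rw [eVl, add_comm], by linear_combination hi⟩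
        · rw [e] at hAl; norm_num at hAl
        · rw [e] at hAl; norm_num at hAl
      have key : ∀ (l : ↥K →* ℂˣ) (B : G → ℂ), l ≠ 1 → l ≠ σ → Sgn B → (Vl l : G → ℂ) = A + B →
          Cfsg.classInner (Vl σ : G → ℂ) B = 1 ∧ (B = p ∨ B = q ∨ B = q') := by
        intro l B hl hls hB eB
        obtain ⟨B', -, -, eB', hB'⟩ := isl l hl hls
        have : B' = B := add_left_cancel (eB'.symm.trans eB)
        rw [this, ea] at hB'
        rw [eS]
        rcases inner_three hp hq hq' hB h1 h2 h3 with e | e | e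
        · exact e
        · rw [eS, e] at hB'; norm_num at hB'
        · rw [eS, e] at hB'; norm_num at hB'
      obtain ⟨-, k0⟩ := key l0 B0 hl0 hl0s hB0 e0
      obtain ⟨-, k1⟩ := key l1 B1 hl1 hl1s hB1 e1
      obtain ⟨E, hE, eS', hB0E, hB1E⟩ : ∃ E, Sgn E ∧ (Vl σ : G → ℂ) = B0 + B1 + E ∧
          Cfsg.classInner B0 E = 0 ∧ Cfsg.classInner B1 E = 0 := by
        have hne01 : B0 ≠ B1 := fun e => by rw [e, hB1.self] at hB01; norm_num at hB01
        rcases k0 with rfl | rfl | rfl <;> rcases k1 with rfl | rfl | rfl <;> try exact absurd rfl hne01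
        · exact ⟨q', hq', eS, h2, h3⟩
        · exact ⟨q, hq, by rw [eS]; abel, h1, Sgn.inner_symm h3⟩
        · exact ⟨q', hq', by rw [eS]; abel, h3, h2⟩
        · exact ⟨p, hp, by rw [eS]; abel, Sgn.inner_symm h1, Sgn.inner_symm h2⟩
        · exact ⟨q, hq, by rw [eS]; abel, Sgn.inner_symm h3, h1⟩
        · exact ⟨p, hp, by rw [eS]; abel, Sgn.inner_symm h2, Sgn.inner_symm h1⟩
      have hAE : Cfsg.classInner A E = 0 := by
        have i := ea
        rw [eS', classInner_add_left (B0 + B1), classInner_add_left, Sgn.inner_symm hAB0,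
          Sgn.inner_symm hAB1, zero_add, zero_add] at i
        have i0 := (isl l0 hl0 hl0s).choose_spec
        have : (isl l0 hl0 hl0s).choose = B0 := add_left_cancel (i0.2.2.1.symm.trans e0)
        have hk := i0.2.2.2
        rw [this, (key l0 B0 hl0 hl0s hB0 e0).1] at hk
        rw [← classInner_conj_symm]
        have hz : Cfsg.classInner E A = 0 := by
          have : Cfsg.classInner (Vl σ : G → ℂ) A = 0 := by linear_combination hk
          rw [eS', classInner_add_left (B0 + B1), classInner_add_left, Sgn.inner_symm hAB0,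
            Sgn.inner_symm hAB1, zero_add, zero_add] at this
          exact this
        rw [hz, map_zero]
      have dS : B0 1 + B1 1 + E 1 = 1 := by rw [← h.Vl_one σ, eS']; rfl
      refine h.no_missing hσ hσi hσ1 hl0 hl0s hl1 hl1s hne hne' hA hB0 hB1 hAB0 hAB1 hB01
        (orth_one hA hB0 hAB0 (e0 ▸ h.Vl_perp l0 hl0)).1
        (orth_one hA hB0 hAB0 (e0 ▸ h.Vl_perp l0 hl0)).2
        (orth_one hA hB1 hAB1 (e1 ▸ h.Vl_perp l1 hl1)).2 e0 e1 hB0E hB1E hAE eS' fun l => ?_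
      by_contra hc
      push Not at hc
      obtain ⟨hl, hls, c0, c0', c1, c1'⟩ := hc
      obtain ⟨B, hB, hAB, eB, -⟩ := isl l hl hls
      have hk := (key l B hl hls hB eB).1
      rw [eS'] at hk
      rcases inner_three hB0 hB1 hE hB hB01 hB0E hB1E with ⟨-, hB3⟩ | e | e
      · rcases hB3 with rfl | rfl | rfl
        · have := h.inner_one hσ hσi hl hl0 (Ne.symm c0) (fun e => c0' (by rw [e, dual_inv_inv]))
          rw [eB, e0, classInner_add_left, classInner_add_right A A, classInner_add_right B A,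
            hA.self, hAB, Sgn.inner_symm hAB, hB.self] at this
          norm_num at this
        · have := h.inner_one hσ hσi hl hl1 (Ne.symm c1) (fun e => c1' (by rw [e, dual_inv_inv]))
          rw [eB, e1, classInner_add_left, classInner_add_right A A, classInner_add_right B A,
            hA.self, hAB, Sgn.inner_symm hAB, hB.self] at this
          norm_num at this
        · have dl : A 1 + B 1 = 1 := by rw [← h.Vl_one l, eB]; rfl
          rw [show B1 1 = B0 1 by linear_combination d1 - d0,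
            show B 1 = B0 1 by linear_combination dl - d0, hb0] at dS
          have : (3 * b0 : ℤ) = 1 := by
            exact_mod_cast (show ((3 * b0 : ℤ) : ℂ) = 1 by push_cast; linear_combination dS)
          omega
      · rw [hk] at e; norm_num at e
      · rw [hk] at e; norm_num at e

end Hyp

end Cfsg.Agent.BSW
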