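import Cfsg.Agent.Lib.BSW.CharsBase

/-!
Irreducible characters up to sign, and the shape of the decompositions.
-/

set_option autoImplicit false
set_option linter.unusedSectionVars false
set_option linter.style.haveILetI false

namespace Cfsg.Agent.BSW

open Cfsg Cfsg.Agent.Char
open scoped ComplexConjugate Classical

universe u

variable {G : Type u} [Group G] [Fintype G]

/-- An irreducible character up to sign. -/
def Sgn (f : G → ℂ) : Prop := Cfsg.IsIrrCharacter G f ∨ Cfsg.IsIrrCharacter G (-f)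

theorem Sgn.self {f : G → ℂ} (hf : Sgn f) : Cfsg.classInner f f = 1 := by
  rcases hf with hf | hf
  · exact classInner_self_irr hf
  · have := classInner_self_irr hf
    rwa [classInner_neg_left, classInner_neg_right, neg_neg] at this

theorem Sgn.gen {f : G → ℂ} (hf : Sgn f) : Cfsg.IsGeneralizedCharacter G f := by
  rcases hf with hf | hf
  · exact IsGeneralizedCharacter.of_isCharacter (IsIrrCharacter.isCharacter hf)
  · simpa using IsGeneralizedCharacter.neg
      (IsGeneralizedCharacter.of_isCharacter (IsIrrCharacter.isCharacter hf))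

theorem Sgn.one_ne {f : G → ℂ} (hf : Sgn f) : f 1 ≠ 0 := by
  rcases hf with hf | hf
  · exact IsIrrCharacter.one_ne_zero hf
  · simpa using IsIrrCharacter.one_ne_zero hf

theorem Sgn.cases {f g : G → ℂ} (hf : Sgn f) (hg : Sgn g) :
    f = g ∨ f = -g ∨ Cfsg.classInner f g = 0 := by
  rcases hf with hf | hf <;> rcases hg with hg | hg
  · by_cases e : f = g
    · exact Or.inl e
    · exact Or.inr (Or.inr (classInner_irr_of_ne hf hg e))
  · by_cases e : f = -g
    · exact Or.inr (Or.inl e)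
    · have := classInner_irr_of_ne hf hg e
      rw [classInner_neg_right, neg_eq_zero] at this
      exact Or.inr (Or.inr this)
  · by_cases e : -f = g
    · exact Or.inr (Or.inl (by rw [← e, neg_neg]))
    · have := classInner_irr_of_ne hf hg e
      rw [classInner_neg_left, neg_eq_zero] at this
      exact Or.inr (Or.inr this)
  · by_cases e : -f = -g
    · exact Or.inl (neg_inj.1 e)
    · have := classInner_irr_of_ne hf hg e
      rw [classInner_neg_left, classInner_neg_right, neg_neg] at this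
      exact Or.inr (Or.inr this)

theorem Sgn.inner_int {f g : G → ℂ} (hf : Sgn f) (hg : Sgn g) :
    (f = g ∧ Cfsg.classInner f g = 1) ∨ (f = -g ∧ Cfsg.classInner f g = -1) ∨
      Cfsg.classInner f g = 0 := by
  rcases hf.cases hg with e | e | e
  · exact Or.inl ⟨e, by rw [e]; exact hg.self⟩
  · exact Or.inr (Or.inl ⟨e, by rw [e, classInner_neg_left, hg.self]⟩)
  · exact Or.inr (Or.inr e)

theorem Sgn.inner_symm {f g : G → ℂ} (e : Cfsg.classInner f g = 0) : Cfsg.classInner g f = 0 := by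
  rw [← classInner_conj_symm, e, map_zero]

/-- A signed character orthogonal to `g` has inner product of absolute value at most one with
`f + g`. -/
theorem inner_two {f g x : G → ℂ} (hf : Sgn f) (hg : Sgn g) (hx : Sgn x)
    (hfg : Cfsg.classInner f g = 0) :
    (Cfsg.classInner (f + g) x = 1 ∧ (x = f ∨ x = g)) ∨ Cfsg.classInner (f + g) x = -1 ∨
      (Cfsg.classInner (f + g) x = 0 ∧ Cfsg.classInner f x = 0 ∧ Cfsg.classInner g x = 0) := by
  rw [classInner_add_left]
  rcases hf.inner_int hx with ⟨rfl, e⟩ | ⟨rfl, e⟩ | e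
  · rw [e, Sgn.inner_symm hfg]
    exact Or.inl ⟨add_zero 1, Or.inl rfl⟩
  · rw [classInner_neg_left, neg_eq_zero] at hfg
    rw [e, Sgn.inner_symm hfg]
    exact Or.inr (Or.inl (add_zero _))
  · rcases hg.inner_int hx with ⟨rfl, e'⟩ | ⟨rfl, e'⟩ | e'
    · rw [e, e']
      exact Or.inl ⟨zero_add 1, Or.inr rfl⟩
    · rw [e, e']
      exact Or.inr (Or.inl (zero_add _))
    · rw [e, e']
      exact Or.inr (Or.inr ⟨add_zero 0, rfl, rfl⟩)

/-- The same for three summands. -/
theorem inner_three {f g g' x : G → ℂ} (hf : Sgn f) (hg : Sgn g) (hg' : Sgn g') (hx : Sgn x)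
    (hfg : Cfsg.classInner f g = 0) (hfg' : Cfsg.classInner f g' = 0)
    (hgg' : Cfsg.classInner g g' = 0) :
    (Cfsg.classInner (f + g + g') x = 1 ∧ (x = f ∨ x = g ∨ x = g')) ∨
      Cfsg.classInner (f + g + g') x = -1 ∨ Cfsg.classInner (f + g + g') x = 0 := by
  rw [classInner_add_left (f + g) g']
  rcases hg'.inner_int hx with ⟨rfl, e⟩ | ⟨rfl, e⟩ | e
  · rw [e, classInner_add_left, hfg', hgg']
    exact Or.inl ⟨by norm_num, Or.inr (Or.inr rfl)⟩
  · rw [classInner_neg_right, neg_eq_zero] at hfg' hgg'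
    rw [e, classInner_add_left, hfg', hgg']
    exact Or.inr (Or.inl (by norm_num))
  · rw [e, add_zero]
    rcases inner_two hf hg hx hfg with ⟨h1, h2⟩ | h1 | ⟨h1, -⟩
    · exact Or.inl ⟨h1, h2.elim Or.inl fun h3 => Or.inr (Or.inl h3)⟩
    · exact Or.inr (Or.inl h1)
    · exact Or.inr (Or.inr h1)

/-- Orthogonal to a sum means orthogonal to both. -/
theorem orth_of_sum {f g x : G → ℂ} (hf : Sgn f) (hg : Sgn g) (hx : Sgn x)
    (hfg : Cfsg.classInner f g = 0) (h : Cfsg.classInner (f + g) x = 0) :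
    Cfsg.classInner f x = 0 ∧ Cfsg.classInner g x = 0 := by
  rcases inner_two hf hg hx hfg with ⟨h1, -⟩ | h1 | ⟨-, h2⟩
  · simp [h] at h1
  · simp [h] at h1
  · exact h2

/-- A signed character from an irreducible one and a sign. -/
theorem sgn_smul (ψ : IrrCharacter G) {c : ℤ} (hc : c = 1 ∨ c = -1) :
    Sgn ((c : ℂ) • (ψ : G → ℂ)) := by
  rcases hc with rfl | rfl
  · left; simpa using ψ.2
  · right; simpa using ψ.2

theorem small_norm {a : G → ℂ} (h : Cfsg.IsGeneralizedCharacter G a) {N : ℕ} (hN : N ≤ 3)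
    (h2 : Cfsg.classInner a a = N) :
    ∃ (S : Finset (IrrCharacter G)) (c : IrrCharacter G → ℤ), S.card = N ∧
      (∀ ψ ∈ S, c ψ = 1 ∨ c ψ = -1) ∧ a = ∑ ψ ∈ S, (c ψ : ℂ) • (ψ : G → ℂ) := by
  obtain ⟨c, hc, -⟩ := IsGeneralizedCharacter.exists_coeff h
  rw [IsGeneralizedCharacter.norm_eq hc] at h2
  have h2' : ∑ ψ, c ψ * c ψ = (N : ℤ) := by exact_mod_cast h2
  set S := Finset.univ.filter (fun ψ => c ψ ≠ 0) with hs
  have hsum : ∑ ψ ∈ S, c ψ * c ψ = (N : ℤ) := by
    rw [← h2']
    refine Finset.sum_subset (Finset.subset_univ _) fun x _ hx => ?_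
    simp only [hs, Finset.mem_filter, Finset.mem_univ, true_and, not_not] at hx
    simp [hx]
  have hbound : ∀ ψ ∈ S, c ψ = 1 ∨ c ψ = -1 := by
    intro ψ hψ
    have hle : c ψ * c ψ ≤ 3 := le_trans
      (Finset.single_le_sum (fun x _ => mul_self_nonneg (c x)) hψ) (hsum ▸ by exact_mod_cast hN)
    have hne : c ψ ≠ 0 := (Finset.mem_filter.1 hψ).2
    have h3 : -2 < c ψ ∧ c ψ < 2 := ⟨by nlinarith, by nlinarith⟩
    omega
  refine ⟨S, c, ?_, hbound, ?_⟩
  · have : ∑ ψ ∈ S, c ψ * c ψ = S.card := by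
      rw [Finset.card_eq_sum_ones, Nat.cast_sum]
      exact Finset.sum_congr rfl fun ψ hψ => by
        rcases hbound ψ hψ with e | e <;> simp [e]
    exact_mod_cast this.symm.trans hsum
  · rw [hc]
    refine (Finset.sum_subset (Finset.subset_univ _) fun x _ hx => ?_).symm
    simp only [hs, Finset.mem_filter, Finset.mem_univ, true_and, not_not] at hx
    simp [hx]

theorem orth_smul {ψ φ : IrrCharacter G} (hne : ψ ≠ φ) (a b : ℂ) :
    Cfsg.classInner (a • (ψ : G → ℂ)) (b • (φ : G → ℂ)) = 0 := by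
  rw [classInner_smul_left, classInner_smul_right,
    classInner_irr_of_ne ψ.2 φ.2 fun e => hne (Subtype.ext e)]
  simp

theorem norm_two {a : G → ℂ} (h : Cfsg.IsGeneralizedCharacter G a)
    (h2 : Cfsg.classInner a a = 2) :
    ∃ f g, Sgn f ∧ Sgn g ∧ Cfsg.classInner f g = 0 ∧ a = f + g := by
  obtain ⟨S, c, hS, hc, ha⟩ := small_norm h (N := 2) (by norm_num) (by simpa using h2)
  obtain ⟨x, y, hxy, rfl⟩ := Finset.card_eq_two.1 hS
  refine ⟨_, _, sgn_smul x (hc x (by simp)), sgn_smul y (hc y (by simp)), orth_smul hxy _ _, ?_⟩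
  rw [ha, Finset.sum_pair hxy]

theorem norm_three {a : G → ℂ} (h : Cfsg.IsGeneralizedCharacter G a)
    (h3 : Cfsg.classInner a a = 3) :
    ∃ f g g', Sgn f ∧ Sgn g ∧ Sgn g' ∧ Cfsg.classInner f g = 0 ∧ Cfsg.classInner f g' = 0 ∧
      Cfsg.classInner g g' = 0 ∧ a = f + g + g' := by
  obtain ⟨S, c, hS, hc, ha⟩ := small_norm h (N := 3) le_rfl (by simpa using h3)
  obtain ⟨x, y, z, hxy, hxz, hyz, rfl⟩ := Finset.card_eq_three.1 hS
  refine ⟨_, _, _, sgn_smul x (hc x (by simp)), sgn_smul y (hc y (by simp)),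
    sgn_smul z (hc z (by simp)), orth_smul hxy _ _, orth_smul hxz _ _, orth_smul hyz _ _, ?_⟩
  rw [ha, Finset.sum_insert (by simp [hxy, hxz]), Finset.sum_pair hyz, add_assoc]

/-- Orthogonality of the summands to the principal character. -/
theorem orth_one {f g : G → ℂ} (hf : Sgn f) (hg : Sgn g) (hfg : Cfsg.classInner f g = 0)
    (h : Cfsg.classInner (f + g) (fun _ => 1) = 0) :
    Cfsg.classInner f (fun _ => 1) = 0 ∧ Cfsg.classInner g (fun _ => 1) = 0 :=
  orth_of_sum hf hg (Or.inl isIrrCharacter_one) hfg h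

theorem Sgn.W_eq {f : G → ℂ} (hf : Sgn f) (t : G) : Hyp.W t f = f t * f t / f 1 := by
  rcases hf with hf | hf
  · rw [Hyp.W, Finset.sum_eq_single ⟨f, hf⟩]
    · simp [classInner_self_irr hf]
    · intro χ _ hχ
      rw [classInner_irr_of_ne χ.2 hf fun e => hχ (Subtype.ext e), mul_zero]
    · exact fun hn => absurd (Finset.mem_univ _) hn
  · rw [Hyp.W, Finset.sum_eq_single ⟨-f, hf⟩]
    · show (-f) t * (-f) t / (-f) 1 * Cfsg.classInner (-f) f = _
      rw [show Cfsg.classInner (-f) f = -1 by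
        rw [classInner_neg_left, (show Sgn f from Or.inr hf).self]]
      simp only [Pi.neg_apply]
      ring
    · intro χ _ hχ
      have := classInner_irr_of_ne χ.2 hf fun e => hχ (Subtype.ext e)
      rw [classInner_neg_right, neg_eq_zero] at this
      rw [this, mul_zero]
    · exact fun hn => absurd (Finset.mem_univ _) hn

end Cfsg.Agent.BSW
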